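import Cfsg.Agent.H2.Systems
import Cfsg.Agent.S0046

/-!
Normal subgroups of every order in nilpotent groups; Wielandt's theorem on nilpotent Hall
subgroups.
-/

set_option autoImplicit false
open Pointwise

namespace Cfsg.Agent.H2

universe u

private theorem nilp_aux (n : ℕ) : ∀ (G : Type u) [Group G] [Finite G] [Group.IsNilpotent G],
    Nat.card G = n → ∀ d : ℕ, d ∣ Nat.card G → ∃ H : Subgroup G, H.Normal ∧ Nat.card H = d := by
  induction n using Nat.strongRecOn with | ind n ih => ?_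
  rintro G _ _ _ rfl d hd
  rcases subsingleton_or_nontrivial G with hs | hs
  · rw [Nat.card_eq_one_iff_unique.mpr ⟨inferInstance, inferInstance⟩, Nat.dvd_one] at hd
    exact ⟨⊥, inferInstance, by rw [hd, Subgroup.card_bot]⟩
  by_cases hd1 : d = 1
  · exact ⟨⊥, inferInstance, by rw [hd1, Subgroup.card_bot]⟩
  obtain ⟨p, hp, hpd⟩ := Nat.exists_prime_and_dvd hd1
  have : Fact p.Prime := ⟨hp⟩
  obtain ⟨P⟩ : Nonempty (Sylow p G) := inferInstance
  obtain ⟨Q, hQ⟩ := exists_isPiHall {q | q ≠ p} G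
  have hQn : Q.Normal := isPiHall_normal_of_isNilpotent hQ
  have hP0 := P.ne_bot_of_dvd_card (hpd.trans hd)
  have : Nontrivial (P : Subgroup G) := (Subgroup.nontrivial_iff_ne_bot _).mpr hP0
  have := P.isPGroup'.center_nontrivial
  obtain ⟨z, hz⟩ := exists_prime_orderOf_dvd_card' (G := Subgroup.center (P : Subgroup G)) p
    ((P.isPGroup'.to_subgroup _).card_eq_or_dvd.resolve_left Finite.one_lt_card.ne')
  have hzc : ((z : (P : Subgroup G)) : G) ∈ Subgroup.center G := by
    rw [Subgroup.mem_center_iff]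
    intro g
    have hcop : (P : Subgroup G).index.Coprime Q.index :=
      ((isPiHall_iff.mp (isPiHall_sylow P)).2.coprime
        (by rw [compl_compl, ← compl_ne_eq_singleton]; exact (isPiHall_iff.mp hQ).2))
    obtain ⟨x, hx, y, hy, rfl⟩ := (S0007.result _ _ hcop).2 g
    have h1 : x * z = z * x := congrArg Subtype.val (Subgroup.mem_center_iff.mp z.2 ⟨x, hx⟩)
    have h2 : Commute ((z : (P : Subgroup G)) : G) y :=
      Subgroup.commute_of_normal_of_disjoint (P : Subgroup G) Q inferInstance hQn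
        (Subgroup.disjoint_of_coprime_natCard (IsPiNum.coprime (π := {p}) (isPiHall_sylow P).1
          (by rw [← compl_ne_eq_singleton, compl_compl]; exact hQ.1))) _ _ (z : (P : Subgroup G)).2 hy
    rw [mul_assoc, ← h2.eq, ← mul_assoc, h1, mul_assoc]
  set Z := Subgroup.zpowers ((z : (P : Subgroup G)) : G) with hZ
  have hZc : Nat.card Z = p := by
    rw [hZ, Nat.card_zpowers, Subgroup.orderOf_coe, Subgroup.orderOf_coe, hz]
  have hZn : Z.Normal := ⟨fun x hx g => by
    rw [Subgroup.mem_center_iff.mp (Subgroup.zpowers_le.mpr hzc hx) g, mul_inv_cancel_right]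
    exact hx⟩
  have hZ0 : Z ≠ ⊥ := by
    rw [← Subgroup.one_lt_card_iff_ne_bot, hZc]
    exact hp.one_lt
  obtain ⟨e, rfl⟩ := hpd
  obtain ⟨H, hHn, hH⟩ := ih _ (card_quotient_lt_of_ne_bot hZ0) (G ⧸ Z) rfl e (by
    rw [← Z.card_mul_index, hZc] at hd
    exact Nat.dvd_of_mul_dvd_mul_left hp.pos hd)
  exact ⟨H.comap (QuotientGroup.mk' Z), inferInstance, by rw [card_comap_mk', hZc, hH]⟩

/-- A finite nilpotent group has a normal subgroup of every order dividing its order. -/
theorem exists_normal_card_eq_of_isNilpotent {G : Type*} [Group G] [Finite G]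
    [Group.IsNilpotent G] {d : ℕ} (hd : d ∣ Nat.card G) :
    ∃ H : Subgroup G, H.Normal ∧ Nat.card H = d :=
  nilp_aux _ G rfl d hd

/-- A nontrivial solvable group all of whose proper subgroups are nilpotent has a nontrivial
normal Sylow subgroup. -/
theorem exists_normal_sylow_of_proper_nilpotent {G : Type*} [Group G] [Finite G] [Nontrivial G]
    (h : ∀ M : Subgroup G, M ≠ ⊤ → Group.IsNilpotent M) :
    ∃ q : ℕ, q.Prime ∧ ∃ Q : Subgroup G, Q.Normal ∧ Q ≠ ⊥ ∧ IsPiHall {q} Q := by
  have : Group.IsSolvable G := S0046.result fun M hM => h M hM.1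
  have hc := (Group.IsSolvable.commutator_lt_top_of_nontrivial G).ne
  have : Nontrivial (G ⧸ commutator G) := QuotientGroup.nontrivial_iff.mpr hc
  obtain ⟨r, hr, hrd⟩ := Nat.exists_prime_and_dvd (Subgroup.index_eq_one.not.mpr hc)
  obtain ⟨R, hR⟩ := exists_isPiHall {q | q ≠ r} G
  set M := R ⊔ commutator G with hM
  have hMn : M.Normal := Subgroup.Normal.of_commutator_le _ le_sup_right
  have hMt : M ≠ ⊤ := by
    intro hMt
    have h1 : (commutator G).index ∣ Nat.card R := by
      rw [← Subgroup.relIndex_top_right, ← hMt, Subgroup.relIndex_sup_right]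
      exact Subgroup.relIndex_dvd_card _ R
    exact hR.1 r hr (hrd.trans h1) rfl
  have hMi : IsPiNum {r} M.index := by
    rw [← compl_ne_eq_singleton]
    exact (isPiHall_iff.mp hR).2.of_dvd (Subgroup.index_dvd_of_le le_sup_left)
  have := h M hMt
  by_cases hG : IsPiNum {r} (Nat.card G)
  · refine ⟨r, hr, ⊤, inferInstance, top_ne_bot, isPiHall_iff.mpr ⟨?_, ?_⟩⟩
    · rwa [Subgroup.card_top]
    · rw [Subgroup.index_top]
      exact isPiNum_one _
  · simp only [IsPiNum, not_forall] at hG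
    obtain ⟨q, hq, hqd, hqr⟩ := hG
    have : Fact q.Prime := ⟨hq⟩
    obtain ⟨Q⟩ : Nonempty (Sylow q M) := inferInstance
    have hQc := Q.characteristic_of_normal inferInstance
    refine ⟨q, hq, (Q : Subgroup M).map M.subtype, inferInstance, ?_, ?_, ?_⟩
    · rw [Ne, Subgroup.map_eq_bot_iff_of_injective _ M.subtype_injective]
      apply Q.ne_bot_of_dvd_card
      rw [← M.card_mul_index, hq.dvd_mul] at hqd
      exact hqd.resolve_right fun h => hqr (hMi q hq h)
    · exact IsPiNum.of_dvd (isPiHall_sylow Q).1 (Subgroup.card_map_dvd _ _)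
    · rintro s hs rfl hd
      rw [Subgroup.index_map_subtype, hq.dvd_mul] at hd
      exact hd.elim Q.not_dvd_index fun h => hqr (hMi s hs h)

private theorem wielandt_aux (n : ℕ) : ∀ (G : Type u) [Group G] [Finite G] (π : Set ℕ)
    (H K : Subgroup G), Nat.card K = n → Group.IsNilpotent H → IsPiHall π H →
    IsPiNum π (Nat.card K) → ∃ g : G, K ≤ MulAut.conj g • H := by
  induction n using Nat.strongRecOn with | ind n ih => ?_
  rintro G _ _ π H K rfl hHn hH hK
  by_cases hK0 : K = ⊥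
  · exact ⟨1, hK0 ▸ bot_le⟩
  have : Nontrivial K := (Subgroup.nontrivial_iff_ne_bot K).mpr hK0
  obtain ⟨q, hq, Q₀, hQ₀n, hQ₀0, hQ₀⟩ := exists_normal_sylow_of_proper_nilpotent (G := K) (by
    intro M hM
    have h1 : Nat.card (M.map K.subtype) = Nat.card M :=
      Subgroup.card_map_of_injective K.subtype_injective
    obtain ⟨g, hg⟩ := ih _ (h1 ▸ card_lt_of_ne_top hM) G π H (M.map K.subtype) rfl hHn hH
      (hK.of_dvd (h1 ▸ M.card_subgroup_dvd_card))
    have := isNilpotent_of_le hg (isNilpotent_conj_smul g hHn)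
    exact Group.nilpotent_of_mulEquiv (M.equivMapOfInjective _ K.subtype_injective).symm)
  have : Fact q.Prime := ⟨hq⟩
  obtain ⟨L₀, hL₀⟩ := Subgroup.exists_right_complement'_of_coprime (isPiHall_coprime hQ₀)
  set Q := Q₀.map K.subtype with hQdef
  set L := L₀.map K.subtype with hLdef
  have hQp : IsPGroup q Q := (isPGroup_of_isPiNum hQ₀.1).map _
  have hLc : Nat.card L = Q₀.index := by
    rw [hLdef, Subgroup.card_map_of_injective K.subtype_injective, hL₀.symm.index_eq_card]
  have hqπ : q ∈ π := hK q hq (((isPGroup_of_isPiNum hQ₀.1).card_eq_or_dvd.resolve_left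
    (Q₀.one_lt_card_iff_ne_bot.mpr hQ₀0).ne').trans Q₀.card_subgroup_dvd_card)
  have hKQL : K = Q ⊔ L := by
    rw [hQdef, hLdef, ← Subgroup.map_sup, hL₀.sup_eq_top, ← MonoidHom.range_eq_map,
      Subgroup.range_subtype]
  have hKQ : K ≤ Subgroup.normalizer (Q : Set G) := by
    have h1 := Q₀.le_normalizer_map K.subtype
    rwa [Subgroup.normalizer_eq_top, ← MonoidHom.range_eq_map, Subgroup.range_subtype] at h1
  -- move `H` so that it contains `Q`
  obtain ⟨H', hH'c, hQH'⟩ : ∃ H' : Subgroup G, (∃ g : G, H' = MulAut.conj g • H) ∧ Q ≤ H' := by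
    obtain ⟨S⟩ : Nonempty (Sylow q H) := inferInstance
    have hS : IsPiHall {q} ((S : Subgroup H).map H.subtype) := by
      refine ⟨IsPiNum.of_dvd (isPiHall_sylow S).1 (Subgroup.card_map_dvd _ _), ?_⟩
      rintro s hs rfl hd
      rw [Subgroup.index_map_subtype, hq.dvd_mul] at hd
      exact hd.elim S.not_dvd_index (hH.2 s hs hqπ)
    obtain ⟨S', hS'⟩ := exists_sylow_eq_of_isPiHall hS
    obtain ⟨T, hT⟩ := hQp.exists_le_sylow
    obtain ⟨g, hg⟩ := MulAction.exists_smul_eq G S' T
    refine ⟨_, ⟨g, rfl⟩, hT.trans ?_⟩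
    rw [← hg, Sylow.coe_subgroup_smul, hS', Subgroup.pointwise_smul_le_pointwise_smul_iff]
    exact Subgroup.map_subtype_le _
  obtain ⟨g, rfl⟩ := hH'c
  set H' := MulAut.conj g • H with hH'def
  have hH'n : Group.IsNilpotent H' := isNilpotent_conj_smul g hHn
  have hH' : IsPiHall π H' := isPiHall_conj_smul hH g
  obtain ⟨A₀, hA₀⟩ := exists_isPiHall {r | r ≠ q} H'
  have hA₀n : A₀.Normal := isPiHall_normal_of_isNilpotent hA₀
  set A := A₀.map H'.subtype with hAdef
  have hA : IsPiHall (π ∩ {r | r ≠ q}) A := by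
    refine ⟨fun r hr hd => ⟨hH'.1 r hr (hd.trans (Subgroup.card_dvd_of_le
      (Subgroup.map_subtype_le _))), hA₀.1 r hr (hd.trans (Subgroup.card_map_dvd _ _))⟩,
      fun r hr hπ hd => ?_⟩
    rw [Subgroup.index_map_subtype, hr.dvd_mul] at hd
    exact hd.elim (hA₀.2 r hr hπ.2) (hH'.2 r hr hπ.1)
  have hAN : A ≤ Subgroup.normalizer (Q : Set G) := by
    refine le_trans ?_ (Subgroup.centralizer_le_normalizer _)
    rintro _ ⟨a, ha, rfl⟩ x hx
    obtain ⟨S, hS⟩ := (hQp.comap_subtype (K := H')).exists_le_sylow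
    have h2 : Commute (⟨x, hQH' hx⟩ : H') a :=
      Subgroup.commute_of_normal_of_disjoint (S : Subgroup H') A₀ inferInstance hA₀n
        (Subgroup.disjoint_of_coprime_natCard (IsPiNum.coprime (π := {q}) (isPiHall_sylow S).1
          (by rw [← compl_ne_eq_singleton, compl_compl]; exact hA₀.1))) _ _ (hS hx) ha
    exact congrArg Subtype.val h2.eq
  set N := Subgroup.normalizer (Q : Set G) with hN
  have hLK : L ≤ K := Subgroup.map_subtype_le _
  have hLN : L ≤ N := hLK.trans hKQ
  have hLlt : Nat.card (L.subgroupOf N) < Nat.card K := by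
    rw [card_subgroupOf_of_le hLN, hLc, ← Q₀.card_mul_index]
    exact lt_mul_of_one_lt_left (Nat.pos_of_ne_zero Subgroup.index_ne_zero_of_finite)
      (Q₀.one_lt_card_iff_ne_bot.mpr hQ₀0)
  obtain ⟨y, hy⟩ := ih _ hLlt N _ (A.subgroupOf N) (L.subgroupOf N) rfl
    (isNilpotent_subgroupOf N (isNilpotent_of_le (Subgroup.map_subtype_le _) hH'n))
    (isPiHall_subgroupOf_of_le hA hAN) (by
      rw [card_subgroupOf_of_le hLN]
      refine fun r hr hd => ⟨hK r hr (hd.trans (Subgroup.card_dvd_of_le hLK)), ?_⟩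
      rintro rfl
      exact hQ₀.2 r hr rfl (hLc ▸ hd))
  refine ⟨y * g, ?_⟩
  rw [← conj_smul_conj_smul, hKQL]
  refine sup_le ?_ ?_
  · rw [← conj_smul_eq_iff_mem_normalizer.mpr y.2]
    exact Subgroup.pointwise_smul_le_pointwise_smul_iff.mpr hQH'
  · have h1 := Subgroup.map_mono (f := N.subtype) hy
    rw [map_conj_smul, Subgroup.map_subgroupOf_eq_of_le hLN,
      Subgroup.map_subgroupOf_eq_of_le hAN] at h1
    exact h1.trans (Subgroup.pointwise_smul_le_pointwise_smul_iff.mpr (Subgroup.map_subtype_le _))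

/-- Wielandt: a group with a nilpotent Hall `π`-subgroup satisfies `D_π`. -/
theorem le_conj_of_isNilpotent_isPiHall {G : Type*} [Group G] [Finite G] {π : Set ℕ}
    {H K : Subgroup G} (hHn : Group.IsNilpotent H) (hH : IsPiHall π H)
    (hK : IsPiNum π (Nat.card K)) : ∃ g : G, K ≤ MulAut.conj g • H :=
  wielandt_aux _ G π H K rfl hHn hH hK

end Cfsg.Agent.H2
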