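import Mathlib
import Cfsg.Agent.H17.KnDef2
import Cfsg.Agent.S0051

/-!
# Piece K19: the centraliser of the central involution when the signalizer group has order three
-/

set_option autoImplicit false
set_option maxRecDepth 100000

namespace Cfsg.Agent.H2Kn

open Equiv Subgroup Cfsg.Agent.H63 Cfsg.Agent.H8.GD Cfsg.Agent.H17.Kn
open Cfsg.Agent.H11.A16 hiding z2

universe u

/-- An additive function on the model with the right values is the parity. -/
theorem add_eq_par (hP : ∀ K : Subgroup N2, (∀ p, dl p ∈ K) → PP ≤ K) (t : N2 → ZMod 2)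
    (ht : ∀ a b, t (a * b) = t a + t b) (h0 : t f0 = 0)
    (h1 : t (dl 0 * dl 1 * dl 2 * dl 3 * dl 4 * dl 5 * dl 6) = 1) (m : N2) : t m = par m := by
  have aa : ∀ a : ZMod 2, a + a = 0 := by decide
  have t1 : t 1 = 0 := by have := ht 1 1; rw [mul_one] at this; rw [this, aa]
  have ti : ∀ a, t a⁻¹ = t a := fun a => by
    have := ht a a⁻¹; rw [mul_inv_cancel, t1] at this
    revert this; generalize t a = x; generalize t a⁻¹ = y; revert x y; decide
  have tc : ∀ a b, t (a * b * a⁻¹) = t b := fun a b => by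
    rw [ht, ht, ti, add_comm (t a), add_assoc, aa, add_zero]
  have p1 : par 1 = 0 := by decide
  have pi : ∀ a, par a⁻¹ = par a := fun a => by
    have := par_mul a a⁻¹; rw [mul_inv_cancel, p1] at this
    revert this; generalize par a = x; generalize par a⁻¹ = y; revert x y; decide
  let K : Subgroup N2 :=
    { carrier := {a | t a = par a}
      one_mem' := t1.trans p1.symm
      mul_mem' := fun {a b} ha hb => by
        change t _ = par _
        rw [ht, par_mul, show t a = par a from ha, show t b = par b from hb]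
      inv_mem' := fun {a} ha => by
        change t _ = par _
        rw [ti, pi, show t a = par a from ha] }
  have hd : ∀ p, t (dl p) = t (dl 6) := fun p => by
    rw [← tc (tp p 6) (dl 6), show tp p 6 * dl 6 * (tp p 6)⁻¹ = dl p by revert p; decide +kernel]
  have hd6 : t (dl 6) = 1 := by
    simp only [ht] at h1
    rw [hd 0, hd 1, hd 2, hd 3, hd 4, hd 5] at h1
    revert h1; generalize t (dl 6) = x; revert x; decide
  have k1 : PP ≤ K := hP K fun p => by
    change t _ = par _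
    rw [hd, hd6]; revert p; decide +kernel
  have k2 : ∀ σ : Perm P, sec2 σ ∈ K := fun σ => by
    induction σ using Perm.swap_induction_on with
    | one => rw [map_one]; exact one_mem _
    | swap_mul f x y hxy ih =>
      rw [map_mul]
      refine mul_mem ?_ ih
      obtain ⟨c, hc⟩ := isConj_iff.1 (Perm.isConj_swap (show (6 : P) ≠ 7 by decide) hxy)
      change t _ = par _
      rw [← hc, map_mul, map_mul, map_inv, tc, par_mul, par_mul, pi, add_comm (par (sec2 c)),
        add_assoc, aa, add_zero]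
      exact h0.trans (by decide +kernel)
  have k3 : (sec2 m.σ)⁻¹ * m ∈ PP := by
    change ((sec2 m.σ)⁻¹ * m).σ = 1
    exact inv_mul_cancel m.σ
  have := mul_mem (k2 m.σ) (k1 k3)
  rwa [mul_inv_cancel_left] at this

theorem conj_dl7 (m : N2) (h : m.σ 7 = 7) : m * dl 7 = dl 7 * m := by
  refine N2.ext (by simp [dl]) (funext fun p => ?_)
  have e : m.σ p = 7 ↔ p = 7 :=
    ⟨fun a => m.σ.injective (a.trans h.symm), fun a => a ▸ h⟩
  simp only [N2.mul_f, dl, Perm.coe_one, id_eq, e]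
  exact add_comm _ _

variable {G : Type u} [Group G]

/-- The elements of a group of order three. -/
theorem three {W : Subgroup G} (h : Nat.card W = 3) : ∃ c ∈ W, orderOf c = 3 ∧ W = zpowers c ∧
    ∀ w ∈ W, w = 1 ∨ w = c ∨ w = c⁻¹ := by
  have : Fact (Nat.Prime 3) := ⟨by norm_num⟩
  have : Finite W := Nat.finite_of_card_ne_zero (by omega)
  have := isCyclic_of_prime_card h
  obtain ⟨c, hc⟩ := IsCyclic.exists_generator (α := W)
  have o : orderOf (c : G) = 3 := by
    rw [Subgroup.orderOf_coe, orderOf_eq_card_of_forall_mem_zpowers hc, h]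
  have z : W = zpowers (c : G) := le_antisymm (fun w hw => by
    obtain ⟨k, hk⟩ := hc ⟨w, hw⟩
    exact ⟨k, congrArg Subtype.val hk⟩) (zpowers_le.2 c.2)
  refine ⟨c, c.2, o, z, fun w hw => ?_⟩
  rw [z, mem_zpowers_iff] at hw
  obtain ⟨k, rfl⟩ := hw
  have c3 : (c : G) ^ (3 : ℤ) = 1 := by
    have := pow_orderOf_eq_one (c : G)
    rw [o] at this; exact_mod_cast this
  have e : (c : G) ^ k = (c : G) ^ (k % 3) := by
    conv_lhs => rw [← Int.mul_ediv_add_emod k 3, zpow_add, zpow_mul, c3, one_zpow, one_mul]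
  have : k % 3 = 0 ∨ k % 3 = 1 ∨ k % 3 = 2 := by omega
  rw [e]
  rcases this with a | a | a <;> rw [a]
  · exact Or.inl (zpow_zero _)
  · exact Or.inr (Or.inl (zpow_one _))
  · refine Or.inr (Or.inr (eq_inv_of_mul_eq_one_left ?_))
    rw [← c3, show (3 : ℤ) = 2 + 1 from rfl, zpow_add, zpow_one]

/-- Piece K19. -/
theorem k19 (hB : Base.{u}) (hk : K19bStmt.{u}) : K19Stmt.{u} := by
  classical
  intro G _ _ J φ s ρ n W fe wd ix c3 hinf hO
  obtain ⟨c, hcW, oc, hWz, hW⟩ := three c3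
  have c1 : c ≠ 1 := fun e => by rw [e, orderOf_one] at oc; omega
  have cc : c * c * c = 1 := by rw [← pow_orderOf_eq_one c, oc, pow_three, mul_assoc]
  have cn : c⁻¹ ≠ c := fun e => c1 (by
    rw [← cc]; nth_rewrite 2 [← e]; rw [inv_mul_cancel, one_mul])
  have w3 : ∀ w ∈ W, w * w * w = 1 := fun w hw => by
    rcases hW w hw with rfl | rfl | rfl
    · simp
    · exact cc
    · rw [← mul_inv_rev, ← mul_inv_rev, ← mul_assoc, cc, inv_one]
  have dich : ∀ g ∈ N[W], g * c * g⁻¹ = c ∨ g * c * g⁻¹ = c⁻¹ := fun g hg => by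
    rcases hW _ ((mem_normalizer_iff.1 hg c).1 hcW) with a | a | a
    · exact absurd (by simpa using a) c1
    · exact Or.inl a
    · exact Or.inr a
  -- the sign
  let sg : G → ZMod 2 := fun g => if g * c * g⁻¹ = c then 0 else 1
  have sg0 : ∀ g, g * c * g⁻¹ = c → sg g = 0 := fun g h => if_pos h
  have sg1 : ∀ g, g * c * g⁻¹ = c⁻¹ → sg g = 1 := fun g h => if_neg (h ▸ cn)
  have sgm : ∀ g ∈ N[W], ∀ h ∈ N[W], sg (g * h) = sg g + sg h := fun g hg h hh => by
    have e : g * h * c * (g * h)⁻¹ = g * (h * c * h⁻¹) * g⁻¹ := by group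
    have e' : g * c⁻¹ * g⁻¹ = (g * c * g⁻¹)⁻¹ := by group
    rcases dich g hg with a | a <;> rcases dich h hh with b | b
    · rw [sg0 g a, sg0 h b, sg0 _ (by rw [e, b, a])]; rfl
    · rw [sg0 g a, sg1 h b, sg1 _ (by rw [e, b, e', a])]; rfl
    · rw [sg1 g a, sg0 h b, sg1 _ (by rw [e, b, a])]; rfl
    · rw [sg1 g a, sg1 h b, sg0 _ (by rw [e, b, e', a, inv_inv])]; rfl
  have sgW : ∀ w ∈ W, sg w = 0 := fun w hw => sg0 w (by
    rcases hW w hw with rfl | rfl | rfl <;> group)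
  have sgc : ∀ g ∈ N[W], ∀ h ∈ N[W], sg (g * h * g⁻¹) = sg h := fun g hg h hh => by
    have a := sgm _ (mul_mem (mul_mem hg hh) (inv_mem hg)) g hg
    rw [inv_mul_cancel_right, sgm g hg h hh] at a
    revert a; generalize sg g = x; generalize sg h = y; generalize sg (g * h * g⁻¹) = z
    revert x y z; decide
  -- the homomorphism
  have hWH : W ≤ C1[J z2] := hO ▸ map_subtype_le _
  let ρh : C1[J z2] →* N2 := MonoidHom.mk' (fun g => ρ g) fun a b => fe.mo.mul a a.2 b b.2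
  have ρs : Function.Surjective ρh := fun m => let ⟨g, a, b⟩ := fe.mo.sur m; ⟨⟨g, a⟩, b⟩
  have ρk : ∀ g : C1[J z2], ρh g = 1 ↔ (g : G) ∈ W := fun g => hO ▸ fe.kerO g g.2
  choose lf hlf using ρs
  let t : N2 → ZMod 2 := fun m => sg (lf m)
  have tρ : ∀ g : C1[J z2], t (ρh g) = sg g := fun g => by
    have a : ((g⁻¹ * lf (ρh g) : C1[J z2]) : G) ∈ W := (ρk _).1 (by rw [map_mul, map_inv, hlf]; group)
    have b := sgm g (wd.nC g.2) _ (wd.nC (hWH a))
    rw [sgW _ a, add_zero, coe_mul, coe_inv, mul_inv_cancel_left] at b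
    exact b
  have tm : ∀ a b, t (a * b) = t a + t b := fun a b => by
    have := tρ (lf a * lf b)
    rw [map_mul, hlf, hlf, coe_mul, sgm _ (wd.nC (lf a).2) _ (wd.nC (lf b).2)] at this
    exact this
  have tJ : ∀ u ∈ S2, t u = sg (J u) := fun u hu => by
    have := tρ ⟨J u, fe.mo.le u hu⟩
    rwa [show ρh ⟨J u, fe.mo.le u hu⟩ = u from fe.mo.res u hu] at this
  have FS : FF ≤ S2 := fun u hu => (hB.m2.le.2.2.2.2.2.2.2.2.2.2.2.2.1 hu).1
  have FJ : ∀ i, FF ≤ JI i := hB.m2.le.2.2.2.2.2.2.2.2.2.2.2.2.2.2.2.2.2.2.2.2.2.2.2.2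
  have t0 : t f0 = 0 := by
    obtain ⟨θ, -, hθ⟩ := fe.tht 3
    have hN : θ ∈ N[im J FF] := by
      refine mem_normalizer_fintype fun a ha => ?_
      obtain ⟨u, hu, rfl⟩ := (fe.em2.mono FS).mem.1 ha
      obtain ⟨v, hv, e⟩ := (hB.m2.thm 3).1 u hu
      rw [hθ u (FJ 3 hu) v (FJ 3 hv) e]
      exact mem_im hv
    have mF : ∀ k, wb 3 k ∈ FF := by decide +kernel
    have k : ∀ k, t (wb 3 (ω k)) = t (wb 3 k) := fun k => by
      have e := hθ _ (FJ 3 (mF k)) _ (FJ 3 (mF (ω k))) (by revert k; decide +kernel)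
      rw [tJ _ (FS (mF _)), tJ _ (FS (mF _)), ← e]
      exact sgc θ (wd.nF hN) _ (wd.nC (fe.mo.le _ (FS (mF k))))
    have a1 : t (wb 3 0) = t (wb 3 1) := k 1
    have a2 : t (wb 3 1) = t (wb 3 2) := k 2
    have a3 := tm (wb 3 1) (wb 3 0)
    rw [show wb 3 1 * wb 3 0 = wb 3 2 by decide +kernel, ← a2, a1] at a3
    rw [show f0 = wb 3 1 by decide +kernel]
    revert a3; generalize t (wb 3 1) = x; revert x; decide
  have t1 : t (dl 0 * dl 1 * dl 2 * dl 3 * dl 4 * dl 5 * dl 6) = 1 := by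
    have hS : dl 0 * dl 1 * dl 2 * dl 3 * dl 4 * dl 5 * dl 6 ∈ S2 := by decide +kernel
    rw [tJ _ hS]
    refine (dich _ (wd.nC (fe.mo.le _ hS))).elim (fun a => ?_) (sg1 _)
    have b := ix.cen (dl 0 * dl 1 * dl 2 * dl 3 * dl 4 * dl 5) (by decide +kernel)
      (by decide +kernel) (x := c) ⟨hcW, mem_centralizer_singleton_iff.2 (mul_inv_eq_iff_eq_mul.1 a).symm⟩
    exact absurd (mem_bot.1 (hinf ▸ mem_inf.2 ⟨hcW, b⟩)) c1
  have tp : ∀ m, t m = par m := add_eq_par hB.m2.gPP t tm t0 t1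
  have act : ∀ g : C1[J z2], (g : G) * c * (g : G)⁻¹ = if par (ρh g) = 0 then c else c⁻¹ := fun g => by
    rw [← tp, tρ]
    rcases dich g (wd.nC g.2) with a | a
    · rw [sg0 _ a, if_pos rfl, a]
    · rw [sg1 _ a, if_neg (by decide), a]
  -- the complement
  have d7 : dl 7 ∈ S2 := by decide +kernel
  let d : C1[J z2] := ⟨J (dl 7), fe.mo.le _ d7⟩
  have ρd : ρh d = dl 7 := fe.mo.res _ d7
  have dc : (d : G) * c * (d : G)⁻¹ = c⁻¹ := by
    rw [act, ρd, if_neg (by decide +kernel)]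
  have dW : ∀ w ∈ W, (d : G) * w * (d : G)⁻¹ = w⁻¹ := fun w hw => by
    rcases hW w hw with rfl | rfl | rfl
    · group
    · exact dc
    · rw [show (d : G) * c⁻¹ * (d : G)⁻¹ = ((d : G) * c * (d : G)⁻¹)⁻¹ by group, dc]
  let U : Subgroup C1[J z2] := ((MulAction.stabilizer (Perm P) (7 : P)).comap π2).comap ρh
  have hU : U.index = 8 := by
    rw [index_comap_of_surjective _ fun m => ⟨lf m, hlf m⟩,
      index_comap_of_surjective _ (f := π2) fun σ => ⟨sec2 σ, rfl⟩,
      MulAction.index_stabilizer_of_transitive]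
    simp
  have hKc : Nat.card ρh.ker = 3 := by
    rw [← c3]
    refine Nat.card_congr ⟨fun g => ⟨g.1, (ρk _).1 g.2⟩, fun w => ⟨⟨w, hWH w.2⟩, (ρk _).2 w.2⟩,
      fun _ => rfl, fun _ => rfl⟩
  have : Fact (Nat.Prime 3) := ⟨by norm_num⟩
  have := isCyclic_of_prime_card hKc
  have : IsMulCommutative ρh.ker := IsCyclic.isMulCommutative
  have hKU : ρh.ker ≤ U := fun g hg => by
    change π2 (ρh g) ∈ MulAction.stabilizer (Perm P) (7 : P)
    rw [MonoidHom.mem_ker.1 hg, map_one]; exact one_mem _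
  obtain ⟨L, hL⟩ := S0051.result ρh.ker U hKU (by rw [hKc, hU]; norm_num) (U ⊓ C1[d]) inf_le_left
    (by
      refine eq_bot_iff.2 fun g hg => mem_bot.2 (Subtype.ext ?_)
      have a := (ρk g).1 hg.2
      have b : (g : G) * d = d * g := congrArg Subtype.val (mem_centralizer_singleton_iff.1 hg.1.2)
      have e := dW _ a
      rw [← b, mul_inv_cancel_right] at e
      have f := w3 _ a
      nth_rewrite 1 [e] at f
      rw [inv_mul_cancel, one_mul] at f
      exact f)
    (by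
      refine le_antisymm (sup_le hKU inf_le_left) fun g hg => ?_
      have a : ρh (g * d * g⁻¹ * d⁻¹) = 1 := by
        rw [map_mul, map_mul, map_mul, map_inv, map_inv, ρd, conj_dl7 _ hg]; group
      have a' := (ρk _).1 a
      have e : g = (g * d * g⁻¹ * d⁻¹)⁻¹ * (g * d * g⁻¹ * d⁻¹ * g) := by group
      rw [e]
      refine mul_mem (mem_sup_left (inv_mem a)) (mem_sup_right ⟨mul_mem (hKU a) hg,
        mem_centralizer_singleton_iff.2 (Subtype.ext ?_)⟩)
      have f := w3 _ a'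
      have f' := dW _ a'
      simp only [coe_mul, coe_inv] at f f' ⊢
      generalize (g : G) = x at f f' ⊢
      generalize (d : G) = y at f f' ⊢
      have f2 : x * y * x⁻¹ * y⁻¹ * x * y * (x * y * x⁻¹ * y⁻¹ * x)⁻¹ =
          (x * y * x⁻¹ * y⁻¹) * (x * y * x⁻¹ * y⁻¹) *
            (y * (x * y * x⁻¹ * y⁻¹) * y⁻¹)⁻¹ * y := by group
      rw [f', inv_inv, f, one_mul] at f2
      exact mul_inv_eq_iff_eq_mul.1 f2)
  have hb : Function.Bijective (ρh.comp L.subtype) := by
    refine ⟨(injective_iff_map_eq_one _).2 fun g hg => Subtype.ext ?_, fun m => ?_⟩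
    · exact mem_bot.1 (hL.disjoint.le_bot ⟨hg, g.2⟩)
    · obtain ⟨⟨a, b⟩, e⟩ := hL.2 (lf m)
      refine ⟨b, ?_⟩
      rw [← hlf m, ← e]
      change ρh b = ρh (a * b)
      rw [map_mul, MonoidHom.mem_ker.1 a.2, one_mul]
  let j0 : N2 →* C1[J z2] := L.subtype.comp (MulEquiv.ofBijective _ hb).symm.toMonoidHom
  have ρj : ∀ m, ρh (j0 m) = m := fun m => (MulEquiv.ofBijective _ hb).apply_symm_apply m
  let j : N2 →* G := (C1[J z2]).subtype.comp j0
  have z2S : z2 ∈ S2 := by decide +kernel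
  have jz : j z2 = J z2 := by
    let y : C1[J z2] := ⟨J z2, fe.mo.le _ z2S⟩
    have a : (((j0 z2)⁻¹ * y : C1[J z2]) : G) ∈ W := (ρk _).1 (by
      rw [map_mul, map_inv, ρj, show ρh y = z2 from fe.mo.res _ z2S, inv_mul_cancel])
    have zz : z2 * z2 = 1 := by decide +kernel
    have b1 : j z2 * j z2 = 1 := by rw [← map_mul, zz, map_one]
    have b2 : J z2 * J z2 = 1 := by rw [← fe.em2.mul _ z2S _ z2S, zz, fe.em2.one]
    have b3 : j z2 * J z2 = J z2 * j z2 := mem_centralizer_singleton_iff.1 (j0 z2).2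
    have f := w3 _ a
    change (j z2)⁻¹ * J z2 * ((j z2)⁻¹ * J z2) * ((j z2)⁻¹ * J z2) = 1 at f
    rw [inv_eq_of_mul_eq_one_right b1] at f
    have f2 : j z2 * J z2 * (j z2 * J z2) = 1 := by
      nth_rewrite 2 [b3]
      rw [mul_assoc, ← mul_assoc (J z2), b2, one_mul, b1]
    rw [f2, one_mul] at f
    rw [eq_inv_of_mul_eq_one_left f, inv_eq_of_mul_eq_one_right b2]
  refine hk j c (fun a b e => ?_) ((hB.kit J φ fe.toKi).ind fe.simple) oc (fun m => ?_) ?_
  · rw [← ρj a, ← ρj b, show j0 a = j0 b from Subtype.ext e]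
  · have := act (j0 m)
    rwa [ρj] at this
  · rw [jz, ← hWz]
    refine le_antisymm (fun g hg => ?_) (sup_le hWH ?_)
    · have a : ((⟨g, hg⟩ * (j0 (ρh ⟨g, hg⟩))⁻¹ : C1[J z2]) : G) ∈ W := (ρk _).1 (by
        rw [map_mul, map_inv, ρj, mul_inv_cancel])
      have := mul_mem (mem_sup_left a : _ ∈ W ⊔ j.range)
        (mem_sup_right ⟨ρh ⟨g, hg⟩, rfl⟩ : j (ρh ⟨g, hg⟩) ∈ W ⊔ j.range)
      rwa [show ((⟨g, hg⟩ * (j0 (ρh ⟨g, hg⟩))⁻¹ : C1[J z2]) : G) = g * (j (ρh ⟨g, hg⟩))⁻¹ from rfl,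
        inv_mul_cancel_right] at this
    · rintro _ ⟨m, rfl⟩
      exact (j0 m).2

end Cfsg.Agent.H2Kn
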