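import Cfsg.Agent.H96.D4Defs

/-! Essential subgroups of the Sylow subgroup of `³D₄(q)` with a non-pure central element. -/

set_option autoImplicit false

namespace Cfsg.Agent.H2D4

open Cfsg.Agent.H97 Cfsg.Agent.H96.VB Cfsg.Agent.H96.CP Cfsg.Agent.H96.DF Subgroup
open scoped commutatorElement

universe u

/-- A set stable under right multiplication by `P` and by an element outside `P`. -/
theorem dvd_ncard {G : Type u} [Group G] [Finite G] {p : ℕ} [Fact p.Prime] (hG : IsPGroup p G)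
    {P : Subgroup G} {S : Set G} (h1 : ∀ h ∈ P, ∀ c, c ∈ S ↔ c * h ∈ S) {y : G} (hy : y ∉ P)
    (h2 : ∀ c, c ∈ S ↔ c * y ∈ S) : p * Nat.card P ∣ S.ncard := by
  let H : Subgroup G :=
    { carrier := {h | ∀ c, c ∈ S ↔ c * h ∈ S}
      one_mem' := fun c => by simp
      mul_mem' := fun {a b} ha hb c => by rw [← mul_assoc, ← hb, ← ha]
      inv_mem' := fun {a} ha c => by rw [ha (c * a⁻¹), inv_mul_cancel_right] }
  have hP : P ≤ H := h1
  have e1 : Nat.card H ∣ S.ncard := by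
    have : S = QuotientGroup.mk ⁻¹' ((QuotientGroup.mk : G → G ⧸ H) '' S) := by
      ext c
      refine ⟨fun hc => ⟨c, hc, rfl⟩, fun ⟨d, hd, e⟩ => ?_⟩
      have := (QuotientGroup.eq.1 e d).1 hd
      simpa using this
    rw [this, ← Nat.card_coe_set_eq,
      Nat.card_congr (QuotientGroup.preimageMkEquivSubgroupProdSet H _), Nat.card_prod]
    exact Dvd.intro _ rfl
  refine dvd_trans ?_ e1
  obtain ⟨n, hn⟩ := (hG.to_subgroup H).index (P.subgroupOf H)
  rw [← (P.subgroupOf H).index_mul_card, Nat.card_congr (subgroupOfEquivOfLe hP).toEquiv, hn]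
  refine mul_dvd_mul_right (dvd_pow_self p ?_) _
  rintro rfl
  rw [pow_zero, index_eq_one, subgroupOf_eq_top] at hn
  exact hy (hn h2)

variable {F K : Type u} [Field F] [Field K] [Algebra F K] {C : Tri F K}

theorem span1 [Finite K] {s k : K} (h : ∀ x, C.T (s * x) = 0 → C.T (k * x) = 0) :
    ∃ a : F, k = a • s := by
  by_cases hs : s = 0
  · exact ⟨0, by rw [zero_smul]; exact C.T_nd fun b => h b (by simp [hs])⟩
  obtain ⟨b, hb⟩ := C.T_onto hs 1
  refine ⟨C.T (k * b), sub_eq_zero.1 (C.T_nd fun x => ?_)⟩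
  have := h (x - C.T (s * x) • b) (by simp [mul_sub, hb])
  simp only [mul_sub, mul_smul_comm, map_sub, map_smul, smul_eq_mul, sub_mul, smul_mul_assoc] at this ⊢
  linear_combination this

theorem dual1 [Finite K] {t y : K} (h : ∀ c d : F, c • t + d • y = 0 → c = 0 ∧ d = 0) :
    ∃ x, C.T (t * x) = 1 ∧ C.T (y * x) = 0 := by
  have : ∃ x, C.T (y * x) = 0 ∧ C.T (t * x) ≠ 0 := by
    by_contra! k
    obtain ⟨a, ha⟩ := span1 k
    exact one_ne_zero (h 1 (-a) (by simp [ha])).1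
  obtain ⟨x, h1, h2⟩ := this
  exact ⟨(C.T (t * x))⁻¹ • x, by simp [h2], by simp [h1]⟩

theorem dual2 [Finite K] {t y : K} (h : ∀ c d : F, c • t + d • y = 0 → c = 0 ∧ d = 0) (a z : F) :
    ∃ x, C.T (t * x) = a ∧ C.T (y * x) = z := by
  obtain ⟨x1, h1, h2⟩ := dual1 (C := C) h
  obtain ⟨x2, h3, h4⟩ := dual1 (C := C) (t := y) (y := t) fun c d e => (h d c (by rw [add_comm, e])).symm
  exact ⟨a • x1 + z • x2, by simp [mul_add, *], by simp [mul_add, *]⟩

theorem span2 [Finite K] {t y k : K} (h : ∀ c d : F, c • t + d • y = 0 → c = 0 ∧ d = 0)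
    (e : ∀ x, C.T (t * x) = 0 → C.T (y * x) = 0 → C.T (k * x) = 0) : ∃ a b : F, k = a • t + b • y := by
  obtain ⟨x1, h1, h2⟩ := dual2 (C := C) h 1 0
  obtain ⟨x2, h3, h4⟩ := dual2 (C := C) h 0 1
  refine ⟨C.T (k * x1), C.T (k * x2), sub_eq_zero.1 (C.T_nd fun x => ?_)⟩
  have := e (x - C.T (t * x) • x1 - C.T (y * x) • x2) (by simp [mul_sub, h1, h3])
    (by simp [mul_sub, h2, h4])
  simp only [mul_sub, mul_smul_comm, map_sub, map_smul, smul_eq_mul, sub_mul, smul_mul_assoc, add_mul,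
    map_add] at this ⊢
  linear_combination this

/-- `t#`, `t × s`, `s#` are independent. -/
theorem indep3 {t s : K} (h : ∀ c d : F, c • t + d • s = 0 → c = 0 ∧ d = 0) {a b c : F}
    (e : a • C.sh t + b • C.cr t s + c • C.sh s = 0) : a = 0 ∧ b = 0 ∧ c = 0 := by
  have hs : s ≠ 0 := fun k => one_ne_zero (h 0 1 (by simp [k])).2
  have hD : t * C.σ s - C.σ t * s ≠ 0 := fun k => by
    have h1 : C.σ s ≠ 0 := by simpa using hs
    obtain ⟨d, hd⟩ := C.fix (t / s) (by rw [map_div₀, div_eq_div_iff h1 hs]; linear_combination -k)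
    exact one_ne_zero (h 1 (-d) (by rw [Algebra.smul_def, Algebra.smul_def, map_neg, hd]; simp [hs])).1
  have e1 := congrArg C.σ e
  revert e e1
  d4n
  intro e e1
  have k1 : algebraMap F K a * C.σ (C.σ t) + algebraMap F K b * C.σ (C.σ s) = 0 :=
    (mul_eq_zero.1 (by linear_combination C.σ s * e1 - s * e)).resolve_left hD
  have k2 : algebraMap F K b * C.σ (C.σ t) + algebraMap F K c * C.σ (C.σ s) = 0 :=
    (mul_eq_zero.1 (by linear_combination t * e - C.σ t * e1)).resolve_left hD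
  have k3 := congrArg C.σ k1
  have k4 := congrArg C.σ k2
  simp only [map_add, map_mul, AlgEquiv.commutes, C.σ3, map_zero] at k3 k4
  simp only [← Algebra.smul_def] at k3 k4
  exact ⟨(h _ _ k3).1, (h _ _ k4).1, (h _ _ k4).2⟩

theorem comm_Y {y v : U C} (hy : y ∈ Y C) (hv : v.u = 0) :
    ⁅y, v⁆ = xw C (-C.T (v.t * y.x)) (-C.T (v.y * y.x)) := by
  obtain ⟨h1, h2, h3⟩ := mem_Y.1 hy
  ext <;> simp [xw, comm_y, comm_x, comm_a, comm_z_E h2 hv, h1, h2, h3, hv, mul_comm]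

theorem xw_mem (a z : F) : xw C a z ∈ W C := ⟨rfl, rfl, rfl, rfl⟩

theorem xx_mem (x : K) : xx C x ∈ Y C := ⟨rfl, rfl, rfl⟩

theorem W_comm {w v : U C} (hw : w ∈ W C) (hv : v.u = 0) : w * v = v * w := by
  obtain ⟨h1, h2, h3, h4⟩ := hw
  rw [← commutatorElement_eq_one_iff_mul_comm, comm_Y (mem_Y.2 ⟨h1, h2, h3⟩) hv, h4]
  simp [xw]
  rfl

theorem np_onto [Finite K] {v w : U C} (hv : NP v) (hw : w ∈ W C) : ∃ y ∈ Y C, ⁅y, v⁆ = w := by
  obtain ⟨x, h1, h2⟩ := dual2 (C := C) hv.2 (-w.a) (-w.z)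
  obtain ⟨h3, h4, h5, h6⟩ := hw
  refine ⟨xx C x, xx_mem x, ?_⟩
  rw [comm_Y (xx_mem x) hv.1]
  ext <;> simp [xw, xx, *]

theorem cr_of_comm {g h : U C} (hg : g.u = 0) (hh : h.u = 0) (e : g * h = h * g) :
    C.cr g.t h.y = C.cr h.t g.y := by
  have := comm_x g h
  rw [commutatorElement_eq_one_iff_mul_comm.2 e, hg, hh] at this
  exact sub_eq_zero.1 (by simpa using this.symm)

/-- An element of `E` commuting with a non-pure element is non-pure or lies in `Y`. -/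
theorem np_or (h2 : (2 : F) ≠ 0) {g h : U C} (hg : NP g) (hh : h.u = 0) (e : g * h = h * g) :
    h ∈ Y C ∨ NP h := by
  have e1 := cr_of_comm hg.1 hh e
  have ht : g.t ≠ 0 := fun k => one_ne_zero (hg.2 1 0 (by simp [k])).1
  by_cases k : h.t = 0
  · refine Or.inl (mem_Y.2 ⟨k, hh, C.cr_eq_zero_odd h2 ht ?_⟩)
    simp [e1, k]
  refine Or.inr ⟨hh, fun c d e2 => ?_⟩
  have e3 : C.cr h.t (c • g.t + d • g.y) = 0 := by
    rw [C.cr_add, C.cr_smul, C.cr_smul, ← e1, C.cr_comm h.t, ← C.cr_smul, ← C.cr_smul, ← C.cr_add, e2,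
      C.cr_zero]
  exact hg.2 c d (C.cr_eq_zero_odd h2 k e3)

/-- An element commuting with `v` and with `C_Y(v)` is proportional to `v` modulo `Y`. -/
theorem prop_of_comm [Finite K] (h2 : (2 : F) ≠ 0) {v h : U C} (hv : NP v) (hh : h.u = 0)
    (e : v * h = h * v) (e' : ∀ y ∈ Y C, ⁅y, v⁆ = 1 → ⁅y, h⁆ = 1) :
    ∃ a : F, h.t = a • v.t ∧ h.y = a • v.y := by
  have k : ∀ x, C.T (v.t * x) = 0 → C.T (v.y * x) = 0 → C.T (h.t * x) = 0 ∧ C.T (h.y * x) = 0 := by
    intro x h1 h3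
    have := e' (xx C x) (xx_mem x) (by rw [comm_Y (xx_mem x) hv.1]; ext <;> simp [xw, xx, *])
    rw [comm_Y (xx_mem x) hh] at this
    exact ⟨by simpa [xw, xx] using congrArg U.a this, by simpa [xw, xx] using congrArg U.z this⟩
  obtain ⟨a, b, h3⟩ := span2 hv.2 fun x h1 h3 => (k x h1 h3).1
  obtain ⟨c, d, h4⟩ := span2 hv.2 fun x h1 h3 => (k x h1 h3).2
  have e1 := cr_of_comm hv.1 hh e
  rw [h3, h4] at e1
  obtain ⟨k1, k2, k3⟩ := indep3 (C := C) hv.2 (a := 2 * c) (b := d - a) (c := -(2 * b)) (by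
    revert e1
    d4n
    intro e1
    linear_combination e1)
  have hc : c = 0 := (mul_eq_zero.1 k1).resolve_left h2
  have hb : b = 0 := (mul_eq_zero.1 (neg_eq_zero.1 k3)).resolve_left h2
  exact ⟨a, by simp [h3, hb], by simp [h4, hc, sub_eq_zero.1 k2]⟩

theorem ce_ext {P : Subgroup (U C)} (α : MulAut P) {v : U C} (h : Ce P v) : Ce P (ext α v) :=
  ⟨ext_mem α h.1, fun x hx => by
    have hx' := ext_mem α⁻¹ hx
    have := congrArg (ext α) (h.2 _ hx')
    rwa [ext_map_mul α h.1 hx', ext_map_mul α hx' h.1, ext_ext_inv] at this⟩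

theorem e3 [Finite K] {p : ℕ} [Fact p.Prime] [CharP F p] : E3Stmt C p := by
  intro hp P hq hE g hg hN
  haveI : Finite F := Finite.of_injective _ (algebraMap F K).injective
  have h2 : (2 : F) ≠ 0 := fun h => hp ((Nat.prime_dvd_prime_iff_eq Fact.out Nat.prime_two).1
    ((CharP.cast_eq_zero_iff F p 2).1 (by exact_mod_cast h)))
  obtain ⟨A, B, h⟩ := hq.ex
  have hW : ∀ w ∈ W C, Ce P w := fun w hw =>
    have e : ∀ x ∈ P, w * x = x * w := fun x hx => W_comm hw (hE hx)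
    ⟨h.cen w e, e⟩
  have hYW : ∀ y ∈ Y C, ∀ x ∈ P, ⁅y, x⁆ ∈ W C := fun y hy x hx => by
    rw [comm_Y hy (hE hx)]; exact xw_mem _ _
  have hY : ∃ y ∈ Y C, y ∉ P := by
    obtain ⟨y, hy, e⟩ := np_onto hN (xw_mem 1 0)
    refine ⟨y, hy, fun k => ?_⟩
    rw [commutatorElement_eq_one_iff_mul_comm.2 (hg.2 y k).symm] at e
    exact zero_ne_one (congrArg U.a e)
  have key : ∀ α ∈ A, ∀ v, Ce P v → ∃ y ∈ Y C, y ∉ P ∧ ext α ⁅y, v⁆ ∈ W C := by
    intro α hα v hv
    rcases np_or h2 hN (hE hv.1) (hg.2 v hv.1) with k | k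
    · obtain ⟨y, hy, hyP⟩ := hY
      refine ⟨y, hy, hyP, ?_⟩
      have : ⁅y, v⁆ = 1 := by
        rw [comm_Y hy (hE hv.1), (mem_Y.1 k).1, (mem_Y.1 k).2.2]
        ext <;> simp [xw]
      rw [this, ext_map_one]
      exact one_mem _
    by_contra! hc
    have c1 : ∀ y ∈ Y C, ext α ⁅y, v⁆ ∈ W C → y ∈ P := fun y hy e => by
      by_contra k'
      exact hc y hy k' e
    have c2 : ∀ w ∈ W C, ext α w ∈ W C → w = 1 := fun w hw e => by
      obtain ⟨y, hy, rfl⟩ := np_onto k hw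
      exact commutatorElement_eq_one_iff_mul_comm.2 (hv.2 y (c1 y hy e)).symm
    have c3 : ∀ s : F × F, ∃ a : F, (ext α⁻¹ (xw C s.1 s.2)).t = a • v.t ∧
        (ext α⁻¹ (xw C s.1 s.2)).y = a • v.y := fun s => by
      have k1 := ce_ext α⁻¹ (hW _ (xw_mem s.1 s.2))
      refine prop_of_comm h2 k (hE k1.1) (hv.2 _ k1.1) fun y hy e => ?_
      refine commutatorElement_eq_one_iff_mul_comm.2 (k1.2 y (c1 y hy ?_)).symm
      rw [e, ext_map_one]
      exact one_mem _
    choose f hf using c3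
    have hinj : Function.Injective f := fun s s' e => by
      have m1 := xw_mem (C := C) s.1 s.2
      have m2 := xw_mem (C := C) s'.1 s'.2
      have m3 := mul_mem (inv_mem m1) m2
      have k1 : ext α⁻¹ ((xw C s.1 s.2)⁻¹ * xw C s'.1 s'.2) ∈ Y C := by
        have u1 : (ext α⁻¹ (xw C s.1 s.2)).u = 0 := hE (ext_mem _ (hW _ m1).1)
        have u2 : (ext α⁻¹ (xw C s'.1 s'.2)).u = 0 := hE (ext_mem _ (hW _ m2).1)
        rw [ext_map_mul _ (inv_mem (hW _ m1).1) (hW _ m2).1, ext_map_inv _ (hW _ m1).1]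
        simp [mem_Y, hf, e, u1, u2]
      have k2 := c2 _ (h.g1 _ m3 _ k1 (Rel.ext (inv_mem hα) (hW _ m3).1)) (by rwa [ext_ext_inv])
      have k3 := congrArg (ext α) k2
      rw [ext_ext_inv, ext_map_one, inv_mul_eq_one] at k3
      exact Prod.ext (congrArg U.a k3) (congrArg U.z k3)
    have := Nat.card_le_card_of_injective f hinj
    rw [Nat.card_prod] at this
    have h1 : 1 < Nat.card F := Finite.one_lt_card
    nlinarith
  have hR : Y C ⊔ P ≤ normalizer (P : Set (U C)) :=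
    sup_le (fun y hy => mem_normalizer_of_comm fun x hx => (hW _ (hYW y hy x hx)).1) le_normalizer
  have hRE : Y C ⊔ P ≤ E C := sup_le (fun y hy => (mem_Y.1 hy).2.1) hE
  have hI : Iv A (W C) := by
    refine h.tr _ (Y C ⊔ P) (h.hv fun R hR => ⟨g, hR.le hg.1, hN⟩).1 le_sup_right hR
      fun α hα _ v hv => ?_
    rcases Set.eq_empty_or_nonempty {c | c ∈ Y C ⊔ P ∧ ext α (c * v * c⁻¹) ∈ (W C : Set (U C))}
      with k | ⟨c, hc, k⟩
    · rw [k]; simp
    have hv' : Ce P v := by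
      have k1 := ce_ext α⁻¹ (hW _ k)
      rw [ext_inv_ext] at k1
      refine ⟨hv, fun x hx => ?_⟩
      have := k1.2 _ ((mem_normalizer_iff.1 (hR hc) x).1 hx)
      apply (MulAut.conj c).injective
      simpa [mul_assoc] using this
    obtain ⟨y, hy, hyP, e⟩ := key α hα v hv'
    refine dvd_ncard (U.isPGroup p) (fun s hs d => ?_) hyP fun d => ?_
    · have : d * s * v * (d * s)⁻¹ = d * v * d⁻¹ := by
        rw [mul_assoc d s, ← hv'.2 s hs]; group
      simp only [Set.mem_ofPred_eq, this, mul_mem_cancel_right (mem_sup_right hs : s ∈ Y C ⊔ P)]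
    · simp only [Set.mem_ofPred_eq, mul_mem_cancel_right (mem_sup_left hy : y ∈ Y C ⊔ P)]
      refine and_congr_right fun hd => ?_
      have m := hYW y hy v hv
      have : d * y * v * (d * y)⁻¹ = ⁅y, v⁆ * (d * v * d⁻¹) := by
        rw [← mul_assoc, ← mul_assoc, W_comm m (hRE hd), commutatorElement_def]; group
      rw [this, ext_map_mul α (hW _ m).1 ((mem_normalizer_iff.1 (hR hd) v).1 hv), SetLike.mem_coe,
        SetLike.mem_coe, mul_mem_cancel_left e]
  obtain ⟨y, hy, hyP⟩ := hY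
  refine hyP (h.chain [W C] (by simpa using ⟨fun w hw => (hW w hw).1, hI⟩) y ⟨hYW y hy, fun x hx => ?_⟩)
  exact commutatorElement_eq_one_iff_mul_comm.2 (W_comm hx (mem_Y.1 hy).2.1).symm

end Cfsg.Agent.H2D4
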