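import Cfsg.Agent.H37.FkKit
import Cfsg.Agent.S5542
import Cfsg.Agent.S1704
import Cfsg.Agent.S1705
import Cfsg.Agent.S5563
import Cfsg.Agent.H97.BrD
import Cfsg.Agent.H97.YtMain
import Cfsg.Agent.H16.J4Cz
import Cfsg.Agent.H52.FStar
import Cfsg.Agent.H48.Simple
import Cfsg.Agent.H74.Mathieu
import Cfsg.Agent.H49.XS
import Cfsg.Agent.H83.J4H

/-!
# S5161, piece BM: the Monster, the Baby Monster and the fourth Janko group
-/

set_option autoImplicit false

namespace Cfsg.Agent.H2FK

open Cfsg Subgroup Cfsg.Agent.H37.FK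
open scoped commutatorElement

theorem es_facts {A : Type*} [Group A] {Q : Subgroup A} (hQ : IsExtraspecial 2 Q) {z : A}
    (hz : z ∈ Q) (h1 : z ≠ 1) (hc : ∀ y ∈ Q, y * z = z * y) :
    (∀ x ∈ Q, (∀ y ∈ Q, x * y = y * x) → x = 1 ∨ x = z) ∧ (∀ x ∈ Q, x * x = 1 ∨ x * x = z) := by
  have two : ∀ c : Q, c ∈ center Q → c = 1 ∨ c = ⟨z, hz⟩ := by
    intro c hcc
    obtain ⟨y, -, hy⟩ := (Nat.card_eq_two_iff' (1 : center Q)).1 hQ.2
    by_cases e : c = 1
    · exact Or.inl e
    · right
      have hzc : (⟨z, hz⟩ : Q) ∈ center Q :=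
        mem_center_iff.2 fun g => Subtype.ext (hc g g.2)
      have a1 := hy ⟨c, hcc⟩ (fun h => e (congrArg Subtype.val h))
      have a2 := hy ⟨_, hzc⟩ (fun h => h1 (congrArg (fun t : center Q => ((t : Q) : A)) h))
      exact congrArg Subtype.val (a1.trans a2.symm)
  have cen : ∀ x ∈ Q, (∀ y ∈ Q, x * y = y * x) → x = 1 ∨ x = z := by
    intro x hx h
    rcases two ⟨x, hx⟩ (mem_center_iff.2 fun g => Subtype.ext (h g g.2).symm) with e | e
    · exact Or.inl (congrArg Subtype.val e)
    · exact Or.inr (congrArg Subtype.val e)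
  have zz : z * z = 1 := by
    rcases cen (z * z) (mul_mem hz hz) (fun y hy => by
      rw [mul_assoc, ← hc y hy, ← mul_assoc, ← hc y hy, mul_assoc]) with e | e
    · exact e
    · exact absurd (by simpa using e) h1
  refine ⟨cen, fun x hx => cen _ (mul_mem hx hx) fun y hy => ?_⟩
  have hm : (⁅(⟨x, hx⟩ : Q), (⟨y, hy⟩ : Q)⁆ : Q) ∈ center Q := by
    rw [← hQ.1.2.2]
    exact commutator_mem_commutator (mem_top _) (mem_top _)
  rcases two _ hm with e | e
  · have e' : x * y = y * x := by
      have := congrArg Subtype.val e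
      simp only [commutatorElement_def, coe_mul, coe_inv, coe_one] at this
      rw [← mul_inv_eq_one, mul_inv_rev, ← mul_assoc]
      exact this
    rw [mul_assoc, e', ← mul_assoc, e', mul_assoc]
  · have e' : x * y = z * (y * x) := by
      have := congrArg Subtype.val e
      simp only [commutatorElement_def, coe_mul, coe_inv] at this
      rw [← this]; group
    calc x * x * y = x * (z * (y * x)) := by rw [mul_assoc, e']
      _ = z * (x * y) * x := by rw [← mul_assoc, hc x hx]; group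
      _ = y * (x * x) := by rw [e', ← mul_assoc, zz]; group

theorem nas_of_card {K : Type*} [Group K] [Finite K] (h : IsSimpleGroup K)
    (h6 : 6 ∣ Nat.card K) : NAS K := by
  refine ⟨h, fun hc => ?_⟩
  let _ : CommGroup K := { (inferInstance : Group K) with mul_comm := hc.1.1 }
  have hp : (Nat.card K).Prime := IsSimpleGroup.prime_card
  rcases hp.eq_one_or_self_of_dvd 6 h6 with e | e
  · omega
  · rw [← e] at hp
    exact absurd hp (by decide)

theorem nsc2_of_simple {L : Type*} [Group L] (h : IsSimpleGroup L) (hn : NSC L) : NSC2 L := by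
  intro S T hT h0
  have e := (hn S T hT).resolve_left h0
  refine ⟨by rw [e, relIndex_self]; exact one_dvd _, ?_⟩
  rcases (normalClosure_normal (s := (T : Set L))).eq_bot_or_eq_top with k | k
  · exact absurd (eq_bot_iff.2 (k ▸ le_normalClosure)) h0
  · rw [k]; exact le_top

theorem exists_odd {A : Type*} [Group A] [Finite A] (h : 3 ∣ Nat.card A) :
    ∃ g : A, g ≠ 1 ∧ Odd (orderOf g) := by
  have : Fact (Nat.Prime 3) := ⟨Nat.prime_three⟩
  obtain ⟨g, hg⟩ := exists_prime_orderOf_dvd_card' 3 h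
  exact ⟨g, fun e => by rw [e, orderOf_one] at hg; omega, by rw [hg]; decide⟩

theorem lxd_of {K : Type*} [Group K] [Finite K] {z : K}
    {Q : Subgroup (centralizer ({z} : Set K))} (hz : orderOf z = 2) (hQ : IsExtraspecial 2 Q)
    (hs : centralizer (Q : Set (centralizer ({z} : Set K))) ≤ Q)
    (h3 : 3 ∣ Nat.card (centralizer ({z} : Set K))) : LXD z Q := by
  let z' : centralizer ({z} : Set K) := ⟨z, mem_centralizer_singleton_iff.2 rfl⟩
  have hc : ∀ y : centralizer ({z} : Set K), y * z' = z' * y := fun y =>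
    Subtype.ext (mem_centralizer_singleton_iff.1 y.2)
  have hzQ : z' ∈ Q := hs (mem_centralizer_iff.2 fun y _ => hc y)
  have h1 : z' ≠ 1 := fun e => by
    have : z = 1 := congrArg Subtype.val e
    rw [this, orderOf_one] at hz
    omega
  obtain ⟨cen, sq⟩ := es_facts hQ hzQ h1 fun y _ => hc y
  refine ⟨hz, hQ.1.1, fun x hx => ?_, fun x hx h _ => ?_, hs, exists_odd h3⟩
  · rcases sq x hx with e | e <;> rw [e]
    · exact one_mem _
    · exact mem_zpowers z
  · rcases cen x hx h with e | e <;> rw [e]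
    · exact one_mem _
    · exact mem_zpowers z

/-- a simple group in the extraspecial setting over a simple group without strongly closed
subgroups -/
theorem good_of_setting (t : Tools) {K : Type} [Group K] [Finite K] (hK : NAS K) {z : K}
    {Q : Subgroup (centralizer ({z} : Set K))} [Q.Normal] {w : ℕ}
    (h : IsExtraspecialCentralizerSetting z Q w) {L : Type} [Group L]
    (e : (centralizer ({z} : Set K) ⧸ Q) ≃* L) (hL : IsSimpleGroup L) (h6 : 6 ∣ Nat.card L)
    (hn : NSC L) : Good K := by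
  have hi : Q.index = Nat.card L := Nat.card_congr e.toEquiv
  refine t.lx K hK z Q (lxd_of h.1 h.2.2.1 (h.2.1 ▸ H52.centralizer_fstar_le) ?_) ?_
    ((nsc2_of_simple hL hn).congr e)
  · exact (show 3 ∣ 6 by norm_num).trans (h6.trans (hi ▸ Q.index_dvd_card))
  · rw [hi]
    exact even_iff_two_dvd.2 ((show 2 ∣ 6 by norm_num).trans h6)

theorem mStmt : MStmt := by
  intro t hn
  have : Finite Spor.Monster :=
    Nat.finite_of_card_ne_zero (by rw [S1705.result.2]; norm_num)
  obtain ⟨z, Q, _, h, e, -⟩ := S5542.result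
  exact good_of_setting t (nas_of_card S1705.result.1 (by rw [S1705.result.2]; norm_num)) h e
    H48.simple_Co1 (by rw [show Nat.card Spor.Co1 = _ from H48.card_Co1]; norm_num) hn

theorem bStmt : BStmt := by
  intro t hn
  obtain ⟨f⟩ := H97.Yt.bEquiv
  have : Finite H97.Gr.BB := Finite.of_equiv _ f.toEquiv
  obtain ⟨z, Q, _, h, e, -⟩ := H97.Br.baby_BB
  have hB : NAS Spor.BabyMonster :=
    nas_of_card S1704.result.1 (by rw [S1704.result.2]; norm_num)
  exact (good_of_setting t (hB.congr f.symm) h e H48.simple_Co2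
    (by rw [H48.card_Co2]; norm_num) hn).congr f

theorem card_ker_mul {A B : Type*} [Group A] [Group B] (f : A →* B)
    (hf : Function.Surjective f) : Nat.card f.ker * Nat.card B = Nat.card A := by
  rw [← f.ker.card_mul_index, index_ker, MonoidHom.range_eq_top.2 hf, card_top]

theorem nsc2_of_cover (t : Tools) {H A L : Type} [Group H] [Finite H] [Group A] [Finite A]
    [Group L] (h2 : pCore 2 H = ⊥) (ψ : A →* H) (φ : A →* L) (hφ : Function.Surjective φ)
    (hp : ⁅(⊤ : Subgroup A), (⊤ : Subgroup A)⁆ = ⊤) (hk : φ.ker = center A) (hψ : ψ.ker ≤ center A)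
    (c2 : Nat.card ψ.ker = 2) (c6 : Nat.card (center A) = 6)
    (cH : Nat.card H = 6 * Nat.card L) (hL : NAS L) (hn : NSC L) : NSC2 H := by
  have : Finite L := Finite.of_surjective φ hφ
  have pos : 0 < Nat.card L := Nat.card_pos
  have hs := ψ.rangeRestrict_surjective
  have hle : ψ.rangeRestrict.ker ≤ φ.ker := by rw [ψ.ker_rangeRestrict, hk]; exact hψ
  let π : ψ.range →* L := ψ.rangeRestrict.liftOfSurjective hs ⟨φ, hle⟩
  have hπ : ∀ a, π (ψ.rangeRestrict a) = φ a := fun a =>
    ψ.rangeRestrict.liftOfRightInverse_comp_apply _ _ _ a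
  have sπ : Function.Surjective π := fun l => by
    obtain ⟨a, rfl⟩ := hφ l
    exact ⟨_, hπ a⟩
  have e1 := card_ker_mul φ hφ
  have e2 := card_ker_mul _ hs
  have e3 := card_ker_mul π sπ
  have e4 := ψ.range.card_mul_index
  rw [hk, c6] at e1
  rw [ψ.ker_rangeRestrict, c2] at e2
  have e5 : Nat.card ψ.range = 3 * Nat.card L := by omega
  rw [e5] at e3 e4
  have i2 : ψ.range.index = 2 := by
    refine Nat.eq_of_mul_eq_mul_left (show 0 < 3 * Nat.card L by omega) ?_
    omega
  refine t.ext H h2 ψ.range (i2 ▸ dvd_rfl) ?_ L π sπ (fun x hx => ?_) ?_ hL hn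
  · rw [ψ.range_eq_map, ← map_commutator, hp]
  · obtain ⟨a, rfl⟩ := hs x
    rw [MonoidHom.mem_ker, hπ, ← MonoidHom.mem_ker, hk] at hx
    refine mem_center_iff.2 fun y => ?_
    obtain ⟨b, rfl⟩ := hs y
    rw [← map_mul, mem_center_iff.1 hx b, map_mul]
  · rw [Nat.eq_of_mul_eq_mul_right pos e3]
    decide

theorem card_autM22 : Nat.card (MulAut Spor.M22) = 887040 :=
  (Nat.card_congr H83.J4.autD2.toEquiv).symm.trans H42.card_GD2

theorem good_of_j4 (t : Tools) {G : Type} [Group G] [Finite G] (hG : NAS G)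
    (h : IsOfJankoFourType G) : Good G := by
  obtain ⟨z, P, hJ⟩ := h
  have := hG.1
  obtain ⟨kp, -, k6, ⟨e⟩, -⟩ := S5563.result hG.2 z P hJ
  obtain ⟨hz, hE, cE, hs, ⟨N, hEN, hN, -, cN, ⟨_, ⟨eN⟩⟩, -⟩, -, hP, -⟩ := hJ
  set H := centralizer ({z} : Set G) with hH
  set A := H ⊓ centralizer (P : Set G) with hA
  have eQ : pCore 2 H ≃* twoCoreOfCentralizer z :=
    equivMapOfInjective _ _ H.subtype_injective
  have cQ : Nat.card (pCore 2 H) = 2 ^ 13 := (Nat.card_congr eQ.toEquiv).trans cE
  have cH : Nat.card H = 887040 * (3 * 2 ^ 13) := by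
    rw [card_eq_card_quotient_mul_card_subgroup (N.subgroupOf H), Nat.card_congr eN.toEquiv,
      card_autM22, Nat.card_congr (subgroupOfEquivOfLe hN).toEquiv, cN, cE]
  have cI : (pCore 2 H).index = 6 * 443520 := by
    have := (pCore 2 H).card_mul_index
    rw [cQ, cH] at this
    omega
  have mem : ∀ x : H, x ∈ pCore 2 H ↔ (x : G) ∈ twoCoreOfCentralizer z := fun x =>
    (mem_map_iff_mem H.subtype_injective).symm
  refine t.lx G hG z (pCore 2 H) (lxd_of hz (H49.isExtraspecial_of_mulEquiv hE eQ.symm)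
    (fun x hx => (mem x).2 (hs ⟨x.2, mem_centralizer_iff.2 ?_⟩)) (by rw [cH]; norm_num))
    (by rw [cI]; decide) ?_
  · rintro _ ⟨y, hy, rfl⟩
    exact congrArg Subtype.val (mem_centralizer_iff.1 hx y hy)
  let ψ : A →* H ⧸ pCore 2 H := (QuotientGroup.mk' _).comp (inclusion inf_le_left)
  have hψ : ∀ a : A, a ∈ ψ.ker ↔ (a : G) ∈ zpowers z := fun a => by
    rw [MonoidHom.mem_ker, MonoidHom.comp_apply, QuotientGroup.mk'_apply, QuotientGroup.eq_one_iff,
      mem, ← hP]
    exact ⟨fun h => ⟨h, a.2.2⟩, fun h => h.1⟩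
  have hzA : zpowers z ≤ A := fun x hx =>
    ⟨zpowers_le.2 (mem_centralizer_singleton_iff.2 rfl) hx, (hP.ge hx).2⟩
  refine nsc2_of_cover t H52.pCore_quotient_pCore ψ (e.toMonoidHom.comp (QuotientGroup.mk' _))
    (e.surjective.comp (QuotientGroup.mk'_surjective _)) ?_ ?_ (fun a ha => ?_) ?_ k6
    (by rw [H74.card_M22]; exact cI)
    (nas_of_card H74.simple_M22 (by rw [H74.card_M22]; norm_num)) t.sm1.2.2.1
  · apply map_injective A.subtype_injective
    rw [map_commutator, ← MonoidHom.range_eq_map, range_subtype, kp]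
  · rw [MonoidHom.ker_comp_of_injective _ _ e.injective, QuotientGroup.ker_mk']
  · obtain ⟨n, hn⟩ := mem_zpowers_iff.1 ((hψ a).1 ha)
    refine mem_center_iff.2 fun b => Subtype.ext ?_
    have hb : Commute (b : G) z := mem_centralizer_singleton_iff.1 b.2.1
    have := (hb.zpow_right n).eq
    rwa [hn] at this
  · have : ψ.ker = (zpowers z).subgroupOf A := Subgroup.ext hψ
    rw [this, Nat.card_congr (subgroupOfEquivOfLe hzA).toEquiv, Nat.card_zpowers, hz]

theorem j4Stmt : J4Stmt := fun t =>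
  have := H16.J4C.finite_J4
  good_of_j4 t ⟨H16.J4C.simple_J4, H16.J4C.not_comm_J4⟩ H16.J4C.type_J4

end Cfsg.Agent.H2FK
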