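import Cfsg.Agent.H78.G40B
import Cfsg.Agent.H81.ZCor

/-! Project L40G, piece CI3: the centraliser of `z` centralises the element `i`. -/

set_option autoImplicit false

namespace Cfsg.Agent.H2G40Ci3

open Subgroup Cfsg.Agent.H83 Cfsg.Agent.H46.L40 Cfsg.Agent.H78.G40

universe u

theorem inv_fix {G : Type u} [Group G] [Finite G] {H P : Subgroup G} {i h : G} (hP : IsSylowIn 2 P H)
    (hc : P ≤ Cz i) (hh : h ∈ H) (e : h * i * h⁻¹ = i⁻¹) : i⁻¹ = i := by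
  haveI : Fact (Nat.Prime 2) := ⟨Nat.prime_two⟩
  let E : Subgroup G :=
    { carrier := {x | x * i * x⁻¹ = i ∨ x * i * x⁻¹ = i⁻¹}
      one_mem' := Or.inl (by group)
      mul_mem' := by
        rintro a b (ha | ha) (hb | hb)
        · left; rw [show a * b * i * (a * b)⁻¹ = a * (b * i * b⁻¹) * a⁻¹ by group, hb, ha]
        · right
          rw [show a * b * i * (a * b)⁻¹ = a * (b * i * b⁻¹) * a⁻¹ by group, hb,
            show a * i⁻¹ * a⁻¹ = (a * i * a⁻¹)⁻¹ by group, ha]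
        · right; rw [show a * b * i * (a * b)⁻¹ = a * (b * i * b⁻¹) * a⁻¹ by group, hb, ha]
        · left
          rw [show a * b * i * (a * b)⁻¹ = a * (b * i * b⁻¹) * a⁻¹ by group, hb,
            show a * i⁻¹ * a⁻¹ = (a * i * a⁻¹)⁻¹ by group, ha, inv_inv]
      inv_mem' := by
        rintro a (ha | ha)
        · left; nth_rw 1 [← ha]; group
        · right
          rw [show a⁻¹ * i * a⁻¹⁻¹ = (a⁻¹ * i⁻¹ * a)⁻¹ by group, inv_inj, ← ha]; group }
  have cE : Cz i ≤ E := fun x hx => Or.inl (by rw [mem_centralizer_singleton_iff.1 hx]; group)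
  obtain ⟨m, k, hm, hk⟩ := exists_coprime_pow_pelt (p := 2) h
  obtain ⟨a, rfl⟩ := Nat.coprime_two_right.1 hm
  have h2 : h ^ 2 ∈ Cz i := mem_centralizer_singleton_iff.2 (by
    have : h * h * i * (h * h)⁻¹ = i := by
      rw [show h * h * i * (h * h)⁻¹ = h * (h * i * h⁻¹) * h⁻¹ by group, e,
        show h * i⁻¹ * h⁻¹ = (h * i * h⁻¹)⁻¹ by group, e, inv_inv]
    rw [sq]; nth_rw 2 [← this]; group)
  have hE : h ∈ E := Or.inr e
  obtain ⟨c, hc1, hc2⟩ := (hP.mono (le_inf hP.le (hc.trans cE)) inf_le_left).exists_conj_le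
    (P := zpowers (h ^ (2 * a + 1))) (zpowers_le.2 (pow_mem (mem_inf.2 ⟨hh, hE⟩) _)) (isPGroup_zpowers hk)
  have h3 := mem_centralizer_singleton_iff.1 (hc (hc2 (conj_mem_cj (mem_zpowers _))))
  have h4 : h ^ (2 * a + 1) ∈ Cz i := mem_centralizer_singleton_iff.2 (by
    generalize h ^ (2 * a + 1) = g at h3
    rcases inv_mem (mem_inf.1 hc1).2 with k1 | k1
    · rw [← k1, show g * (c⁻¹ * i * c⁻¹⁻¹) = c⁻¹ * (c * g * c⁻¹ * i) * c by group, h3]; group
    · rw [← inv_inv i, ← k1, show g * (c⁻¹ * i * c⁻¹⁻¹)⁻¹ = c⁻¹ * i⁻¹ * (i * (c * g * c⁻¹)) * i⁻¹ * c by group,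
        ← h3]; group)
  rw [pow_succ, pow_mul] at h4
  have h5 := mem_centralizer_singleton_iff.1 ((mul_mem_cancel_left (pow_mem h2 a)).1 h4)
  rw [← e, h5]; group

theorem ci3 : Ci3S.{u} := by
  intro ncj dih o4 X _ e σ τ θ i j T f3 sT Tz G _ _ S ψ ti hV
  haveI : Fact (Nat.Prime 2) := ⟨Nat.prime_two⟩
  haveI := Finite.of_injective ψ ti.inj
  have hz : ψ (e z0) = S.z := ti.he z0
  have hR : ∀ x, ψ x ∈ S.R := fun x => ti.rg ▸ ⟨x, rfl⟩
  have hR' : ∀ r ∈ S.R, ∃ x, ψ x = r := fun r hr => by rwa [← ti.rg] at hr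
  have cz : ∀ x, ψ x * S.z = S.z * ψ x ↔ x * e z0 = e z0 * x := fun x => by
    rw [← hz, ← map_mul, ← map_mul, ti.inj.eq_iff]
  have hH : ∀ x, x ∈ Cz (e z0) → ψ x ∈ S.X ⊓ Cz S.z := fun x hx =>
    ⟨S.fn.le (hR x), mem_centralizer_singleton_iff.2 ((cz x).2 (mem_centralizer_singleton_iff.1 hx))⟩
  have az : S.a * S.z = S.z * S.a := by
    rw [← map_mul, ← map_mul, show a0 * z0 = z0 * a0 by decide +kernel]
  have aH : S.a ∈ S.X ⊓ Cz S.z := ⟨S.LX a0, mem_centralizer_singleton_iff.2 az⟩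
  have tH : S.t ∈ normalizer ((S.X ⊓ Cz S.z : Subgroup G) : Set G) := by
    have := S.Xn
    refine zpowers_le.1 (le_norm_inf (le_top.trans (normalizer_eq_top S.X).ge)
      (le_norm_of_le (zpowers_le.2 (mem_centralizer_singleton_iff.2 (S.tL z0)))))
  have sR : IsSylowIn 2 (T.map ψ) S.R := by
    have h1 := sT.map ψ
    rwa [← MonoidHom.range_eq_map, ti.rg] at h1
  have sH : IsSylowIn 2 (T.map ψ) (S.X ⊓ Cz S.z) :=
    (S.fn.syl _ sR).mono (by rintro _ ⟨x, hx, rfl⟩; exact hH x (Tz hx)) inf_le_left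
  have Ti : T.map ψ ≤ Cz (ψ i) := by
    rintro _ ⟨x, hx, rfl⟩
    exact mem_centralizer_singleton_iff.2 (by
      rw [← map_mul, ← map_mul, mem_centralizer_singleton_iff.1 (f3.ci (Tz hx))])
  have ii : ψ i * ψ i = S.z := by rw [← map_mul, f3.ii, hz]
  have sq : ∀ h ∈ S.X ⊓ Cz S.z, h * ψ i * h⁻¹ * (h * ψ i * h⁻¹) = S.z := fun h hh => by
    rw [show h * ψ i * h⁻¹ * (h * ψ i * h⁻¹) = h * (ψ i * ψ i) * h⁻¹ by group, ii,
      mem_centralizer_singleton_iff.1 hh.2]; group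
  have nj : ∀ g ∈ S.X, g * ψ i * g⁻¹ ≠ ψ j := by
    refine ncj dih G S.R S.X S.t S.fn (ψ i) (ψ j) _ sR Ti (Or.inr (by rw [ti.ht, f3.τj, map_inv]))
      fun U hU hUj => ?_
    obtain ⟨r, hr, rfl⟩ := sR.exists_conj hU
    obtain ⟨x, rfl⟩ := hR' r hr
    refine f3.nj _ (sT.cj_of_mem (mem_top x)) fun y hy => mem_centralizer_singleton_iff.2 (ti.inj ?_)
    rw [map_mul, map_mul]
    refine mem_centralizer_singleton_iff.1 (hUj (mem_cj.2 ?_))
    rw [← map_inv, ← map_mul, ← map_mul]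
    exact mem_map_of_mem ψ (mem_cj.1 hy)
  have wc : ∀ h ∈ S.X ⊓ Cz S.z, h * ψ i * h⁻¹ ∈ T.map ψ → h * ψ i * h⁻¹ = ψ i := by
    rintro h hh ⟨y, hy, e1⟩
    have e2 := sq h hh
    rw [← e1, ← map_mul, ← hz, ti.inj.eq_iff] at e2
    rcases f3.rt y hy e2 with rfl | rfl | k
    · exact e1.symm
    · rw [map_inv] at e1
      rw [← e1, inv_fix sH Ti hh e1.symm]
    · obtain ⟨c, rfl⟩ := isConj_iff.1 k
      refine absurd ?_ (nj ((ψ c)⁻¹ * h) (mul_mem (inv_mem (S.fn.le (hR c))) hh.1))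
      rw [show (ψ c)⁻¹ * h * ψ i * ((ψ c)⁻¹ * h)⁻¹ = (ψ c)⁻¹ * (h * ψ i * h⁻¹) * ψ c by group, ← e1,
        map_mul, map_mul, map_inv]; group
  have iH := hH i (Tz f3.iT)
  have zs := H81.zstar_of_wc sH.toSylow (x := ⟨ψ i, iH⟩) (mem_subgroupOf.2 (mem_map_of_mem ψ f3.iT))
    fun g hg => Subtype.ext (wc g g.2 (mem_subgroupOf.1 hg))
  have oc := H3.pPrimeCore_coprime 2 ↥(S.X ⊓ Cz S.z)
  haveI := H3.pPrimeCore_characteristic 2 ↥(S.X ⊓ Cz S.z)
  have nO := H3.normalizer_le_normalizer_map_of_characteristic (S.X ⊓ Cz S.z) (pPrimeCore 2 _)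
  have OP := o4 G S hV _ ((map_subtype_le _).trans inf_le_left)
    (by rw [H3.card_map_subtype]; exact Nat.coprime_two_right.1 oc) (nO tH) (nO (le_normalizer aH))
    ((map_subtype_le _).trans inf_le_right)
  intro h hh
  have k := mem_center_iff.1 zs (QuotientGroup.mk' _ ⟨h, hh⟩)
  rw [← mul_inv_eq_one, ← map_mul, ← map_mul, ← map_inv, ← map_mul, QuotientGroup.mk'_apply,
    QuotientGroup.eq_one_iff] at k
  generalize ho : (⟨h, hh⟩ * ⟨ψ i, iH⟩ * (⟨ψ i, iH⟩ * ⟨h, hh⟩)⁻¹ : ↥(S.X ⊓ Cz S.z)) = o at k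
  have ho' : h * ψ i * h⁻¹ = o * ψ i := by rw [← ho]; push_cast; group
  have oi : o * ψ i = ψ i * o := by
    obtain ⟨r, hr, c, hc, e1⟩ := (mem_sup_right_norm (le_norm_cent le_normalizer)).1
      (OP (mem_map_of_mem _ k))
    obtain ⟨x, rfl⟩ := hR' r hr
    have h1 : c * S.z = S.z * c := (hc _ (hz ▸ hR _)).symm
    have h2 : ψ x * S.z = S.z * ψ x := by
      have := mem_centralizer_singleton_iff.1 o.2.2
      rw [← show _ = (o : G) from e1, mul_assoc, h1, ← mul_assoc, ← mul_assoc] at this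
      exact mul_right_cancel this
    have h3 := mem_centralizer_singleton_iff.1 (f3.ci (mem_centralizer_singleton_iff.2 ((cz x).1 h2)))
    rw [← show _ = (o : G) from e1, mul_assoc, ← hc _ (hR i), ← mul_assoc, ← map_mul, h3, map_mul, mul_assoc]
  have o2 : o ^ 2 ^ 1 = 1 := Subtype.ext (by
    have := (sq h hh).trans ii.symm
    rw [ho', mul_assoc, ← mul_assoc (ψ i), ← oi, ← mul_assoc, ← mul_assoc, mul_assoc (o * o : G),
      mul_eq_right] at this
    rw [pow_one, pow_two]; exact this)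
  have o1 := eq_one_of_ppow o2 (coprime_orderOf_of_mem oc k)
  rw [o1, OneMemClass.coe_one, one_mul] at ho'
  refine mem_centralizer_singleton_iff.2 ?_
  nth_rw 2 [← ho']; group

end Cfsg.Agent.H2G40Ci3
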