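import Cfsg.Agent.H78.G40A
import Cfsg.Agent.H46.TEnd
import Cfsg.Agent.H46.TEk
import Cfsg.Agent.H46.TE4
import Cfsg.Agent.H46.TT
import Cfsg.Agent.H46.TE6

/-! Project L40G, piece ENDL: the end of the wreath product case. -/

set_option autoImplicit false
open scoped Pointwise commutatorElement
open Subgroup

namespace Cfsg.Agent.H2G40End
open Cfsg.Agent.H8 Cfsg.Agent.H23.D2 Cfsg.Agent.H46.S94 Cfsg.Agent.H46.TEnd
open Cfsg.Agent.H78.G40 (NcS EndlS)
open Cfsg.Agent.H46.L40 (S3)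

universe u

local notation "C[" A "]" => Subgroup.centralizer (SetLike.coe A)
local notation "N[" A "]" => Subgroup.normalizer (SetLike.coe A)

theorem endl (nc : NcS.{u}) : EndlS.{u} := by
  intro kit oi h3 h5 h7 G _ _ φ t F O B as cx w hA
  have hb := kit.base
  have hT : TTStmt.{u} := H46.TT.tt
  obtain ⟨d, e⟩ := H46.TEk.ek S3 G φ t O B hb cx w
  haveI := as.normal
  have tt := cx.tt
  have ti := cx.tinv
  have hH : ∀ g, g * t * g⁻¹ ∈ N[XX t B] → g ∈ N[XX t B] := fun g hg =>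
    H46.TE4.e4' S3 G φ t O B d hb cx w e g hg (h3 kit nc G φ t O B d cx w e g)
  have hB := B_le tt e w hA
  have hp : ⁅F, F⁆ = F := by
    haveI := as.simple
    have h : ⁅(⊤ : Subgroup F), ⊤⁆ = ⊤ := (Normal.eq_bot_or_eq_top inferInstance).resolve_left fun h =>
      as.nc ⟨⟨fun a b => commutatorElement_eq_one_iff_mul_comm.1
        (mem_bot.1 (h ▸ commutator_mem_commutator (mem_top a) (mem_top b)))⟩⟩
    have := congrArg (Subgroup.map F.subtype) h
    rwa [map_commutator, ← MonoidHom.range_eq_map, range_subtype] at this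
  have s1 : ∀ y ∈ N[XX t B] ⊓ F, y * y = 1 → y * t = t * y → y ∈ H0 t B := fun y hy y2 yt =>
    tt_sub hT as.normal hp tt (t_mem tt) hH (fun a ha b hb => comm_H0 tt e ha.1 hb.1) hy y2 yt
      fun g _ hu => by
        have := comm_H0 tt e (inv_mem hu) (t_mem tt)
        rwa [inv_inv, ti, mul_assoc, mul_assoc, ← mul_assoc t] at this
  have ht : t ∉ F := fun h => e.tH (s1 t ⟨t_mem tt, h⟩ tt rfl).1
  obtain ⟨h, h0, hh, hc, hF, α, a, na, hm⟩ := H46.TE6.e6 S3 G φ t F O B d 4 hb oi as cx w e hB ht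
    (h5 kit G φ t F O B d as cx w e hB ht hH)
  have th : t * h * t = h := by rw [← hc, mul_assoc, tt, mul_one]
  rcases hF with hF | hF
  swap
  · have := s1 _ ⟨mul_mem (H0_le h0) (t_mem tt), hF⟩
      (by rw [← mul_assoc, mul_assoc h, mul_assoc h, th, hh]) (by rw [← mul_assoc, ← hc])
    exact e.tH (by simpa using mul_mem (inv_mem (mem_inf.1 h0).1) (mem_inf.1 this).1)
  have eh : eps d h = -1 := (Int.units_eq_one_or _).resolve_left fun k => na ((eps_iff e h0.1 a).1 k)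
  have mu := @eps_mul _ _ _ _ _ _ _ _ hb e
  have iv := @eps_inv _ _ _ _ _ _ _ _ hb e
  have tm : ∀ x y : G, t * (x * y) * t = t * x * t * (t * y * t) := fun x y => by
    rw [show t * x * t * (t * y * t) = t * x * (t * t) * y * t by group, tt]; group
  have tv : ∀ x : G, t * x⁻¹ * t = (t * x * t)⁻¹ := fun x => by
    rw [mul_inv_rev, mul_inv_rev, ti, mul_assoc]
  have fin : (∀ a ∈ N[XX t B] ⊓ F, ∀ b ∈ N[XX t B] ⊓ F, eps d (a * b * a⁻¹ * b⁻¹) = 1) →
      (∀ g ∈ F, g * h * g⁻¹ ∈ N[XX t B] → g * h * g⁻¹ ∈ H0 t B ∧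
        eps d (t * (g * h * g⁻¹) * t) = eps d (g * h * g⁻¹)) → False := fun k1 k2 => by
    have := tt_sub hT (K := KK hb e) as.normal hp tt (t_mem tt) hH
      (fun a ha b hb => ⟨comm_H0 tt e ha.1 hb.1, k1 a ha b hb⟩) ⟨H0_le h0, hF⟩ hh hc fun g hg hu => by
        obtain ⟨k3, k4⟩ := k2 g hg hu
        exact ⟨mul_mem (inv_mem k3) (conj_H0 tt k3), by
          rw [mu (inv_mem k3.1) (conj_H0 tt k3).1, iv k3.1, k4, Int.units_mul_self]⟩
    rw [this.2] at eh
    exact absurd eh (by decide)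
  have c0 : ∀ a ∈ H0 t B, ∀ b ∈ H0 t B, eps d (a * b * a⁻¹ * b⁻¹) = 1 := fun a ha b hb => by
    rw [mu (mul_mem (mul_mem ha.1 hb.1) (inv_mem ha.1)) (inv_mem hb.1),
      mu (mul_mem ha.1 hb.1) (inv_mem ha.1), mu ha.1 hb.1, iv ha.1, iv hb.1, mul_right_comm (eps d a),
      Int.units_mul_self, one_mul, Int.units_mul_self]
  by_cases hle : N[XX t B] ⊓ F ≤ H0 t B
  · refine fin (fun a ha b hb => c0 a (hle ha) b (hle hb)) fun g hg hu => ?_
    have k := hle ⟨hu, as.normal.conj_mem h hF g⟩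
    obtain ⟨β, b⟩ := e.aut _ k.1
    obtain ⟨γ, c⟩ := e.aut _ (conj_H0 tt k).1
    have := h7 kit G φ t F O B d h α as cx w e hB ht hH hle ⟨h0, hF⟩ hh hc a na g hg β γ k b c
    rw [← eps_iff e k.1 b, ← eps_iff e (conj_H0 tt k).1 c] at this
    refine ⟨k, ?_⟩
    generalize eps d (t * (g * h * g⁻¹) * t) = x at *
    generalize eps d (g * h * g⁻¹) = y at *
    revert this
    rcases Int.units_eq_one_or x with rfl | rfl <;> rcases Int.units_eq_one_or y with rfl | rfl <;> decide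
  obtain ⟨f, hf, nf⟩ := SetLike.not_le_iff_exists.1 hle
  have f0 := (e.swap f hf.1).resolve_left nf
  have p1 : ∀ f ∈ F, f * t ∈ H0 t B → eps d (t * (f * t) * t) = -eps d (f * t) := fun f hf k => by
    have k1 := not_inn tt e w hB ht hf k
    have k2 := not_inn tt e w hB ht (mul_mem hF hf) (mul_assoc h f t ▸ mul_mem h0 k)
    rw [mul_assoc h, tm h, th, mu h0.1 k.1, mu h0.1 (conj_H0 tt k).1, eh] at k2
    generalize eps d (t * (f * t) * t) = x at *
    generalize eps d (f * t) = y at *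
    revert k1 k2
    rcases Int.units_eq_one_or x with rfl | rfl <;> rcases Int.units_eq_one_or y with rfl | rfl <;> decide
  have p2 : ∀ k ∈ F, k ∈ H0 t B → eps d (t * k * t) = eps d k := fun k hk k0 => by
    have k1 := p1 _ (mul_mem hk hf.2) (mul_assoc k f t ▸ mul_mem k0 f0)
    rw [mul_assoc k, tm k, mu k0.1 f0.1, mu (conj_H0 tt k0).1 (conj_H0 tt f0).1, p1 f hf.2 f0, mul_neg,
      neg_inj] at k1
    exact mul_right_cancel k1
  refine fin (fun a ha b hb => ?_) fun g hg hu => ?_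
  · rcases e.swap a ha.1 with h | h <;> rcases e.swap b hb.1 with k | k
    · exact c0 a h b k
    · have e1 : a * b * a⁻¹ * b⁻¹ = a * (b * t) * (t * a⁻¹ * t) * (b * t)⁻¹ := by
        rw [show a * (b * t) * (t * a⁻¹ * t) * (b * t)⁻¹ = a * b * (t * t) * a⁻¹ * b⁻¹ by group, tt, mul_one]
      rw [e1, mu (mul_mem (mul_mem h.1 k.1) (conj_H0 tt (inv_mem h)).1) (inv_mem k.1),
        mu (mul_mem h.1 k.1) (conj_H0 tt (inv_mem h)).1, mu h.1 k.1, p2 _ (inv_mem ha.2) (inv_mem h),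
        iv h.1, iv k.1, mul_right_comm (eps d a), Int.units_mul_self, one_mul, Int.units_mul_self]
    · have e1 : a * b * a⁻¹ * b⁻¹ = a * t * (t * b * t) * (a * t)⁻¹ * b⁻¹ := by
        rw [show a * t * (t * b * t) * (a * t)⁻¹ * b⁻¹ = a * (t * t) * b * a⁻¹ * b⁻¹ by group, tt, mul_one]
      rw [e1, mu (mul_mem (mul_mem h.1 (conj_H0 tt k).1) (inv_mem h.1)) (inv_mem k.1),
        mu (mul_mem h.1 (conj_H0 tt k).1) (inv_mem h.1), mu h.1 (conj_H0 tt k).1, p2 _ hb.2 k,
        iv h.1, iv k.1, mul_right_comm (eps d (a * t)), Int.units_mul_self, one_mul, Int.units_mul_self]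
    · have e1 : a * b * a⁻¹ * b⁻¹ = a * t * (t * (b * t) * t) * (t * (a * t) * t)⁻¹ * (b * t)⁻¹ := by
        rw [show a * t * (t * (b * t) * t) * (t * (a * t) * t)⁻¹ * (b * t)⁻¹ =
          a * (t * t) * b * a⁻¹ * (t * t)⁻¹ * b⁻¹ by group, tt]
        group
      rw [e1, mu (mul_mem (mul_mem h.1 (conj_H0 tt k).1) (inv_mem (conj_H0 tt h).1)) (inv_mem k.1),
        mu (mul_mem h.1 (conj_H0 tt k).1) (inv_mem (conj_H0 tt h).1), mu h.1 (conj_H0 tt k).1,
        iv (conj_H0 tt h).1, iv k.1, p1 _ ha.2 h, p1 _ hb.2 k]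
      rcases Int.units_eq_one_or (eps d (a * t)) with e2 | e2 <;>
        rcases Int.units_eq_one_or (eps d (b * t)) with e3 | e3 <;> rw [e2, e3] <;> decide
  · have uF := as.normal.conj_mem h hF g
    have u2 : g * h * g⁻¹ * (g * h * g⁻¹) = 1 := by
      rw [show g * h * g⁻¹ * (g * h * g⁻¹) = g * (h * h) * g⁻¹ by group, hh]; group
    generalize g * h * g⁻¹ = u at *
    have k : u ∈ H0 t B := (e.swap u hu).resolve_right fun k => by
      have k1 := mu k.1 (conj_H0 tt k).1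
      rw [show u * t * (t * (u * t) * t) = u * (t * t) * u * (t * t) by group, tt, mul_one, mul_one, u2,
        eps_one, p1 u uF k, mul_neg, Int.units_mul_self] at k1
      exact absurd k1 (by decide)
    exact ⟨k, p2 u uF k⟩

end Cfsg.Agent.H2G40End
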