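import Cfsg.Agent.H46.SHe

/-! The centraliser of a non-central involution of the Held group: the component `2².L₃(4)`. -/

set_option autoImplicit false
set_option maxRecDepth 200000
open scoped Pointwise commutatorElement

namespace Cfsg.Agent.H2RD

open Subgroup MulAction Cfsg.Agent.H46.S95

section abs
variable {G Ω : Type*} [Group G] [Finite G] [MulAction G Ω]

omit [Finite G] in
theorem orbit_mono {H K : Subgroup G} (h : H ≤ K) (p : Ω) : orbit H p ⊆ orbit K p :=
  fun _ ⟨x, e⟩ => ⟨⟨x, h x.2⟩, e⟩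

theorem card_step {K H : Subgroup G} (hH : H ≤ K) (p : Ω) :
    Nat.card ↥(K ⊓ stabilizer G p) * (orbit H p).ncard ≤ Nat.card K := by
  have e : stabilizer K p = (K ⊓ stabilizer G p).subgroupOf K := by
    ext x; simp [mem_subgroupOf, Subgroup.smul_def]
  rw [← (stabilizer K p).card_mul_index, index_stabilizer, e,
    Nat.card_congr (subgroupOfEquivOfLe inf_le_left).toEquiv]
  exact Nat.mul_le_mul_left _ (Set.ncard_le_ncard (orbit_mono hH p) (Set.finite_range _))

theorem card_four {K H1 H2 H3 H4 : Subgroup G} {p1 p2 p3 p4 : Ω} {n1 n2 n3 n4 m : ℕ} (h1 : H1 ≤ K)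
    (h2 : H2 ≤ K ⊓ stabilizer G p1) (h3 : H3 ≤ K ⊓ stabilizer G p1 ⊓ stabilizer G p2)
    (h4 : H4 ≤ K ⊓ stabilizer G p1 ⊓ stabilizer G p2 ⊓ stabilizer G p3)
    (o1 : (orbit H1 p1).ncard = n1) (o2 : (orbit H2 p2).ncard = n2) (o3 : (orbit H3 p3).ncard = n3)
    (o4 : (orbit H4 p4).ncard = n4) (e : Nat.card K < (m + 1) * n4 * n3 * n2 * n1) :
    Nat.card ↥(K ⊓ stabilizer G p1 ⊓ stabilizer G p2 ⊓ stabilizer G p3 ⊓ stabilizer G p4) ≤ m := by
  have := ((Nat.mul_le_mul_right _ ((Nat.mul_le_mul_right _ ((Nat.mul_le_mul_right _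
    (card_step h4 p4)).trans (card_step h3 p3))).trans (card_step h2 p2))).trans
      (card_step h1 p1)).trans_lt e
  rw [o1, o2, o3, o4] at this
  exact Nat.lt_succ_iff.1 (Nat.lt_of_mul_lt_mul_right (Nat.lt_of_mul_lt_mul_right
    (Nat.lt_of_mul_lt_mul_right (Nat.lt_of_mul_lt_mul_right this))))

/-- A subgroup normalised by a doubly transitive group is trivial or transitive. -/
theorem two_tr {C Λ H X : Subgroup G} {p q : Ω} {m : ℕ} (hΛ : Λ ≤ C) (hH : H ≤ Λ ⊓ stabilizer G p)
    (h1 : (orbit C p).ncard ≤ m + 1) (h2 : (orbit Λ p).ncard = m + 1) (h3 : (orbit H q).ncard = m)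
    (hm : 1 < m) (hq : q ∈ orbit Λ p) (hX : X ≤ C) (hn : Λ ≤ normalizer (X : Set G)) :
    (∀ r ∈ orbit Λ p, X ≤ stabilizer G r) ∨ m + 1 ∣ Nat.card X := by
  have fin : ∀ (K : Subgroup G) (r : Ω), (orbit K r).Finite := fun _ _ => Set.finite_range _
  have e1 : orbit Λ p = orbit C p :=
    Set.eq_of_subset_of_ncard_le (orbit_mono hΛ p) (h2 ▸ h1) (fin _ _)
  have np : p ∉ orbit H q := fun ⟨x, e⟩ => by
    have e' : q = p := by
      have : (x : G)⁻¹ • p = p := (stabilizer G p).inv_mem (hH x.2).2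
      rw [← this, eq_inv_smul_iff]
      exact e
    have : orbit H q ⊆ {p} := by
      rintro _ ⟨y, rfl⟩
      rw [e']
      exact (hH y.2).2
    have := Set.ncard_le_ncard this
    rw [Set.ncard_singleton] at this
    omega
  have e2 : insert p (orbit H q) = orbit Λ p := by
    refine Set.eq_of_subset_of_ncard_le (Set.insert_subset (mem_orbit_self p) ?_) ?_ (fin _ _)
    · rintro _ ⟨y, rfl⟩
      obtain ⟨l, rfl⟩ := hq
      exact ⟨⟨y * l, mul_mem (hH y.2).1 l.2⟩, mul_smul (y : G) (l : G) p⟩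
    · rw [Set.ncard_insert_of_notMem np (fin _ _), h2, h3]
  by_cases hp : X ≤ stabilizer G p
  · left
    rintro _ ⟨l, rfl⟩ x hx
    have := hp ((mem_normalizer_iff''.1 (hn l.2) x).1 hx)
    rw [mem_stabilizer_iff, mul_smul, mul_smul, inv_smul_eq_iff] at this
    exact this
  right
  obtain ⟨x, hx, hx'⟩ := SetLike.not_le_iff_exists.1 hp
  have e3 : orbit X p = orbit Λ p := by
    refine Set.Subset.antisymm (e1 ▸ orbit_mono hX p) ?_
    have k : x • p ∈ insert p (orbit H q) := by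
      rw [e2, e1]; exact ⟨⟨x, hX hx⟩, rfl⟩
    obtain ⟨y, hy⟩ := k.resolve_left hx'
    rw [← e2]
    refine Set.insert_subset (mem_orbit_self p) ?_
    rintro _ ⟨w, rfl⟩
    have m1 := hH (mul_mem w.2 (inv_mem y.2))
    refine ⟨⟨_, (mem_normalizer_iff.1 (hn m1.1) x).1 hx⟩, ?_⟩
    have k1 : ((w : G) * (y : G)⁻¹)⁻¹ • p = p := (stabilizer G p).inv_mem m1.2
    have k2 : (y : G) • q = x • p := hy
    change ((w : G) * (y : G)⁻¹ * x * ((w : G) * (y : G)⁻¹)⁻¹) • p = (w : G) • q
    rw [mul_smul, k1, mul_smul, ← k2, mul_smul, inv_smul_smul]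
  rw [← h2, ← e3, ← index_stabilizer]
  exact index_dvd_card _

theorem mem_of_prime {C X : Subgroup G} {p : ℕ} (hp : p.Prime) (hX : X ≤ C) (h1 : p ∣ Nat.card X)
    (h2 : ¬ p ^ 2 ∣ Nat.card C) {x : G} (hx : x ∈ C) (hn : x ∈ normalizer (X : Set G))
    (e : x ^ p = 1) : x ∈ X := by
  have hle : X ≤ C ⊓ normalizer (X : Set G) := le_inf hX le_normalizer
  have := normal_subgroupOf_of_le_normalizer
    (inf_le_right : C ⊓ normalizer (X : Set G) ≤ normalizer (X : Set G))
  exact H44.mem_normal_of_pow_dvd (X.subgroupOf (C ⊓ normalizer (X : Set G))) hp (k := 1)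
    (by rwa [pow_one, Nat.card_congr (subgroupOfEquivOfLe hle).toEquiv])
    (fun h => h2 (h.trans (card_dvd_of_le inf_le_left))) (g := ⟨x, hx, hn⟩) (Subtype.ext e)

/-- An automorphism fixing `z` and `y` is inner. -/
theorem inn_of_hf {Γ : Type} [Group Γ] {z : Γ} {y : Cz z} (h : HF z y 1) {α : MulAut Γ}
    (h1 : α z = z) (h2 : α y = y) : H46.S95.Inn α := by
  have e : (Cz z).map α.toMonoidHom = Cz z := by
    ext x
    rw [mem_map_equiv, mem_Cz, mem_Cz, ← α.injective.eq_iff, map_mul, map_mul, h1,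
      MulEquiv.apply_symm_apply]
  obtain ⟨c, hc⟩ := h.inn ((α.subgroupMap (Cz z)).trans (MulEquiv.subgroupCongr e)) (Subtype.ext h2)
    ⟨1, by simp, by simp⟩
  obtain ⟨d, -, hd⟩ := h.cL ((MulAut.conj (c : Γ))⁻¹ * α) fun l hl => by
    have : α l = c * l * (c : Γ)⁻¹ := congrArg Subtype.val (MulEquiv.congr_fun hc ⟨l, hl⟩)
    simp [this, mul_assoc]
  exact (H46.S95.Inn.conj (c : Γ)).inv.of_mul_left ⟨d, hd⟩

end abs

section model
open Cfsg.Agent.H44 Cfsg.Agent.H44.Ki Cfsg.Agent.H59 Equiv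
open Cfsg.Agent.H43 hiding allL allL_iff anyL anyL_iff

variable {D : MD} {Γ : Subgroup (Perm (Fin D.n))} {ν : ℕ → Γ}

theorem orb_card (h : D.Ok Γ.subtype ν) {S : List (List ℕ)} {a m : ℕ} (ha : a < D.n)
    (e : orbB D.n D.E D.code S a m = true) : (orbit (wgen ν S) (⟨a, ha⟩ : Fin D.n)).ncard = m := by
  rw [orbit_w h, ncard_of_orbB h.hn h.ok ha e]

theorem orb_mem (h : D.Ok Γ.subtype ν) {S : List (List ℕ)} {a b : ℕ} (ha : a < D.n) (hb : b < D.n)
    (e : tb (orbS D.E D.code S a) b = true) :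
    (⟨b, hb⟩ : Fin D.n) ∈ orbit (wgen ν S) (⟨a, ha⟩ : Fin D.n) := by
  rw [orbit_w h]
  exact pset_orb_subset (den_evL (rep_F1 D.n) h.ok D.code _) ha (by rw [mem_pset, ← tb_eq]; exact e)

theorem le_stab (h : D.Ok Γ.subtype ν) {S : List (List ℕ)} {a : ℕ} (ha : a < D.n)
    (e : fixB D.E D.code S a = true) : wgen ν S ≤ stabilizer Γ (⟨a, ha⟩ : Fin D.n) := fun _ hy =>
  le_stab_of_fixB h.ok ha e (h.map_wgen S ▸ mem_map_of_mem _ hy)

theorem wgen_cent (h : D.Ok Γ.subtype ν) {S : List (List ℕ)} {w : List ℕ}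
    (e : allL (fun s => D.eqW (s ++ w) (w ++ s)) S = true) : wgen ν S ≤ centralizer {ev ν w} :=
  wgen_le.2 fun s hs => by
    have := h.eq (allL_iff.1 e s hs)
    rwa [ev_append, ev_append, ← mem_centralizer_singleton_iff] at this

end model

section he
open Cfsg.Agent.H44 Cfsg.Agent.H44.Ki Cfsg.Agent.H44.KiHe Cfsg.Agent.H59 Cfsg.Agent.H46.S95.He
open Cfsg.Agent.H43 hiding allL allL_iff anyL anyL_iff

/-- the component -/
noncomputable abbrev Λ : Subgroup Γ := wgen ν (sing [25, 26, 27, 28])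

/-- the points -/
def pt (a : ℕ) (h : a < 2058 := by norm_num) : Fin 2058 := ⟨a, h⟩

/-- the centre of the component -/
noncomputable abbrev Z : Subgroup Γ := Cz (ν 24) ⊓ stabilizer Γ (pt 41) ⊓ stabilizer Γ (pt 216) ⊓
  stabilizer Γ (pt 1020) ⊓ stabilizer Γ (pt 1558)

/-- a second central involution -/
def we : List ℕ := [28, 28, 25, 25, 28, 28, 25, 25, 28, 28, 25, 25]

theorem le_C {S : List (List ℕ)} (e : allL (fun s => D.eqW (s ++ [24]) ([24] ++ s)) S = true) :
    wgen ν S ≤ Cz (ν 24) := ev_single ν 24 ▸ wgen_cent ok e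

theorem le_L {S : List (List ℕ)} (e : S.all (·.all [25, 26, 27, 28].contains) = true) :
    wgen ν S ≤ Λ := wgen_le.2 fun w hw => ev_sing ν (List.all_eq_true.1 e w hw)

theorem L_le : Λ ≤ Cz (ν 24) := le_C (by decide +kernel)

theorem C_norm : Cz (ν 24) ≤ normalizer (Λ : Set Γ) := cb_c.trans (le_norm (orc ok) nl)

theorem o1 : (orbit Λ (pt 41)).ncard = 21 := orb_card ok _ (by decide +kernel)

theorem h1_le : wgen ν [[25, 27, 25, 28], [27, 25, 28, 25, 27]] ≤ Λ ⊓ stabilizer Γ (pt 41) :=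
  le_inf (le_L (by decide)) (le_stab ok _ (by decide +kernel))

theorem o2 : (orbit (wgen ν [[25, 27, 25, 28], [27, 25, 28, 25, 27]]) (pt 216)).ncard = 20 :=
  orb_card ok _ (by decide +kernel)

theorem Z_card_le : Nat.card Z ≤ 4 :=
  card_four L_le (h1_le.trans (inf_le_inf_right _ L_le)) (H3 := wgen ν [[19, 19], [23, 26, 21]])
    (H4 := wgen ν [[20, 28, 22, 18], [21, 21, 22, 19]])
    (le_inf (le_inf (le_C (by decide +kernel))
      (le_stab ok _ (by decide +kernel))) (le_stab ok _ (by decide +kernel)))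
    (le_inf (le_inf (le_inf (le_C (by decide +kernel)) (le_stab ok _ (by decide +kernel)))
      (le_stab ok _ (by decide +kernel))) (le_stab ok _ (by decide +kernel))) o1 o2
    (orb_card ok (m := 16) _ (by decide +kernel)) (orb_card ok (m := 6) _ (by decide +kernel))
    (by rw [cb_n]; norm_num)

theorem w_le_Z : wgen ν [[24], we] ≤ Z :=
  le_inf (le_inf (le_inf (le_inf (le_C (by decide +kernel)) (le_stab ok _ (by decide +kernel)))
    (le_stab ok _ (by decide +kernel))) (le_stab ok _ (by decide +kernel)))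
    (le_stab ok _ (by decide +kernel))

theorem Z_eq : wgen ν [[24], we] = Z ∧ Nat.card Z = 4 := by
  have nd : ([[], [24], we, 24 :: we].map (ev ν)).Nodup := by
    have n1 : ev ν [] ≠ ev ν [24] := ok.ne (by decide +kernel)
    have n2 : ev ν [] ≠ ev ν we := ok.ne (by decide +kernel)
    have n3 : ev ν [] ≠ ev ν (24 :: we) := ok.ne (by decide +kernel)
    have n4 : ev ν [24] ≠ ev ν we := ok.ne (by decide +kernel)
    have n5 : ev ν [24] ≠ ev ν (24 :: we) := ok.ne (by decide +kernel)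
    have n6 : ev ν we ≠ ev ν (24 :: we) := ok.ne (by decide +kernel)
    simp only [List.map_cons, List.map_nil, List.nodup_cons, List.mem_cons, List.not_mem_nil, not_or,
      List.nodup_nil]
    tauto
  have m1 : ev ν [24] ∈ wgen ν [[24], we] := mem_wgen ν _ (by simp)
  have m2 : ev ν we ∈ wgen ν [[24], we] := mem_wgen ν _ (by simp)
  have k : 4 ≤ Nat.card (wgen ν [[24], we]) := length_le_card nd (by
    simp only [List.map_cons, List.map_nil, List.forall_mem_cons]
    exact ⟨one_mem _, m1, m2, by rw [ev_cons, ← ev_single ν 24]; exact mul_mem m1 m2, by simp⟩)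
  have e := eq_of_le_of_card_ge w_le_Z (Z_card_le.trans k)
  exact ⟨e, le_antisymm Z_card_le (e ▸ k)⟩

theorem Z_cent : Z ≤ centralizer (Λ : Set Γ) := by
  rw [← Z_eq.1, wgen_le]
  intro s hs
  have : Λ ≤ centralizer {ev ν s} := by
    simp only [List.mem_cons, List.not_mem_nil, or_false] at hs
    rcases hs with rfl | rfl
    exacts [wgen_cent ok (by decide +kernel), wgen_cent ok (by decide +kernel)]
  exact fun x hx => mem_centralizer_singleton_iff.1 (this hx)

theorem n49 : ¬ 7 ^ 2 ∣ Nat.card (Cz (ν 24)) := by rw [cb_n]; norm_num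

theorem gen7 : ∀ s ∈ sing [25, 26, 27, 28], ev ν s ^ 7 = 1 := fun s hs =>
  (ev_replicate ..).symm.trans (ok.eq (allL_iff.1 (by decide +kernel :
    allL (fun s => D.eqW (List.replicate 7 s).flatten []) (sing [25, 26, 27, 28]) = true) s hs))

/-- Subgroups of `C(b)` normalised by the component. -/
theorem dich {X : Subgroup Γ} (hX : X ≤ Cz (ν 24)) (hn : Λ ≤ normalizer (X : Set Γ)) :
    X ≤ Z ∨ Λ ≤ X := by
  have m : ∀ a (h : a < 2058), tb (orbS D.E D.code (sing [25, 26, 27, 28]) 41) a = true →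
      pt a h ∈ orbit Λ (pt 41) := fun a h e => orb_mem ok _ h e
  have o0 : (orbit (wgen ν (sing [18, 19, 20, 21, 22, 23])) (pt 41)).ncard = 21 :=
    orb_card ok _ (by decide +kernel)
  refine (two_tr (m := 20) L_le h1_le ((Set.ncard_le_ncard (orbit_mono cb_c _)).trans o0.le) o1 o2 (by norm_num)
    (m _ _ (by decide +kernel)) hX hn).imp (fun k => ?_) fun k => wgen_le.2 fun s hs => ?_
  · exact le_inf (le_inf (le_inf (le_inf hX (k _ (mem_orbit_self _))) (k _ (m _ _ (by decide +kernel))))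
      (k _ (m _ _ (by decide +kernel)))) (k _ (m _ _ (by decide +kernel)))
  · exact mem_of_prime (by norm_num) hX (dvd_trans (by norm_num) k) n49 (L_le (mem_wgen ν s hs))
      (hn (mem_wgen ν s hs)) (gen7 s hs)

theorem mL {w : List ℕ} (e : w.all [25, 26, 27, 28].contains = true) : ev ν w ∈ Λ := ev_sing ν e

theorem not_Z {w : List ℕ} (e : D.neW (25 :: w) (w ++ [25]) = true) : ev ν w ∉ Z := fun h => by
  have := ok.ne e
  rw [ev_cons, ev_append, ← ev_single ν 25] at this
  exact this (Z_cent h _ (mL (by decide)))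

/-- words for a root of the component -/
def wc : List ℕ := [67, 33, 31, 54, 47, 54, 49, 71]
def w1 : List ℕ := [27, 26, 26, 28, 25, 25, 25, 28, 26, 26]
def w2 : List ℕ := [25, 27, 27, 27, 25, 28, 25, 27, 27, 25, 25]

theorem e1 : ν 1 = ev ν wc * ev ν w1 * (ev ν wc)⁻¹ := by
  have := ok.eq (l := wc ++ w1) (r := 1 :: wc) (by decide +kernel)
  rw [ev_append, ev_cons] at this
  rw [this, mul_inv_cancel_right]

theorem e2 : ν 2 = ev ν wc * ev ν w2 * (ev ν wc)⁻¹ := by
  have := ok.eq (l := wc ++ w2) (r := 2 :: wc) (by decide +kernel)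
  rw [ev_append, ev_cons] at this
  rw [this, mul_inv_cancel_right]

theorem w1_sq : ev ν w1 * ev ν w1 = 1 := by
  rw [← ev_append]; exact ok.eq (r := []) (by decide +kernel)

theorem b_mem : ν 24 ∈ Λ := by
  rw [← ev_single ν 24, ok.eq (r := [28, 25, 25, 25, 28, 25, 25, 25, 28, 25, 25, 25]) (by decide +kernel)]
  exact mL (by decide)

theorem not_conj : ¬ IsConj (ν 1) (ν 24) := fun h => by
  obtain ⟨c, hc⟩ := isConj_iff.1 h
  have : (Cz (ν 1)).map (MulAut.conj c).toMonoidHom = Cz (ν 24) := by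
    ext x
    rw [mem_map_equiv, mem_Cz, mem_Cz, ← (MulAut.conj c).injective.eq_iff, map_mul, map_mul,
      MulEquiv.apply_symm_apply, MulAut.conj_apply, hc]
  have k := card_map_of_injective (K := Cz (ν 1)) (f := (MulAut.conj c).toMonoidHom)
    (MulAut.conj c).injective
  rw [this, cz_n, cb_n] at k
  omega

theorem cent_le_Z : centralizer (Λ : Set Γ) ≤ Z := by
  refine (dich (fun x hx => mem_Cz.2 (hx _ b_mem).symm) fun l hl => ?_).resolve_right fun k => ?_
  · refine mem_normalizer_fintype fun x hx => ?_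
    rw [← (hx l hl).symm, mul_inv_cancel_right]
    exact hx
  · have := ok.ne (l := [25] ++ [27]) (r := [27] ++ [25]) (by decide +kernel)
    rw [ev_append, ev_append] at this
    exact this (k (mL (by decide)) _ (mL (by decide)))

theorem rc (hf : HFS) : RC (ν 1) (ν 24) Λ Z where
  perf := by
    have hle : ⁅Λ, Λ⁆ ≤ Λ := commutator_le.2 fun x hx y hy => by
      rw [commutatorElement_def]
      exact mul_mem (mul_mem (mul_mem hx hy) (inv_mem hx)) (inv_mem hy)
    refine le_antisymm hle ((dich (hle.trans L_le) (normalizer_commutator_ge_left _ _)).resolve_left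
      fun k => ?_)
    refine not_Z (w := [25, 27, 26, 28]) (by decide +kernel) (k ?_)
    have i1 : (ev ν [25])⁻¹ = ev ν [26] := inv_eq_of_mul_eq_one_right (by
      rw [← ev_append]; exact ok.eq (r := []) (by decide +kernel))
    have i2 : (ev ν [27])⁻¹ = ev ν [28] := inv_eq_of_mul_eq_one_right (by
      rw [← ev_append]; exact ok.eq (r := []) (by decide +kernel))
    have := commutator_mem_commutator (mL (w := [25]) (by decide)) (mL (w := [27]) (by decide))
    rwa [commutatorElement_def, i1, i2, ← ev_append, ← ev_append, ← ev_append] at this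
  gen := by
    refine (dich (((closure_le _).2 fun x hx => hx.1).trans L_le) fun l hl => ?_).resolve_left fun k => ?_
    · refine mem_norm fun x hx => subset_closure ⟨mul_mem (mul_mem hl hx.1) (inv_mem hl), ?_⟩
      rw [conj_mul, hx.2, mul_one, mul_inv_cancel]
    · exact not_Z (w := w1) (by decide +kernel) (k (subset_closure ⟨mL (by decide), w1_sq⟩))
  aZ := ev_single ν 24 ▸ w_le_Z (mem_wgen ν _ (by simp))
  ZC := Z_cent
  inv := fun α h => by
    have h7 : 7 ∣ Nat.card Λ := by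
      have := index_dvd_card (stabilizer Λ (pt 41))
      rw [index_stabilizer, o1] at this
      exact dvd_trans (by norm_num) this
    refine (wgen_le (K := Λ.comap α.toMonoidHom)).2 fun s hs => ?_
    have m : α (ev ν s) ∈ Cz (ν 24) := by
      rw [mem_Cz, ← h, ← map_mul, ← map_mul, mem_Cz.1 (h ▸ L_le (mem_wgen ν s hs))]
    exact mem_of_prime (by norm_num) L_le h7 n49 m (C_norm m) (by rw [← map_pow, gen7 s hs, map_one])
  cen := fun α _ h => by
    obtain ⟨y, hy, k⟩ := hf 2 (by simp)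
    have k1 : H46.S95.Inn (MulAut.conj (ev ν wc) * α * (MulAut.conj (ev ν wc))⁻¹) :=
      inn_of_hf k (by rw [e1]; simp [mul_assoc, h _ (mL (w := w1) (by decide))])
        (by rw [hy, e2]; simp [mul_assoc, h _ (mL (w := w2) (by decide))])
    obtain ⟨c, rfl⟩ : H46.S95.Inn α := by simpa [mul_assoc] using k1.cj (MulAut.conj (ev ν wc))⁻¹
    exact ⟨c, cent_le_Z fun x hx => (mul_inv_eq_iff_eq_mul.1 (h x hx)).symm, rfl⟩
  nrm := fun M hM hn => (dich (hM.trans L_le) hn).imp_right fun k =>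
    ⟨ev ν w1, k (mL (by decide)), w1_sq, ok.ne (r := []) (by decide +kernel),
      Or.inr ⟨(isConj_iff.2 ⟨_, e1.symm⟩).symm, not_conj⟩⟩

theorem rds (hf : HFS) (rz : RZS) : RDS := by
  refine ⟨Λ, Z, ⟨?_, fun a h1 h2 => ?_, rc hf, Z_eq.2, ⟨ev ν we, w_le_Z (mem_wgen ν _ (by simp)), ν 18,
    ?_, ?_⟩, Or.inr rz⟩, b_mem⟩
  · obtain ⟨y, -, k⟩ := hf 2 (by simp)
    exact k.zz
  · obtain ⟨r, hr, e⟩ := Cov.reps pc (by rw [HeM.card_grp]; norm_num) cov1 a
      (orderOf_eq_prime (by rw [pow_two, h1]) h2)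
    simp only [List.mem_cons, List.not_mem_nil, or_false] at hr
    rcases hr with rfl | rfl
    exacts [Or.inl (ev_single ν 1 ▸ e), Or.inr (ev_single ν 24 ▸ e)]
  · have := ok.eq (l := [18] ++ [24]) (r := [24] ++ [18]) (by decide +kernel)
    simpa only [ev_append, ev_single] using this
  · have := ok.eq (l := 18 :: we) (r := 24 :: (we ++ [18])) (by decide +kernel)
    rw [ev_cons, ev_cons, ev_append, ev_single] at this
    rw [this]
    group

end he

end Cfsg.Agent.H2RD
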