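import Mathlib
import Cfsg.Agent.H44.K5Defs

set_option autoImplicit false

namespace Cfsg.Agent.H2K5
open Matrix Cfsg.Agent.H44.K5

def blk {m : ℕ} (c : ℤ) (r : Fin m → ℤ) (D : Matrix (Fin m) (Fin m) ℤ) :
    Matrix (Fin (m + 1)) (Fin (m + 1)) ℤ :=
  Matrix.of (Fin.cons (Fin.cons c r) (fun i => Fin.cons 0 (D i)))

theorem det_blk {m : ℕ} (c : ℤ) (r : Fin m → ℤ) (D : Matrix (Fin m) (Fin m) ℤ) :
    (blk c r D).det = c * D.det := by
  rw [det_succ_column_zero, Fin.sum_univ_succ]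
  have : (blk c r D).submatrix (Fin.succAbove 0) Fin.succ = D := by
    ext i j; simp [blk]
  rw [this]
  simp [blk]

theorem ent {m : ℕ} (A U : Matrix (Fin m) (Fin m) ℤ) (i j : Fin m) :
    (Uᵀ * A * U) i j = (fun k => U k i) ⬝ᵥ A *ᵥ (fun k => U k j) := by
  simp only [Matrix.mul_apply, transpose_apply, dotProduct, mulVec, Finset.sum_mul, Finset.mul_sum]
  rw [Finset.sum_comm]
  simp [mul_assoc]

def sch {m : ℕ} (B : Matrix (Fin (m + 1)) (Fin (m + 1)) ℤ) : Matrix (Fin m) (Fin m) ℤ :=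
  Matrix.of fun i j => B 0 0 * B i.succ j.succ - B 0 i.succ * B 0 j.succ

theorem form {m : ℕ} (B : Matrix (Fin (m + 1)) (Fin (m + 1)) ℤ) (hB : Bᵀ = B) (k l : ℤ)
    (y z : Fin m → ℤ) :
    B 0 0 * ((Fin.cons k y : Fin (m + 1) → ℤ) ⬝ᵥ B *ᵥ (Fin.cons l z : Fin (m + 1) → ℤ)) =
      (B 0 0 * k + (fun i => B 0 i.succ) ⬝ᵥ y) * (B 0 0 * l + (fun i => B 0 i.succ) ⬝ᵥ z) +
        y ⬝ᵥ sch B *ᵥ z := by
  have hs : ∀ i : Fin m, B i.succ 0 = B 0 i.succ := fun i => by
    have := congrFun (congrFun hB 0) i.succ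
    simpa using this
  have h1 : y ⬝ᵥ sch B *ᵥ z = B 0 0 * (∑ i, y i * ∑ j, B i.succ j.succ * z j) -
      (∑ i, B 0 i.succ * y i) * ∑ j, B 0 j.succ * z j := by
    rw [Finset.sum_mul_sum]
    simp only [dotProduct, mulVec, sch, of_apply, Finset.mul_sum, ← Finset.sum_sub_distrib]
    exact Finset.sum_congr rfl fun i _ => Finset.sum_congr rfl fun j _ => by ring
  rw [h1]
  simp only [dotProduct, mulVec, Fin.sum_univ_succ, Fin.cons_zero, Fin.cons_succ, hs, mul_add,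
    Finset.sum_add_distrib]
  have h2 : ∑ i, y i * (B 0 i.succ * l) = (∑ i, B 0 i.succ * y i) * l := by
    rw [Finset.sum_mul]; exact Finset.sum_congr rfl fun i _ => by ring
  rw [h2]; ring

theorem sch_symm {m : ℕ} (B : Matrix (Fin (m + 1)) (Fin (m + 1)) ℤ) (hB : Bᵀ = B) :
    (sch B)ᵀ = sch B := by
  ext i j
  have := congrFun (congrFun hB i.succ) j.succ
  simp only [transpose_apply] at this
  simp only [sch, transpose_apply, of_apply, this]; ring

theorem sch_pos {m : ℕ} (B : Matrix (Fin (m + 1)) (Fin (m + 1)) ℤ) (hB : Bᵀ = B) (ha : 0 < B 0 0)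
    (hp : ∀ x : Fin (m + 1) → ℤ, x ≠ 0 → 0 < x ⬝ᵥ B *ᵥ x) (y : Fin m → ℤ) (hy : y ≠ 0) :
    0 < y ⬝ᵥ sch B *ᵥ y := by
  have h := form B hB (-((fun i => B 0 i.succ) ⬝ᵥ y)) (-((fun i => B 0 i.succ) ⬝ᵥ y))
    (B 0 0 • y) (B 0 0 • y)
  have h0 := hp (Fin.cons (-((fun i => B 0 i.succ) ⬝ᵥ y)) (B 0 0 • y)) (by
    intro h1
    apply hy
    funext i
    have := congrFun h1 i.succ
    simpa [ha.ne'] using this)
  simp only [dotProduct_smul, mulVec_smul, smul_dotProduct, smul_eq_mul] at h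
  have h2 := mul_pos ha h0
  rw [h] at h2
  by_contra h3
  nlinarith [mul_pos ha ha, not_lt.mp h3]

theorem sch_det {m : ℕ} (B : Matrix (Fin (m + 1)) (Fin (m + 1)) ℤ) (hB : Bᵀ = B) :
    B 0 0 * (sch B).det = B 0 0 ^ m * B.det := by
  have hs : ∀ i : Fin m, B i.succ 0 = B 0 i.succ := fun i => by
    have := congrFun (congrFun hB 0) i.succ
    simpa using this
  have h : (blk 1 (fun j => -B 0 j.succ) (Matrix.diagonal fun _ : Fin m => B 0 0))ᵀ * B =
      blk (B 0 0) (fun j => B 0 j.succ) (sch B) := by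
    ext i j
    rw [Matrix.mul_apply, Fin.sum_univ_succ]
    refine Fin.cases ?_ (fun i => ?_) i <;> refine Fin.cases ?_ (fun j => ?_) j <;>
      simp [blk, sch, Matrix.diagonal_apply, hs] <;> ring
  have := congrArg det h
  rw [det_mul, det_transpose, det_blk, det_blk, det_diagonal] at this
  simpa using this.symm

theorem herm : HermStmt := by
  classical
  intro n
  induction n with
  | zero =>
    intro A _ _
    exact ⟨1, by simp, by simp [det_unique]⟩
  | succ n ih =>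
    intro A hA hp
    have hpos : ∀ U : Matrix (Fin (n + 2)) (Fin (n + 2)) ℤ, IsUnit U.det →
        ∀ x : Fin (n + 2) → ℤ, x ≠ 0 → 0 < x ⬝ᵥ (Uᵀ * A * U) *ᵥ x := by
      intro U hU x hx
      have h1 : U *ᵥ x ≠ 0 := fun h => hx (eq_zero_of_mulVec_eq_zero hU.ne_zero h)
      have := hp _ h1
      rwa [← mulVec_mulVec, ← mulVec_mulVec, dotProduct_mulVec x, vecMul_transpose]
    have h00 : ∀ U : Matrix (Fin (n + 2)) (Fin (n + 2)) ℤ, IsUnit U.det → 0 < (Uᵀ * A * U) 0 0 := by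
      intro U hU
      have := hpos U hU (Pi.single 0 1) (by simp)
      simpa using this
    obtain ⟨a, ⟨U, hU, hUa⟩, hmin⟩ := Int.exists_least_of_bdd
      (P := fun z => ∃ U : Matrix (Fin (n + 2)) (Fin (n + 2)) ℤ, IsUnit U.det ∧ (Uᵀ * A * U) 0 0 = z)
      ⟨0, by rintro z ⟨U, hU, rfl⟩; exact (h00 U hU).le⟩ ⟨_, 1, by simp, rfl⟩
    refine ⟨U, hU, ?_⟩
    set B := Uᵀ * A * U with hBd
    have hB : Bᵀ = B := by rw [hBd, transpose_mul, transpose_mul, transpose_transpose, hA, Matrix.mul_assoc]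
    have hdet : B.det = A.det := by
      rw [hBd, det_mul, det_mul, det_transpose]
      rcases Int.isUnit_iff.mp hU with h | h <;> rw [h] <;> ring
    have ha : 0 < B 0 0 := h00 U hU
    obtain ⟨V, hV, hVb⟩ := ih (sch B) (sch_symm B hB) (sch_pos B hB ha (hpos U hU))
    rw [ent] at hVb
    set y : Fin (n + 1) → ℤ := fun k => V k 0 with hy
    set s := y ⬝ᵥ sch B *ᵥ y with hs
    set c := (fun i : Fin (n + 1) => B 0 i.succ) ⬝ᵥ y with hc
    obtain ⟨k, hk⟩ : ∃ k : ℤ, 4 * (B 0 0 * k + c) ^ 2 ≤ B 0 0 ^ 2 := by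
      have e1 := Int.emod_nonneg c ha.ne'
      have e2 := Int.emod_lt_of_pos c ha
      have e3 := Int.emod_add_mul_ediv c (B 0 0)
      by_cases h : 2 * (c % B 0 0) ≤ B 0 0
      · refine ⟨-(c / B 0 0), ?_⟩
        have : B 0 0 * -(c / B 0 0) + c = c % B 0 0 := by linarith
        rw [this]; nlinarith
      · refine ⟨-(c / B 0 0) - 1, ?_⟩
        have : B 0 0 * (-(c / B 0 0) - 1) + c = c % B 0 0 - B 0 0 := by linarith
        rw [this]; nlinarith
    let W := (blk 1 (fun _ => k) V).submatrix id (Equiv.swap (0 : Fin (n + 2)) (Fin.succ 0))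
    have hW : IsUnit W.det := by
      rw [det_permute', det_blk, one_mul]
      exact (Units.isUnit _).map (Int.castRingHom ℤ) |>.mul hV
    have hcol : (fun i => W i 0) = (Fin.cons k y : Fin (n + 2) → ℤ) := by
      funext i
      simp only [W, submatrix_apply, id, Equiv.swap_apply_left]
      refine Fin.cases ?_ (fun i => ?_) i <;> simp only [blk, of_apply, Fin.cons_zero, Fin.cons_succ, hy]
    have h1 := hmin _ ⟨U * W, by rw [det_mul]; exact hU.mul hW, rfl⟩
    have h2 : (U * W)ᵀ * A * (U * W) = Wᵀ * B * W := by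
      rw [hBd, transpose_mul]; simp only [Matrix.mul_assoc]
    rw [h2, ent, hcol, ← hUa] at h1
    have h3 := form B hB k k y y
    rw [← hs, ← hc] at h3
    have h4 : 3 * B 0 0 ^ 2 ≤ 4 * s := by nlinarith [mul_le_mul_of_nonneg_left h1 ha.le]
    have h5 := pow_le_pow_left₀ (by positivity) h4 (n + 1)
    have h6 := sch_det B hB
    have hm : (n + 1) * (n + 1 + 1) / 2 = n * (n + 1) / 2 + (n + 1) := by
      rw [show (n + 1) * (n + 1 + 1) = n * (n + 1) + 2 * (n + 1) by ring, Nat.add_mul_div_left _ _ two_pos]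
    rw [hm, ← hdet]
    set m := n * (n + 1) / 2
    set a := B 0 0
    have h7 : a ^ (n + 1) * (a ^ (n + 1 + 1) * 3 ^ (m + (n + 1))) ≤
        a ^ (n + 1) * (4 ^ (m + (n + 1)) * B.det) := by
      calc a ^ (n + 1) * (a ^ (n + 1 + 1) * 3 ^ (m + (n + 1)))
          = a * 3 ^ m * (3 * a ^ 2) ^ (n + 1) := by ring
        _ ≤ a * 3 ^ m * (4 * s) ^ (n + 1) := by gcongr
        _ = a * 4 ^ (n + 1) * (s ^ (n + 1) * 3 ^ m) := by ring
        _ ≤ a * 4 ^ (n + 1) * (4 ^ m * (sch B).det) := by gcongr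
        _ = 4 ^ (m + (n + 1)) * (a * (sch B).det) := by ring
        _ = _ := by rw [h6]; ring
    exact le_of_mul_le_mul_left h7 (by positivity)

end Cfsg.Agent.H2K5
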