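import Cfsg.Agent.H9.KCDefs
import Cfsg.Agent.S0904
import Cfsg.Agent.S3331
import Cfsg.Agent.H57.SC3Main

/-!
# No simple group has order `2 ^ a * q * 3` except for `60` and `168`
-/

set_option autoImplicit false
set_option linter.style.haveILetI false

namespace Cfsg.Agent.H2.KCK

open Subgroup

universe u

theorem card_eq {G : Type u} [Group G] [Finite G] [IsSimpleGroup G] {q a : ℕ} (hq : q.Prime)
    (h2 : 2 ≠ q) (h3 : q ≠ 3) (ha : 6 < 2 ^ a * q) (hc : Nat.card G = 2 ^ a * q ^ 1 * 3) :
    Nat.card G = 60 ∨ Nat.card G = 168 := by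
  haveI : Fact (Nat.Prime 3) := ⟨by norm_num⟩
  obtain ⟨S⟩ : Nonempty (Sylow 3 G) := inferInstance
  have hC := S0904.result 2 q 3 a 1 Nat.prime_two hq h2 (by norm_num) h3 hc S
  have hS : Nat.card S = 3 := by
    have h0 : ¬ 3 ∣ 2 ^ a * q ^ 1 := fun h => by
      rcases (Nat.Prime.dvd_mul Nat.prime_three).1 h with h | h
      · exact absurd (Nat.prime_three.dvd_of_dvd_pow h) (by norm_num)
      · rw [pow_one] at h
        exact h3 ((Nat.prime_dvd_prime_iff_eq Nat.prime_three hq).1 h).symm
    rw [S.card_eq_multiplicity, hc, Nat.factorization_mul (fun e => h0 (by rw [e]; exact dvd_zero 3))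
      (by norm_num), Finsupp.add_apply, Nat.factorization_eq_zero_of_not_dvd h0,
      Nat.prime_three.factorization_self]
    rfl
  have bt : ∀ N : Subgroup G, ∀ _ : N.Normal, N = ⊥ → Nat.card (G ⧸ N) = Nat.card G := by
    rintro _ _ rfl
    exact Nat.card_congr QuotientGroup.quotientBot.toEquiv
  rcases S3331.result (S : Subgroup G) hS hC with ⟨N, hN, -, h1, h4⟩ | ⟨N, hN, -, h1, ⟨e⟩⟩ | ⟨⟨e⟩⟩
  · rcases hN.eq_bot_or_eq_top with h | rfl
    · rw [pow_one] at hc
      have := bt N hN h
      rcases h4 with h4 | ⟨⟨e⟩⟩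
      · omega
      · rw [Nat.card_congr e.toEquiv, Nat.card_perm, Nat.card_fin] at this
        have e6 : Nat.factorial 3 = 6 := rfl
        omega
    · rw [card_top, hc] at h1
      exact absurd (Nat.Coprime.coprime_mul_left h1) (by norm_num)
  · rcases hN.eq_bot_or_eq_top with h | rfl
    · left
      rw [← bt N hN h, Nat.card_congr e.toEquiv, nat_card_alternatingGroup, Nat.card_fin]
      rfl
    · obtain ⟨x, hx⟩ := exists_prime_orderOf_dvd_card' (G := G) 3 (by rw [hc]; exact Dvd.intro_left _ rfl)
      have := orderOf_dvd_of_pow_eq_one (h1 x trivial)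
      rw [hx] at this
      norm_num at this
  · right
    rw [Nat.card_congr e.toEquiv, H57.card_L27]

theorem kill : H9.KC.KillStmt.{u} := by
  intro G _ _ _
  refine ⟨fun h => ?_, fun h => ?_, fun h => ?_, fun h => ?_⟩
  · have := card_eq (G := G) (q := 7) (a := 9) (by norm_num) (by norm_num) (by norm_num)
      (by norm_num) (by rw [h]; norm_num)
    omega
  · have := card_eq (G := G) (q := 7) (a := 10) (by norm_num) (by norm_num) (by norm_num)
      (by norm_num) (by rw [h]; norm_num)
    omega
  · have := card_eq (G := G) (q := 7) (a := 12) (by norm_num) (by norm_num) (by norm_num)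
      (by norm_num) (by rw [h]; norm_num)
    omega
  · have := card_eq (G := G) (q := 5) (a := 11) (by norm_num) (by norm_num) (by norm_num)
      (by norm_num) (by rw [h]; norm_num)
    omega

end Cfsg.Agent.H2.KCK
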