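import Cfsg.Agent.H40.L3K1

/-! Project L33, piece A1. -/

set_option autoImplicit false

namespace Cfsg.Agent.H2.L3A1

open Subgroup Cfsg.Agent.H83 Cfsg.Agent.H40.L3 Cfsg.Agent.H40.L3.D1

universe u

variable {G : Type*} [Group G]

theorem cc (g : G) {a b : G} (h : a * b = b * a) :
    g * a * g⁻¹ * (g * b * g⁻¹) = g * b * g⁻¹ * (g * a * g⁻¹) := by
  rw [conj_mul, conj_mul, h]

theorem cz' {g b z : G} (h : g * (b * z) = b * z * g) (hz : g * z = z * g) : g * b = b * g := by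
  apply mul_right_cancel (b := z)
  rw [mul_assoc, h, mul_assoc, mul_assoc, hz]

theorem cl {θ g b : G} (h : θ * g * b = b * (θ * g)) (hθ : θ * b = b * θ) : g * b = b * g := by
  apply mul_left_cancel (a := θ)
  rw [← mul_assoc, h, ← mul_assoc, ← mul_assoc, hθ]

theorem cjl {θ g a b : G} (h : θ * g * a * (θ * g)⁻¹ = b) (hθ : θ * b = b * θ) :
    g * a * g⁻¹ = b := by
  calc g * a * g⁻¹ = θ⁻¹ * (θ * g * a * (θ * g)⁻¹) * θ := by group
    _ = b := by rw [h, mul_assoc, ← hθ]; group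

theorem ez_bp {ι : N →* G} {x : G} {m : N} (h : ez1 ι x m) : ∃ i, x = ι (m * bp .Z i) := by
  rcases h with h | h
  · exact ⟨false, by rw [h]; simp [bp]⟩
  · exact ⟨true, h⟩

variable {e : Bool} {D : D1 G e}

theorem cme {g x : G} {m : N} (hz : g * D.ι .Z = D.ι .Z * g) (h : ez1 D.ι x m)
    (c : g * x = x * g) : g * D.ι m = D.ι m * g := by
  rcases ez1.iff_mul.1 h with rfl | rfl
  · exact c
  · exact cz' c hz

theorem cmm {k : G} {m n : N} (a : k * D.ι m = D.ι m * k) (b : k * D.ι n = D.ι n * k) :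
    k * D.ι (m * n) = D.ι (m * n) * k := mul_inv_eq_iff_eq_mul.1 (cjm (cj1 a) (cj1 b))

theorem cιι (D : D1 G e) (u m : N) : D.ι u * D.ι m * (D.ι u)⁻¹ = D.ι (u * m * u⁻¹) := by
  rw [map_mul, map_mul, map_inv]

variable [Finite G] {C : Cx1 D}

/-- the hypotheses on `n` -/
structure Hy (C : Cx1 D) (n : G) : Prop where
  nT : n ∈ C.T
  nN : n ∈ normalizer (C.Ts : Set G)
  n2 : n * n ∈ C.Ts
  ka : KA D (cj n D.F)

namespace Hy
variable {n : G} (h : Hy C n)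
include h

theorem s1 {g : G} (hg : g ∈ C.Ts) :
    ez1 D.ι (g * D.ι .T * g⁻¹) .T ∨ ez1 D.ι (g * D.ι .T * g⁻¹) (.T * .B) := by
  obtain ⟨m, a, b, c⟩ := D.im_t (C.nF hg)
  have tF : (.T : N) ∈ N.sF := by decide +kernel
  have ne : cj n D.F ≠ D.F := fun e' =>
    absurd ((h.ka.1 .T tF).1 (e'.symm ▸ D.mem_map.2 tF)) (by decide +kernel)
  have key : ∀ m : N, m ∈ N.sF → m * m = 1 → m * .B ≠ .B * m →
      (m = .T ∨ m = .T * .Z) ∨ (m = .T * .B ∨ m = .T * .B * .Z) := by decide +kernel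
  rw [c, D.ez_iff, D.ez_iff]
  exact key m a (D.ct_sq b).1 fun k => C.not_ct (C.cz h.nT) ((C.F1_le h.nN).trans C.l2) ne a
    ((h.ka.1 m a).2 k) b

theorem nD {m : N} (hm : m ∈ N.sF) (k : m * .B = .B * m) :
    ∃ m' ∈ N.sF, m' * .B = .B * m' ∧ n * D.ι m * n⁻¹ = D.ι m' := by
  have a := conj_mem_cj (g := n) ((h.ka.1 m hm).2 k)
  rw [C.swap h.n2] at a
  obtain ⟨m', hm', e'⟩ := a
  exact ⟨m', hm', (h.ka.1 m' hm').1 (e' ▸ conj_mem_cj (D.mem_map.2 hm)), e'.symm⟩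

theorem fw {g : G} (hg : g ∈ C.Ts) : ez1 D.ι (g * D.ι .W * g⁻¹) .W := by
  obtain ⟨f, hf, bf⟩ := h.ka.2
  have fT := C.F1_le h.nN hf
  have key : ∀ u : N, .W = u * .W * u⁻¹ ∨ .W = u * .W * u⁻¹ * .Z := by decide +kernel
  rcases h.s1 hg with a | a
  · obtain ⟨u, rfl⟩ := C.mem_T1 (C.l2 hg) a
    exact (ez1.of_ι u .W).congr (key u)
  · obtain ⟨u, hu⟩ := C.t_eq (C.l2 fT) (C.l2 hg)
      ((bf .T (by decide +kernel)).congr (by decide +kernel)) a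
    have : g = f * D.ι u := by rw [hu]; group
    rw [this]
    exact ez1.comp (C.cz (C.l2 fT)) ((bf .W (by decide +kernel)).congr (by decide +kernel))
      ((ez1.of_ι u .W).congr (key u))

theorem t1 : ez1 D.ι (n * D.ι .T * n⁻¹ * D.ι .T * (n * D.ι .T * n⁻¹)⁻¹) (.T * .B) := by
  obtain ⟨f, hf, bf⟩ := h.ka.2
  have ft : ez1 D.ι (f * D.ι .T * f⁻¹) (.T * .B) :=
    (bf .T (by decide +kernel)).congr (by decide +kernel)
  obtain ⟨u, hu, e'⟩ := mem_cj.1 hf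
  have fe : f = n * D.ι u * n⁻¹ := by
    rw [show D.ι u = n⁻¹ * f * n from e']; group
  by_cases k : u * .B = .B * u
  · obtain ⟨m', a, -, c⟩ := h.nD hu k
    rw [← fe] at c
    exact absurd (D.ez_uniq ft (D.bar_F (c ▸ D.mem_map.2 a) .T (by decide +kernel)))
      (by decide +kernel)
  · have key : ∀ u : N, u ∈ N.sF → u * .B ≠ .B * u →
        u * .T ∈ N.sF ∧ u * .T * .B = .B * (u * .T) := by decide +kernel
    obtain ⟨m', a, -, c⟩ := h.nD (key u hu k).1 (key u hu k).2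
    have : n * D.ι .T * n⁻¹ = D.ι m'⁻¹ * f := by
      rw [map_inv, ← c, fe, map_mul, mul_inv_rev, mul_inv_rev, mul_inv_rev,
        inv_eq_of_mul_eq_one_right D.t2]
      group
    rw [this]
    have key2 : ∀ m : N, m ∈ N.sF → .T * .B = m⁻¹ * (.T * .B) * m⁻¹⁻¹ ∨
        .T * .B = m⁻¹ * (.T * .B) * m⁻¹⁻¹ * .Z := by decide +kernel
    exact ez1.comp (D.zc _) ((ez1.of_ι m'⁻¹ _).congr (key2 m' a)) ft

theorem mul (u : N) : Hy C (D.ι u * n) where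
  nT := mul_mem (C.ι_T u) h.nT
  nN := mul_mem (le_normalizer (C.ι_Ts u)) h.nN
  n2 := by
    rw [show D.ι u * n * (D.ι u * n) = D.ι u * (n * D.ι u * n⁻¹) * (n * n) by group]
    exact mul_mem (mul_mem (C.ι_Ts u) ((mem_normalizer_iff.1 h.nN _).1 (C.ι_Ts u))) h.n2
  ka := by rw [cj_mul, cj_eq_self (C.nF1 h.nN (C.ι_Ts u))]; exact h.ka

theorem nrm : ∃ n', Hy C n' ∧ n' * D.ι .W = D.ι .W * n' ∧ n' * D.ι .Q = D.ι .Q * n' := by
  obtain ⟨w, a1, a2, a3⟩ := h.nD (m := .W) (by decide +kernel) (by decide +kernel)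
  obtain ⟨q, b1, b2, b3⟩ := h.nD (m := .Q) (by decide +kernel) (by decide +kernel)
  have z := cj1 (C.cz h.nT)
  have c := ez1.conj (C.cz h.nT) (h.fw ((mem_normalizer_iff''.1 h.nN _).1 (C.ι_Ts .C)))
    (ez1.of_eq a3)
  rw [show n * (n⁻¹ * D.ι .C * n * D.ι .W * (n⁻¹ * D.ι .C * n)⁻¹) * n⁻¹ =
    D.ι .C * (n * D.ι .W * n⁻¹) * (D.ι .C)⁻¹ by group, a3, cιι, D.ez_iff] at c
  have key : ∀ w : N, w ∈ N.sF → w * .B = .B * w → w * w = .Z →
      (.C * w * .C⁻¹ = w ∨ .C * w * .C⁻¹ = w * .Z) → ∀ q : N, q ∈ N.sF → q * .B = .B * q →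
      q * q = .Z → w * q ≠ q * w → ∃ u : N, u * w * u⁻¹ = .W ∧ u * q * u⁻¹ = .Q := by
    decide +kernel
  obtain ⟨u, u1, u2⟩ := key w a1 a2 ((cje (cjm a3 a3) z).1 (by decide +kernel)) c q b1 b2
    ((cje (cjm b3 b3) z).1 (by decide +kernel)) ((cjc a3 b3).not.1 (by decide +kernel))
  refine ⟨_, h.mul u, mul_inv_eq_iff_eq_mul.1 ?_, mul_inv_eq_iff_eq_mul.1 ?_⟩
  · rw [show D.ι u * n * D.ι .W * (D.ι u * n)⁻¹ = D.ι u * (n * D.ι .W * n⁻¹) * (D.ι u)⁻¹ by group,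
      a3, cιι, u1]
  · rw [show D.ι u * n * D.ι .Q * (D.ι u * n)⁻¹ = D.ι u * (n * D.ι .Q * n⁻¹) * (D.ι u)⁻¹ by group,
      b3, cιι, u2]

end Hy

/-- the element `θ` of order eight -/
structure St (C : Cx1 D) (n θ : G) : Prop where
  nN : n ∈ normalizer (C.Ts : Set G)
  nz : n * D.ι .Z = D.ι .Z * n
  nw : n * D.ι .W = D.ι .W * n
  nq : n * D.ι .Q = D.ι .Q * n
  nb : ez1 D.ι (n * D.ι .B * n⁻¹) .B
  nt : n * D.ι .T * n⁻¹ = D.ι .T * θ
  θT : θ ∈ C.Ts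
  θw : θ * D.ι .W = D.ι .W * θ
  θq : θ * D.ι .Q = D.ι .Q * θ
  θ2 : ez1 D.ι (θ * θ) .B
  tθ : D.ι .T * θ * D.ι .T = θ⁻¹
  θt : ez1 D.ι (θ * D.ι .T * θ⁻¹) (.T * .B)
  cov : ∀ g ∈ C.Ts, ∃ u, g = D.ι u ∨ g = θ * D.ι u

theorem Hy.st {n : G} (h : Hy C n) (nw : n * D.ι .W = D.ι .W * n) (nq : n * D.ι .Q = D.ι .Q * n) :
    St C n (D.ι .T * (n * D.ι .T * n⁻¹)) := by
  have nz := C.cz h.nT
  have ti : (D.ι .T)⁻¹ = D.ι .T := inv_eq_of_mul_eq_one_right D.t2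
  have mT : D.ι .T * (n * D.ι .T * n⁻¹) ∈ C.Ts :=
    mul_mem (C.ι_Ts _) ((mem_normalizer_iff.1 h.nN _).1 (C.ι_Ts _))
  have cm : ∀ m : N, n * D.ι m = D.ι m * n → .T * m = m * .T →
      D.ι .T * (n * D.ι .T * n⁻¹) * D.ι m = D.ι m * (D.ι .T * (n * D.ι .T * n⁻¹)) := by
    intro m a b
    have c := D.comm_iff.2 b
    have := cc n c
    rw [cj1 a] at this
    rw [mul_assoc, this, ← mul_assoc, c, mul_assoc]
  have θt : ez1 D.ι (D.ι .T * (n * D.ι .T * n⁻¹) * D.ι .T * (D.ι .T * (n * D.ι .T * n⁻¹))⁻¹)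
      (.T * .B) := ez1.comp (D.zc _) ((ez1.of_ι _ _).congr (by decide +kernel)) h.t1
  refine ⟨h.nN, nz, nw, nq, ?_, by rw [← mul_assoc (D.ι .T) (D.ι .T), D.t2, one_mul], mT,
    cm _ nw (by decide +kernel), cm _ nq (by decide +kernel), ?_, ?_, θt, fun g hg => ?_⟩
  · obtain ⟨b, a1, -, a3⟩ := h.nD (m := .B) (by decide +kernel) rfl
    have key : ∀ b : N, b ∈ N.sF → b * .W = .W * b → b * .Q = .Q * b → b * b = .Z →
        b = .B ∨ b = .B * .Z := by decide +kernel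
    rw [a3, D.ez_iff]
    exact key b a1 ((cjc a3 (cj1 nw)).1 (by decide +kernel))
      ((cjc a3 (cj1 nq)).1 (by decide +kernel))
      ((cje (cjm a3 a3) (cj1 nz)).1 (by decide +kernel))
  · have := ((ez1.rfl' (ι := D.ι) .T).mul h.t1).congr (n := .B) (by decide +kernel)
    convert this using 1
    rw [mul_inv_rev, mul_inv_rev, ti]
    group
  · rw [← mul_assoc (D.ι .T) (D.ι .T), D.t2, one_mul, mul_inv_rev, mul_inv_rev, mul_inv_rev, ti]
    group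
  · rcases h.s1 hg with a | a
    · obtain ⟨u, hu⟩ := C.mem_T1 (C.l2 hg) a
      exact ⟨u, .inl hu.symm⟩
    · obtain ⟨u, hu⟩ := C.t_eq (C.l2 mT) (C.l2 hg) θt a
      exact ⟨u, .inr (by rw [hu]; group)⟩

namespace St
variable {n θ : G} (h : St C n θ)
include h

theorem θz : θ * D.ι .Z = D.ι .Z * θ := C.cz (C.l2 h.θT)

theorem θb : θ * D.ι .B = D.ι .B * θ := cme h.θz h.θ2 (mul_assoc _ _ _).symm

omit [Finite G] in
theorem sq : ∃ b : N, (b = .B ∨ b = .B * .Z) ∧ θ * θ = D.ι b :=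
  h.θ2.elim (fun a => ⟨_, .inl rfl, a⟩) fun a => ⟨_, .inr rfl, a⟩

omit [Finite G] in
theorem θ4 : θ ^ 4 = D.ι .Z := by
  obtain ⟨b, hb, a⟩ := h.sq
  rw [show θ ^ 4 = θ * θ * (θ * θ) by simp only [pow_succ, pow_zero, one_mul, mul_assoc], a,
    ← map_mul]
  rcases hb with rfl | rfl <;> exact congrArg _ (by decide +kernel)

theorem nc : ez1 D.ι (n * D.ι .C * n⁻¹) .C := by
  have a : ∀ m m' : N, n * D.ι m = D.ι m * n → n * D.ι m' = D.ι m' * n → .C * m * .C⁻¹ = m' →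
      n * D.ι .C * n⁻¹ * D.ι m * (n * D.ι .C * n⁻¹)⁻¹ = D.ι m' := by
    intro m m' a b c
    rw [← cj1 a, ← cj1 b, ← c, ← cιι]; group
  have a1 := a .W _ h.nw (cmm h.nw h.nz) (by decide +kernel)
  have a2 := a .Q _ h.nq (cmm h.nw h.nq) (by decide +kernel)
  have mT := (mem_normalizer_iff.1 h.nN _).1 (C.ι_Ts .C)
  have a3 := cme (C.cz (C.l2 mT)) h.nb
    (cc n (D.comm_iff.2 (show (.C : N) * .B = .B * .C by decide +kernel)))
  have a4 : n * D.ι .C * n⁻¹ * (n * D.ι .C * n⁻¹) = 1 := by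
    rw [conj_mul, ← map_mul, show (.C : N) * .C = 1 by decide +kernel, map_one]; group
  obtain ⟨u, hu | hu⟩ := h.cov _ mT <;> rw [hu] at a1 a2 a3 a4 ⊢
  · have key : ∀ u : N, u * .W * u⁻¹ = .W * .Z → u * .Q * u⁻¹ = .W * .Q → u * .B = .B * u →
        u * u = 1 → u = .C ∨ u = .C * .Z := by decide +kernel
    rw [cιι, D.inj.eq_iff] at a1 a2
    rw [← map_mul, ← map_one D.ι, D.inj.eq_iff] at a4
    exact D.ez_iff.2 (key u a1 a2 (D.comm_iff.1 a3) a4)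
  · exfalso
    have b1 := cjl a1 (cmm h.θw h.θz)
    have b2 := cjl a2 (cmm h.θw h.θq)
    have b3 := D.comm_iff.1 (cl a3 h.θb)
    rw [cιι, D.inj.eq_iff] at b1 b2
    have key : ∀ u : N, u * .W * u⁻¹ = .W * .Z → u * .Q * u⁻¹ = .W * .Q → u * .B = .B * u →
        u * u = 1 ∨ u * u = .Z := by decide +kernel
    obtain ⟨b, hb, a⟩ := h.sq
    have c1 : D.ι u * θ * (D.ι u)⁻¹ = θ⁻¹ * (D.ι (u * u))⁻¹ := by
      rw [map_mul]
      calc D.ι u * θ * (D.ι u)⁻¹ = θ⁻¹ * (θ * D.ι u * (θ * D.ι u)) * (D.ι u * D.ι u)⁻¹ := by group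
        _ = _ := by rw [a4, mul_one]
    have c2 : D.ι (u * b * u⁻¹) = D.ι b⁻¹ := by
      rw [← cιι, map_inv, ← a, ← conj_mul, c1]
      rcases key u b1 b2 b3 with k | k <;> rw [k]
      · rw [map_one]; group
      · calc θ⁻¹ * (D.ι .Z)⁻¹ * (θ⁻¹ * (D.ι .Z)⁻¹) =
            θ⁻¹ * (θ * D.ι .Z)⁻¹ * (D.ι .Z)⁻¹ := by group
          _ = θ⁻¹ * θ⁻¹ * (D.ι .Z * D.ι .Z)⁻¹ := by rw [h.θz]; group
          _ = _ := by rw [D.z2]; group
    rw [D.inj.eq_iff] at c2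
    have key2 : ∀ u : N, u * .B = .B * u → u * .B * u⁻¹ ≠ .B⁻¹ ∧
        u * (.B * .Z) * u⁻¹ ≠ (.B * .Z)⁻¹ := by decide +kernel
    rcases hb with rfl | rfl
    exacts [(key2 u b3).1 c2, (key2 u b3).2 c2]

theorem θc : θ * D.ι .C = D.ι .C * θ := by
  have a := cc n (D.comm_iff.2 (show (.T : N) * .C = .C * .T by decide +kernel))
  rw [h.nt] at a
  exact cl (cme (C.cz (C.l2 (mul_mem (C.ι_Ts _) h.θT))) h.nc a)
    (D.comm_iff.2 (by decide +kernel))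

omit [Finite G] in
theorem tθ' : D.ι .T * θ * (D.ι .T)⁻¹ = θ⁻¹ := by
  rw [inv_eq_of_mul_eq_one_right D.t2, h.tθ]

theorem cov3 {g : G} (hg : g ∈ C.Ts) (gb : g * D.ι .B = D.ι .B * g) (gc : g * D.ι .C = D.ι .C * g)
    (gw : g * D.ι .W = D.ι .W * g) (g4 : g ^ 4 ≠ 1) :
    ∃ u : N, (u = 1 ∨ u = .Z ∨ u = .B ∨ u = .B * .Z) ∧ g = θ * D.ι u := by
  have key : ∀ u : N, u * .B = .B * u → u * .C = .C * u → u * .W = .W * u →
      (u = 1 ∨ u = .Z ∨ u = .B ∨ u = .B * .Z) ∧ u ^ 4 = 1 := by decide +kernel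
  obtain ⟨u, rfl | rfl⟩ := h.cov g hg
  · refine (g4 ?_).elim
    rw [← map_pow, (key u (D.comm_iff.1 gb) (D.comm_iff.1 gc) (D.comm_iff.1 gw)).2, map_one]
  · exact ⟨u, (key u (D.comm_iff.1 (cl gb h.θb)) (D.comm_iff.1 (cl gc h.θc))
      (D.comm_iff.1 (cl gw h.θw))).1, rfl⟩

end St

theorem caseT {D : D1 G true} {C : Cx1 D} {n θ : G} (h : St C n θ) : False := by
  have c : IsConj (D.ι .C) (D.ι .T) := by
    have := D.ct_TA
    rwa [show (.T * .A true : N) = .C by decide +kernel] at this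
  obtain ⟨j, hj⟩ := C.two_pow (C.l2 h.θT)
  obtain ⟨k, hk⟩ := C.two_pow (C.ι_T .T)
  exact D.z1 (h.θ4.symm.trans (D.no_d16 c h.θc (D.comm_iff.2 (by decide +kernel)) hj hk h.tθ'))

/-- the properties of the element `x` -/
structure XP (D : D1 G e) (x : G) : Prop where
  xz : x * D.ι .Z = D.ι .Z * x
  xc : x * D.ι .C = D.ι .C * x
  xb : x * D.ι .B = D.ι .B * x
  x2 : x * x = D.ι .C
  xt : x * D.ι .T * x⁻¹ = D.ι (.T * .C)
  xw : ez1 D.ι (x * D.ι .W * x⁻¹) (.W * .B * .C)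

omit [Finite G] in
theorem mem_cFp {k : G} (kt : k * D.ι .T = D.ι .T * k) (kb : k * D.ι .B = D.ι .B * k)
    (kw : k * D.ι .W = D.ι .W * k) (kc : k * D.ι .C = D.ι .C * k) :
    k ∈ centralizer (D.Fp : Set G) := by
  have p : ∀ {m : N}, k * D.ι m = D.ι m * k → m ∈ (centralizer {k}).comap D.ι := fun a =>
    mem_centralizer_singleton_iff.2 a.symm
  rintro _ ⟨m, hm, rfl⟩
  exact mem_centralizer_singleton_iff.1 (N.sFp_le (p kt) (p kb) (p kw) (p kc) hm)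

omit [Finite G] in
theorem cFp {k : G} (hk : k ∈ centralizer (D.Fp : Set G)) {m : N} (hm : m ∈ N.sFp) :
    k * D.ι m = D.ι m * k := (hk _ (D.mem_map.2 hm)).symm

omit [Finite G] in
theorem XP.conj {x o : G} (h : XP D x) (ho : o ∈ centralizer (D.Fp : Set G)) :
    XP D (o * x * o⁻¹) := by
  have a : ∀ {m m' : N}, m ∈ N.sFp → m' ∈ N.sFp → x * D.ι m * x⁻¹ = D.ι m' →
      o * x * o⁻¹ * D.ι m * (o * x * o⁻¹)⁻¹ = D.ι m' := fun hm hm' e' => by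
    rw [← cj1 (cFp ho hm), ← cj1 (cFp ho hm'), ← e']; group
  refine ⟨mul_inv_eq_iff_eq_mul.1 (a (by decide +kernel) (by decide +kernel) (cj1 h.xz)),
    mul_inv_eq_iff_eq_mul.1 (a (by decide +kernel) (by decide +kernel) (cj1 h.xc)),
    mul_inv_eq_iff_eq_mul.1 (a (by decide +kernel) (by decide +kernel) (cj1 h.xb)),
    by rw [conj_mul, h.x2, cj1 (cFp ho (by decide +kernel))],
    a (by decide +kernel) (by decide +kernel) h.xt,
    h.xw.imp (a (by decide +kernel) (by decide +kernel)) (a (by decide +kernel) (by decide +kernel))⟩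

theorem XP.nFp {x : G} (h : XP D x) : x ∈ normalizer (D.Fp : Set G) := by
  refine mem_normalizer_fintype ?_
  rintro _ ⟨m, hm, rfl⟩
  have p : ∀ {m m' : N}, ez1 D.ι (x * D.ι m * x⁻¹) m' → m' ∈ N.sFp →
      m ∈ (cj x⁻¹ D.Fp).comap D.ι := fun a b => by
    rw [mem_comap, mem_cj, inv_inv]
    exact a.mem_map b (by decide +kernel)
  have := N.sFp_le (p (.of_eq h.xt) (by decide +kernel)) (p (.of_eq (cj1 h.xb)) (by decide +kernel))
    (p h.xw (by decide +kernel)) (p (.of_eq (cj1 h.xc)) (by decide +kernel)) hm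
  rwa [mem_comap, mem_cj, inv_inv] at this

omit [Finite G] in
theorem XP.x4 {x : G} (h : XP D x) : x ^ 2 ^ 2 = 1 := by
  rw [pow_two 2, pow_mul, pow_two x, h.x2, pow_two, ← map_mul,
    show (.C : N) * .C = 1 by decide +kernel, map_one]

/-- the elements acting on `F' / ⟨z⟩` trivially or as `θ` -/
def Y (D : D1 G e) : Subgroup G where
  carrier := {g | g * D.ι .Z = D.ι .Z * g ∧ ez1 D.ι (g * D.ι .C * g⁻¹) .C ∧
    ez1 D.ι (g * D.ι .B * g⁻¹) .B ∧ ez1 D.ι (g * D.ι .W * g⁻¹) .W ∧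
    (ez1 D.ι (g * D.ι .T * g⁻¹) .T ∨ ez1 D.ι (g * D.ι .T * g⁻¹) (.T * .B))}
  one_mem' := by simp [ez1.rfl']
  mul_mem' := by
    rintro a b ⟨a1, a2, a3, a4, a5⟩ ⟨b1, b2, b3, b4, b5⟩
    refine ⟨by rw [mul_assoc, b1, ← mul_assoc, a1, mul_assoc], ez1.comp a1 a2 b2,
      ez1.comp a1 a3 b3, ez1.comp a1 a4 b4, ?_⟩
    rcases b5 with b5 | b5
    · exact a5.imp (fun k => ez1.comp a1 k b5) fun k => ez1.comp a1 k b5
    · rcases a5 with a5 | a5
      · exact .inr (ez1.comp a1 (a5.cmul a3) b5)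
      · exact .inl (ez1.comp a1 ((a5.cmul a3).congr (by decide +kernel)) b5)
  inv_mem' := by
    rintro a ⟨a1, a2, a3, a4, a5⟩
    refine ⟨(Commute.inv_left a1).eq, ez1.cinv a1 a2, ez1.cinv a1 a3, ez1.cinv a1 a4, ?_⟩
    rcases a5 with a5 | a5
    · exact .inl (ez1.cinv a1 a5)
    · exact .inr (ez1.cinv a1 ((a5.cmul a3).congr (by decide +kernel)))

omit [Finite G] in
theorem Fp_le_Y : D.Fp ≤ Y D := by
  rintro _ ⟨u, hu, rfl⟩
  have key : ∀ u : N, u ∈ N.sFp → ∀ m : N, m ∈ N.sFp →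
      m = u * m * u⁻¹ ∨ m = u * m * u⁻¹ * .Z := by decide +kernel
  exact ⟨D.zc u, (ez1.of_ι u _).congr (key u hu _ (by decide +kernel)),
    (ez1.of_ι u _).congr (key u hu _ (by decide +kernel)),
    (ez1.of_ι u _).congr (key u hu _ (by decide +kernel)),
    .inl ((ez1.of_ι u _).congr (key u hu _ (by decide +kernel)))⟩

theorem XP.nY {x : G} (h : XP D x) : x ∈ normalizer (Y D : Set G) := by
  refine mem_normalizer_fintype ?_
  rintro g ⟨g1, g2, g3, g4, g5⟩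
  have xc : ez1 D.ι _ _ := .of_eq (cj1 h.xc)
  have xb : ez1 D.ι _ _ := .of_eq (cj1 h.xb)
  have xt : ez1 D.ι _ _ := .of_eq h.xt
  have z : x * g * D.ι .Z = D.ι .Z * (x * g) := by
    rw [mul_assoc, g1, ← mul_assoc, h.xz, mul_assoc]
  have w1 : ez1 D.ι (x * D.ι (.W * .B * .C) * x⁻¹) .W :=
    ((h.xw.cmul xb).cmul xc).congr (by decide +kernel)
  have t1 : ez1 D.ι (x * D.ι (.T * .C) * x⁻¹) .T := (xt.cmul xc).congr (by decide +kernel)
  refine ⟨by rw [mul_assoc, (Commute.inv_left h.xz).eq, ← mul_assoc, z, mul_assoc],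
    ez1.comp z (ez1.comp h.xz xc g2) (ez1.cinv h.xz xc),
    ez1.comp z (ez1.comp h.xz xb g3) (ez1.cinv h.xz xb),
    ez1.comp z (ez1.comp h.xz w1 ((g4.cmul g3).cmul g2)) (ez1.cinv h.xz w1), ?_⟩
  rcases g5 with g5 | g5
  · exact .inl (ez1.comp z (ez1.comp h.xz t1 (g5.cmul g2)) (ez1.cinv h.xz t1))
  · exact .inr (ez1.comp z (ez1.comp h.xz (((xt.cmul xb).cmul xc).congr (by decide +kernel))
      (g5.cmul g2)) (ez1.cinv h.xz t1))

omit [Finite G] in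
theorem triv {g : G} (hg : g ∈ Y D) (gt : ez1 D.ι (g * D.ι .T * g⁻¹) .T) :
    ∃ u ∈ N.sFp, (D.ι u)⁻¹ * g ∈ centralizer (D.Fp : Set G) := by
  obtain ⟨-, g2, g3, g4, -⟩ := hg
  obtain ⟨i, a⟩ := ez_bp gt
  obtain ⟨j, b⟩ := ez_bp g3
  obtain ⟨k, c⟩ := ez_bp g4
  obtain ⟨l, d⟩ := ez_bp g2
  have key : ∀ i j k l : Bool, ∃ u : N, u ∈ N.sFp ∧ u * .T * u⁻¹ = .T * bp .Z i ∧
      u * .B * u⁻¹ = .B * bp .Z j ∧ u * .W * u⁻¹ = .W * bp .Z k ∧ u * .C * u⁻¹ = .C * bp .Z l := by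
    decide +kernel
  obtain ⟨u, hu, u1, u2, u3, u4⟩ := key i j k l
  have p : ∀ {m m' : N}, g * D.ι m * g⁻¹ = D.ι m' → u * m * u⁻¹ = m' →
      (D.ι u)⁻¹ * g * D.ι m = D.ι m * ((D.ι u)⁻¹ * g) := fun {m m'} a b => by
    rw [← b, ← cιι] at a
    calc (D.ι u)⁻¹ * g * D.ι m = (D.ι u)⁻¹ * (g * D.ι m * g⁻¹) * g := by group
      _ = _ := by rw [a]; group
  exact ⟨u, hu, mem_cFp (p a u1) (p b u2) (p c u3) (p d u4)⟩

theorem cent2 {D : D1 G false} {k : G} {j : ℕ} (hk : k ∈ centralizer (D.Fp : Set G))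
    (k2 : k ^ 2 ^ j = 1) : k = 1 ∨ k = D.ι .Z := by
  have le : (N.sFp ⊓ N.sS).map D.ι ≤ D.Fp := map_mono inf_le_left
  have ct : zpowers k ⊔ (N.sFp ⊓ N.sS).map D.ι ≤ centralizer {D.ι .T} := by
    refine sup_le (zpowers_le.2 (mem_centralizer_singleton_iff.2 (cFp hk (by decide +kernel)))) ?_
    rintro _ ⟨m, hm, rfl⟩
    have key : ∀ m : N, m ∈ N.sS → m * .T = .T * m := by decide +kernel
    exact mem_centralizer_singleton_iff.2 (D.comm_iff.2 (key m hm.2))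
  obtain ⟨g, gt, H⟩ := D.extr (P := zpowers k ⊔ (N.sFp ⊓ N.sS).map D.ι) (IsConj.refl _)
    (isPGroup_sup (isPGroup_zpowers k2) (D.pT1.to_le (D.map_le _))
      (zpowers_le.2 (centralizer_le_normalizer _ (cent_anti le hk))))
    fun x hx => mem_centralizer_singleton_iff.1 (ct hx)
  obtain ⟨k', k1, ek⟩ := H k (mem_sup_left (mem_zpowers k))
  obtain ⟨w, -, ew⟩ := H (D.ι .W) (mem_sup_right (D.mem_map.2
    (mem_inf.2 ⟨by decide +kernel, by decide +kernel⟩)))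
  obtain ⟨c, -, ec⟩ := H (D.ι .C) (mem_sup_right (D.mem_map.2
    (mem_inf.2 ⟨by decide +kernel, by decide +kernel⟩)))
  have gt' := mul_inv_eq_iff_eq_mul.1 gt
  have key : ∀ c : N, c ∈ N.sD false → c * c = 1 → ∀ w : N, w ∈ N.sD false → w * c ≠ c * w →
      w * w * (w * w) = 1 → w * w ≠ 1 → ∀ k : N, k ∈ N.sS → k * w = w * k → k * c = c * k →
      k = 1 ∨ k = w * w ∨ k = .T ∨ k = .T * (w * w) := by decide +kernel
  have o : g * D.ι 1 * g⁻¹ = D.ι 1 := by simp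
  have cm : ∀ {m m' : N}, m ∈ N.sFp → g * D.ι m * g⁻¹ = D.ι m' → k' * m' = m' * k' :=
    fun hm a => D.comm_iff.1 (by rw [← ek, ← a]; exact cc g (cFp hk hm))
  have back : ∀ {m m' : N}, g * D.ι m * g⁻¹ = D.ι m' → k' = m' → k = D.ι m := fun a b => by
    rw [b, ← a] at ek
    exact mul_left_cancel (mul_right_cancel ek)
  have kb := cFp hk (m := .B) (by decide +kernel)
  rcases key c (D.fus g gt' _ _ (by decide +kernel) ec) ((cje (cjm ec ec) o).1 (by decide +kernel))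
    w (D.fus g gt' _ _ (by decide +kernel) ew) ((cjc ew ec).not.1 (by decide +kernel))
    ((cje (cjm (cjm ew ew) (cjm ew ew)) o).1 (by decide +kernel))
    ((cje (cjm ew ew) o).not.1 (by decide +kernel)) k' k1
    (cm (by decide +kernel) ew) (cm (by decide +kernel) ec) with a | a | a | a
  · exact .inl ((back o a).trans (map_one _))
  · exact .inr ((back (cjm ew ew) a).trans (congrArg _ N.ww))
  · rw [back gt a, D.comm_iff] at kb
    exact absurd kb (by decide +kernel)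
  · rw [back (cjm gt (cjm ew ew)) a, D.comm_iff] at kb
    exact absurd kb (by decide +kernel)

section F
variable {D : D1 G false} {C : Cx1 D} {n θ : G}

theorem memP {P : Subgroup G} (hP : IsPGroup 2 P) (h1 : D.Fp ≤ P) (h2 : P ≤ Y D) {g : G}
    (hg : g ∈ P) (gt : ez1 D.ι (g * D.ι .T * g⁻¹) .T) : g ∈ D.Fp := by
  obtain ⟨u, hu, hk⟩ := triv (h2 hg) gt
  have mu := D.mem_map.2 hu
  obtain ⟨j, hj⟩ := isPGroup_iff.1 hP _ (mul_mem (inv_mem (h1 mu)) hg)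
  rcases cent2 hk hj with a | a
  · rw [inv_mul_eq_one] at a
    exact a ▸ mu
  · rw [inv_mul_eq_iff_eq_mul] at a
    exact a ▸ mul_mem mu (D.mem_map.2 (by decide +kernel))

theorem St.mY (h : St C n θ) : θ ∈ Y D :=
  ⟨h.θz, .of_eq (cj1 h.θc), .of_eq (cj1 h.θb), .of_eq (cj1 h.θw), .inr h.θt⟩

omit [Finite G] in
theorem St.J_le (h : St C n θ) : D.Fp ⊔ zpowers θ ≤ C.Ts :=
  sup_le ((D.map_le _).trans C.l1) (zpowers_le.2 h.θT)

theorem St.back (h : St C n θ) {g : G} (gt : ez1 D.ι (g * D.ι .T * g⁻¹) (.T * .B)) :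
    ez1 D.ι (θ⁻¹ * g * D.ι .T * (θ⁻¹ * g)⁻¹) .T :=
  ez1.comp (Commute.inv_left h.θz).eq (ez1.cinv h.θz h.θt) gt

theorem St.sylJ (h : St C n θ) : IsSylowIn 2 (D.Fp ⊔ zpowers θ) (Y D) := by
  refine ⟨sup_le Fp_le_Y (zpowers_le.2 h.mY), C.pTs.to_le h.J_le,
    fun P h2 hP h1 => le_antisymm (fun g hg => ?_) h1⟩
  have m : θ ∈ D.Fp ⊔ zpowers θ := mem_sup_right (mem_zpowers θ)
  rcases (h2 hg).2.2.2.2 with a | a
  · exact mem_sup_left (memP hP (le_sup_left.trans h1) h2 hg a)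
  · simpa using mul_mem m (mem_sup_left (memP hP (le_sup_left.trans h1) h2
      (mul_mem (inv_mem (h1 m)) hg) (h.back a)))

theorem St.exx (h : St C n θ) {x : G} (hx : XP D x) :
    ∃ x, XP D x ∧ x ∈ normalizer ((D.Fp ⊔ zpowers θ : Subgroup G) : Set G) := by
  obtain ⟨P, hP, le⟩ := exists_isSylowIn_ge (P := zpowers x ⊔ D.Fp) (H := normalizer (Y D : Set G))
    (sup_le (zpowers_le.2 hx.nY) (Fp_le_Y.trans le_normalizer))
    (isPGroup_sup (isPGroup_zpowers hx.x4) (D.pT1.to_le (D.map_le _)) (zpowers_le.2 hx.nFp))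
  obtain ⟨g, hg, e'⟩ := (hP.inf_normal le_normalizer le_rfl).exists_conj h.sylJ
  have a : g * x * g⁻¹ ∈ normalizer ((D.Fp ⊔ zpowers θ : Subgroup G) : Set G) := by
    rw [← e', ← cj_normalizer]
    exact conj_mem_cj (le_norm_inf le_normalizer hP.le (le (mem_sup_left (mem_zpowers x))))
  have m : θ ∈ D.Fp ⊔ zpowers θ := mem_sup_right (mem_zpowers θ)
  obtain ⟨j, hj, ho⟩ : ∃ j ∈ D.Fp ⊔ zpowers θ, j⁻¹ * g ∈ centralizer (D.Fp : Set G) := by
    rcases hg.2.2.2.2 with b | b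
    · obtain ⟨u, hu, k⟩ := triv hg b
      exact ⟨_, mem_sup_left (D.mem_map.2 hu), k⟩
    · obtain ⟨u, hu, k⟩ := triv (mul_mem (inv_mem h.mY) hg) (h.back b)
      exact ⟨_, mul_mem m (mem_sup_left (D.mem_map.2 hu)), by rwa [mul_inv_rev, mul_assoc]⟩
  refine ⟨_, hx.conj ho, ?_⟩
  rw [show j⁻¹ * g * x * (j⁻¹ * g)⁻¹ = j⁻¹ * (g * x * g⁻¹) * j by group]
  exact mul_mem (mul_mem (inv_mem (le_normalizer hj)) a) (le_normalizer hj)

theorem St.xθ (h : St C n θ) {x : G} (hx : XP D x)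
    (hn : x ∈ normalizer ((D.Fp ⊔ zpowers θ : Subgroup G) : Set G)) :
    x * θ * x⁻¹ = θ ∨ x * θ * x⁻¹ = θ * D.ι .Z := by
  have m := h.J_le ((mem_normalizer_iff.1 hn θ).1 (mem_sup_right (mem_zpowers θ)))
  have p : ∀ {m m' : N}, θ * D.ι m = D.ι m * θ → x * D.ι m * x⁻¹ = D.ι m' →
      x * θ * x⁻¹ * D.ι m' = D.ι m' * (x * θ * x⁻¹) := fun a b => b ▸ cc x a
  have gz := p h.θz (cj1 hx.xz)
  have gb := p h.θb (cj1 hx.xb)
  have gc := p h.θc (cj1 hx.xc)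
  have w1 : ez1 D.ι (x * D.ι (.W * .B * .C) * x⁻¹) .W :=
    ((hx.xw.cmul (.of_eq (cj1 hx.xb))).cmul (.of_eq (cj1 hx.xc))).congr (by decide +kernel)
  have gw := cme gz w1 (cc x (cmm (cmm h.θw h.θb) h.θc))
  obtain ⟨u, hu, e'⟩ := h.cov3 m gb gc gw (by rw [conj_pow', h.θ4, cj1 hx.xz]; exact D.z1)
  have sq : x * θ * x⁻¹ * (x * θ * x⁻¹) = θ * θ := by
    obtain ⟨b, hb, a⟩ := h.sq
    rw [conj_mul, a]
    rcases hb with rfl | rfl
    exacts [cj1 hx.xb, cj1 (cmm hx.xb hx.xz)]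
  have no : ∀ v : N, θ * D.ι v = D.ι v * θ → θ * D.ι v * (θ * D.ι v) = θ * θ → v * v = 1 := by
    intro v a b
    rw [mul_assoc, ← mul_assoc (D.ι v), ← a, mul_assoc, ← map_mul, mul_right_inj, mul_eq_left,
      ← map_one D.ι, D.inj.eq_iff] at b
    exact b
  rw [e'] at sq ⊢
  rcases hu with rfl | rfl | rfl | rfl
  · exact .inl (by rw [map_one, mul_one])
  · exact .inr rfl
  · exact absurd (no _ h.θb sq) (by decide +kernel)
  · exact absurd (no _ (cmm h.θb h.θz) sq) (by decide +kernel)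

theorem caseA0 {x θ : G} {b w : N} (hx : XP D x) (xw : x * D.ι .W * x⁻¹ = D.ι w)
    (hb : b = .B ∨ b = .B * .Z) (θ2 : θ * θ = D.ι b) (θw : θ * D.ι .W = D.ι .W * θ)
    (θc : θ * D.ι .C = D.ι .C * θ) (tθ : D.ι .T * θ * (D.ι .T)⁻¹ = θ⁻¹) (c : x * θ = θ * x)
    (hm : .T * .C * b⁻¹ * .C * w = .T * .C * .W) : False := by
  have ct : IsConj (D.ι (.T * .C * .W)) (D.ι .T) := by
    have := (D.ct_cj D.ct_TA .Q).symm.trans (IsConj.refl _) |>.symm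
    have k := D.ct_cj this .W
    have e1 : (.Q * (.T * .A false) * .Q⁻¹ : N) = .T * .C * .W ∨
        (.W * (.Q * (.T * .A false) * .Q⁻¹) * .W⁻¹ : N) = .T * .C * .W := by decide +kernel
    rcases e1 with e1 | e1
    · rwa [e1] at this
    · rwa [e1] at k
  have θt : θ * D.ι .T * θ⁻¹ = D.ι (.T * b⁻¹) := by
    rw [map_mul, map_inv, ← θ2]
    calc θ * D.ι .T * θ⁻¹ = D.ι .T * ((D.ι .T)⁻¹ * (θ⁻¹)⁻¹ * D.ι .T) * θ⁻¹ := by group
      _ = D.ι .T * (D.ι .T * (D.ι .T * θ * (D.ι .T)⁻¹)⁻¹ * D.ι .T) * θ⁻¹ := by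
        rw [tθ, inv_eq_of_mul_eq_one_right D.t2]
      _ = D.ι .T * ((D.ι .T * D.ι .T) * θ⁻¹) * θ⁻¹ := by group
      _ = _ := by rw [D.t2]; group
  have xb : x * D.ι b * x⁻¹ = D.ι b := by
    rcases hb with rfl | rfl
    exacts [cj1 hx.xb, cj1 (cmm hx.xb hx.xz)]
  have a1 := cjm (cjm θt (cj1 θc)) (cj1 θw)
  have a2 := cjm (cjm (cjm hx.xt (cji xb)) (cj1 hx.xc)) xw
  rw [hm] at a2
  have g1 : x * θ * D.ι (.T * .C * .W) = D.ι (.T * .C * .W) * (x * θ) := by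
    rw [← mul_inv_eq_iff_eq_mul]
    conv_rhs => rw [← a2, ← a1]
    group
  have g2 : x * θ * (x * θ) = D.ι (.C * b) := by
    rw [map_mul, ← hx.x2, ← θ2, mul_assoc, ← mul_assoc θ, ← c]; group
  have g4 : (x * θ) ^ 4 = D.ι .Z := by
    rw [show (x * θ) ^ 4 = x * θ * (x * θ) * (x * θ * (x * θ)) by
      simp only [pow_succ, pow_zero, one_mul, mul_assoc], g2, ← map_mul]
    rcases hb with rfl | rfl <;> exact congrArg _ (by decide +kernel)
  have g8 : (x * θ) ^ 2 ^ 3 = 1 := by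
    rw [show 2 ^ 3 = 4 * 2 from rfl, pow_mul, g4, pow_two, D.z2]
  have tx : D.ι .T * x * (D.ι .T)⁻¹ = x⁻¹ := by
    have e1 : x * D.ι .T = D.ι .T * (x * x) * x := by
      rw [hx.x2, ← map_mul, ← hx.xt]; group
    have e2 : x * x * (x * x) = 1 := by
      rw [hx.x2, ← map_mul, show (.C : N) * .C = 1 by decide +kernel, map_one]
    rw [inv_eq_of_mul_eq_one_right D.t2, mul_assoc, e1, eq_inv_iff_mul_eq_one]
    calc D.ι .T * (D.ι .T * (x * x) * x) * x = D.ι .T * D.ι .T * (x * x * (x * x)) := by group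
      _ = 1 := by rw [D.t2, e2, mul_one]
  refine D.z1 (g4.symm.trans (D.no_d16 (k := 1) (s := D.ι .T) ct g1 (D.comm_iff.2 (by decide +kernel)) g8
    (by rw [pow_one, pow_two, D.t2]) ?_))
  rw [← conj_mul, tx, tθ, c, mul_inv_rev]

theorem St.caseA (h : St C n θ) {x : G} (hx : XP D x) (c : x * θ = θ * x) : False := by
  obtain ⟨b, hb, a⟩ := h.sq
  obtain ⟨i, xw⟩ := ez_bp hx.xw
  have key : ∀ i : Bool, ∀ b : N, b = .B ∨ b = .B * .Z →
      .T * .C * b⁻¹ * .C * (.W * .B * .C * bp .Z i) = .T * .C * .W ∨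
      (.T * .C * b⁻¹⁻¹ * .C * (.W * .B * .C * bp .Z i) = .T * .C * .W ∧
        (b⁻¹ = .B ∨ b⁻¹ = .B * .Z)) := by
    decide +kernel
  rcases key i b hb with k | k
  · exact caseA0 hx xw hb a h.θw h.θc h.tθ' c k
  · exact caseA0 (θ := θ⁻¹) hx xw k.2 (by rw [map_inv, ← a, mul_inv_rev])
      (Commute.inv_left h.θw).eq (Commute.inv_left h.θc).eq (by rw [← conj_inv, h.tθ'])
      (Commute.inv_right c).eq k.1

theorem St.caseB0 (h : St C n θ) {x m : G} (hx : XP D x)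
    (hn : x ∈ normalizer ((D.Fp ⊔ zpowers θ : Subgroup G) : Set G))
    (c : x * θ * x⁻¹ = θ * D.ι .Z) (mN : m ∈ normalizer (C.Ts : Set G))
    (mz : m * D.ι .Z = D.ι .Z * m) (mc : m * D.ι .C = D.ι .C * m) (mb : m * D.ι .B = D.ι .B * m)
    (mw : m * D.ι .W = D.ι .W * m) (mt : m * D.ι .T * m⁻¹ = D.ι .T * θ) : False := by
  have p : ∀ {g : G} {v : N}, m * D.ι v = D.ι v * m → g * D.ι v = D.ι v * g →
      m * g * m⁻¹ * D.ι v = D.ι v * (m * g * m⁻¹) := fun a b => cj1 a ▸ cc m b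
  obtain ⟨u, hu, e1⟩ := h.cov3 ((mem_normalizer_iff.1 mN θ).1 h.θT) (p mb h.θb) (p mc h.θc)
    (p mw h.θw) (by rw [conj_pow', h.θ4, cj1 mz]; exact D.z1)
  obtain ⟨i, xw⟩ := ez_bp hx.xw
  set y := m * x * m⁻¹ with hy
  have yz : y * D.ι .Z = D.ι .Z * y := p mz hx.xz
  have yc : y * D.ι .C = D.ι .C * y := p mc hx.xc
  have yb : y * D.ι .B = D.ι .B * y := p mb hx.xb
  have cv : ∀ a : G, y * (m * a * m⁻¹) * y⁻¹ = m * (x * a * x⁻¹) * m⁻¹ := fun a => by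
    rw [hy]; group
  have yw : y * D.ι .W * y⁻¹ = D.ι (.W * .B * .C * bp .Z i) := by
    rw [← cj1 mw, cv, xw]
    refine cj1 (cmm (cmm (cmm mw mb) mc) ?_)
    cases i
    exacts [by simp [bp], mz]
  have yu : y * D.ι u = D.ι u * y := by
    rcases hu with rfl | rfl | rfl | rfl
    exacts [by simp, yz, yb, cmm yb yz]
  have yθ : y * θ * y⁻¹ = θ * D.ι .Z := by
    have := cv θ
    rw [c, ← conj_mul (b := m), e1, cj1 mz, ← conj_mul, cj1 yu, mul_assoc θ, D.zc u, ← mul_assoc] at this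
    exact mul_right_cancel this
  have yt : y * D.ι .T * y⁻¹ = D.ι (.T * .C * .Z) := by
    have := cv (D.ι .T)
    rw [hx.xt, map_mul, ← conj_mul (b := m), mt, cj1 mc, ← conj_mul, yθ, mul_assoc (D.ι .T), h.θc,
      h.θz, ← mul_assoc, ← mul_assoc, mul_left_inj] at this
    rw [map_mul, map_mul, ← this, mul_assoc _ (D.ι .Z), D.z2, mul_one]
  have y2 : y * y = D.ι .C := by rw [hy, conj_mul, hx.x2, cj1 mc]
  have q : ∀ {a b : G}, y * a * y⁻¹ = b → D.ι .B * (x * a * x⁻¹) * (D.ι .B)⁻¹ = b →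
      (D.ι .B * x)⁻¹ * y * a = a * ((D.ι .B * x)⁻¹ * y) := fun {a b} h1 h2 => by
    calc (D.ι .B * x)⁻¹ * y * a = (D.ι .B * x)⁻¹ * (y * a * y⁻¹) * y := by group
      _ = _ := by rw [h1, ← h2]; group
  have k0 : (D.ι .B * x)⁻¹ * y ∈ centralizer (D.Fp : Set G) := mem_cFp
    (q yt (by rw [hx.xt, cιι]; exact congrArg _ (by decide +kernel)))
    (q (cj1 yb) (by rw [cj1 hx.xb]; group))
    (q yw (by rw [xw, cιι]; cases i <;> exact congrArg _ (by decide +kernel)))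
    (q (cj1 yc) (by rw [cj1 hx.xc, cιι]; exact congrArg _ (by decide +kernel)))
  have k1 : (D.ι .B * x)⁻¹ * y ∈ centralizer ((D.Fp ⊔ zpowers θ : Subgroup G) : Set G) := by
    rw [centralizer_sup]
    refine ⟨k0, ?_⟩
    rintro _ ⟨j, rfl⟩
    refine (Commute.zpow_right (q yθ ?_) j).symm.eq
    rw [c, mul_inv_eq_iff_eq_mul, ← mul_assoc, ← h.θb, mul_assoc, mul_assoc, D.zc]
  have xn := normalizer_le_normalizer_centralizer _ hn
  have le := cent_anti (le_sup_left : D.Fp ≤ D.Fp ⊔ zpowers θ)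
  refine no_sq_z (K := centralizer ((D.Fp ⊔ zpowers θ : Subgroup G) : Set G)) (x := x)
    (fun g hg => C.cz (C.l2 (h.J_le hg))) D.z1 D.z2
    (fun g hg => cFp (le hg) (by decide +kernel))
    (fun g hg g2 => cent2 (j := 1) (le hg) (by rw [pow_one, pow_two, g2]))
    (fun g hg g2 => ?_) xn hx.xz ((mem_normalizer_iff''.1 xn _).1 k1) ?_
  · rcases cent2 (j := 2) (le hg) (by rw [pow_two 2, pow_mul, pow_two g, g2, pow_two, D.z2])
      with rfl | rfl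
    · exact D.z1 (by rw [← g2, mul_one])
    · exact D.z1 (g2.symm.trans D.z2)
  · have kb := cFp k0 (m := .B) (by decide +kernel)
    set k := (D.ι .B * x)⁻¹ * y with hk
    have : y = D.ι .B * x * k := by rw [hk]; group
    rw [this] at y2
    have y3 : D.ι .B * D.ι .B * (x * k * x * k) = D.ι .C := by
      calc D.ι .B * D.ι .B * (x * k * x * k) = D.ι .B * (D.ι .B * x) * k * x * k := by group
        _ = D.ι .B * (x * D.ι .B) * k * x * k := by rw [hx.xb]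
        _ = D.ι .B * x * (D.ι .B * k) * x * k := by group
        _ = D.ι .C := by rw [← kb, ← y2]; group
    calc x⁻¹ * k * x * (x * (x⁻¹ * k * x) * x⁻¹)
        = (x * x)⁻¹ * (D.ι .B * D.ι .B)⁻¹ * (D.ι .B * D.ι .B * (x * k * x * k)) := by group
      _ = D.ι .Z := by
        rw [y3, hx.x2, ← map_mul, ← map_inv, ← map_inv, ← map_mul, ← map_mul]
        exact congrArg _ (by decide +kernel)

theorem St.caseB (h : St C n θ) {x : G} (hx : XP D x)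
    (hn : x ∈ normalizer ((D.Fp ⊔ zpowers θ : Subgroup G) : Set G))
    (c : x * θ * x⁻¹ = θ * D.ι .Z) : False := by
  obtain ⟨i, a⟩ := ez_bp h.nc
  obtain ⟨j, b⟩ := ez_bp h.nb
  have key : ∀ i j : Bool, ∃ v : N, v * .C * v⁻¹ = .C * bp .Z i ∧ v * .B * v⁻¹ = .B * bp .Z j ∧
      v * .W * v⁻¹ = .W ∧ v * .T * v⁻¹ = .T ∧ .C * bp .Z i * bp .Z i = (.C : N) ∧
      .B * bp .Z j * bp .Z j = (.B : N) := by decide +kernel
  obtain ⟨v, v1, v2, v3, v4, v5, v6⟩ := key i j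
  have cv : ∀ m : N, n * D.ι v * D.ι m * (n * D.ι v)⁻¹ = n * D.ι (v * m * v⁻¹) * n⁻¹ := fun m => by
    rw [← cιι]; group
  have zb : ∀ i, n * D.ι (bp .Z i) * n⁻¹ = D.ι (bp .Z i) := fun i => by
    cases i
    exacts [by simp [bp], cj1 h.nz]
  refine h.caseB0 hx hn c (m := n * D.ι v) (mul_mem h.nN (le_normalizer (C.ι_Ts v)))
    (by rw [mul_assoc, D.zc, ← mul_assoc, h.nz, mul_assoc]) (mul_inv_eq_iff_eq_mul.1 ?_)
    (mul_inv_eq_iff_eq_mul.1 ?_) (mul_inv_eq_iff_eq_mul.1 ?_) ?_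
  · rw [cv, v1, cjm a (zb i), v5]
  · rw [cv, v2, cjm b (zb j), v6]
  · rw [cv, v3, cj1 h.nw]
  · rw [cv, v4, h.nt]

end F

theorem a1 : A1S.{u} := by
  intro hX G _ _ e D C n h1 h2 h3 ka
  obtain ⟨n, h, nw, nq⟩ := (⟨h1, h2, h3, ka⟩ : Hy C n).nrm
  have s := h.st nw nq
  cases e
  · obtain ⟨x, x1, x2, x3, x4, x5, x6⟩ := hX G D (D.ct_of_ez s.θz s.θt)
    obtain ⟨x, hx, hn⟩ := s.exx ⟨x1, x2, x3, x4, x5, x6⟩
    rcases s.xθ hx hn with c | c
    · exact s.caseA hx (mul_inv_eq_iff_eq_mul.1 c)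
    · exact s.caseB hx hn c
  · exact caseT s

end Cfsg.Agent.H2.L3A1
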