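import Cfsg.Agent.H17.LPDefs

/-! Project LP: symbolic collection in an extension of `Λ² V` by `SL₅(2)`. -/

set_option autoImplicit false

namespace Cfsg.Agent.H2LpSp

open Matrix Cfsg.Agent.H17.LP

universe u

/-! ### symbolic matrices: 25 blocks of 1400 bits -/

def co (v : ℕ → F) (f c : ℕ) : F := ∑ k ∈ Finset.range 1400, if f.testBit (1400 * c + k) then v k else 0
def mat (v : ℕ → F) (f : ℕ) : M5 := of fun p q => co v f (5 * p + q)
def mv (f d c : ℕ) : ℕ := ((f >>> (1400 * d)) % 2 ^ 1400) <<< (1400 * c)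

variable {v : ℕ → F}

theorem co_xor (f g c : ℕ) : co v (f ^^^ g) c = co v f c + co v g c := by
  unfold co
  rw [← Finset.sum_add_distrib]
  refine Finset.sum_congr rfl fun k _ => ?_
  rw [Nat.testBit_xor]
  cases f.testBit _ <;> cases g.testBit _ <;> simp [two_F]

theorem co_zero (c : ℕ) : co v 0 c = 0 := by simp [co]

theorem co_mv (f d c e : ℕ) : co v (mv f d c) e = if e = c then co v f d else 0 := by
  unfold co mv
  split_ifs with h
  · subst h
    refine Finset.sum_congr rfl fun k hk => ?_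
    rw [Finset.mem_range] at hk
    rw [Nat.testBit_shiftLeft, Nat.testBit_mod_two_pow, Nat.testBit_shiftRight, Nat.add_sub_cancel_left]
    simp [hk]
  · refine Finset.sum_eq_zero fun k hk => ?_
    rw [Finset.mem_range] at hk
    rw [Nat.testBit_shiftLeft, Nat.testBit_mod_two_pow, if_neg]
    simp only [ge_iff_le, Bool.and_eq_true, decide_eq_true_eq]
    omega

theorem co_pow {n : ℕ} (h : n < 1400) : co v (2 ^ n) 0 = v n := by
  unfold co
  rw [Finset.sum_eq_single n]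
  · simp
  · intro k _ hk
    simp [Nat.testBit_two_pow_of_ne hk.symm]
  · simp [h]

theorem mat_xor (f g : ℕ) : mat v (f ^^^ g) = mat v f + mat v g := by
  ext p q; simp [mat, co_xor]

theorem mat_zero : mat v 0 = 0 := by ext p q; simp [mat, co_zero]

def rw1 (i j f : ℕ) : ℕ := f ^^^ mv f (5 * j) (5 * i) ^^^ mv f (5 * j + 1) (5 * i + 1) ^^^
  mv f (5 * j + 2) (5 * i + 2) ^^^ mv f (5 * j + 3) (5 * i + 3) ^^^ mv f (5 * j + 4) (5 * i + 4)
def cl1 (i j f : ℕ) : ℕ := f ^^^ mv f j i ^^^ mv f (5 + j) (5 + i) ^^^ mv f (10 + j) (10 + i) ^^^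
  mv f (15 + j) (15 + i) ^^^ mv f (20 + j) (20 + i)

theorem mat_rw1 (i j : Fin 5) (f : ℕ) : mat v (rw1 i j f) = (1 + single i j 1) * mat v f := by
  ext p q
  rw [Matrix.add_mul, Matrix.one_mul, Matrix.add_apply]
  by_cases h : p = i
  · subst h
    rw [single_mul_apply_same, one_mul]
    fin_cases q <;> simp [mat, rw1, co_xor, co_mv]
  · rw [single_mul_apply_of_ne _ _ _ _ _ h]
    have h' : (p : ℕ) ≠ i := fun e => h (Fin.ext e)
    simp only [mat, rw1, co_xor, co_mv, of_apply]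
    rw [if_neg (by omega), if_neg (by omega), if_neg (by omega), if_neg (by omega), if_neg (by omega)]
    simp

theorem mat_cl1 (i j : Fin 5) (f : ℕ) : mat v (cl1 i j f) = mat v f * (1 + single i j 1)ᵀ := by
  ext p q
  rw [transpose_add, transpose_one, transpose_single, Matrix.mul_add, Matrix.mul_one, Matrix.add_apply]
  by_cases h : q = i
  · subst h
    rw [mul_single_apply_same, mul_one]
    fin_cases p <;> simp [mat, cl1, co_xor, co_mv]
  · rw [mul_single_apply_of_ne _ _ _ _ _ h]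
    have h' : (q : ℕ) ≠ i := fun e => h (Fin.ext e)
    simp only [mat, cl1, co_xor, co_mv, of_apply]
    rw [if_neg (by omega), if_neg (by omega), if_neg (by omega), if_neg (by omega), if_neg (by omega)]
    simp

def tv (r : Fin 5 × Fin 5) (f : ℕ) : ℕ := if r.1 = r.2 then f else cl1 r.1 r.2 (rw1 r.1 r.2 f)
def XX (r : Fin 5 × Fin 5) : SL5 := X (r.1 + 1) (r.2 + 1)

theorem XX_eq : ∀ i j : Fin 5, (XX (i, j)).1 = if i = j then 1 else 1 + single i j 1 := by decide +kernel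

theorem mat_tv (r : Fin 5 × Fin 5) (f : ℕ) : mat v (tv r f) = (XX r).1 * mat v f * (XX r).1ᵀ := by
  rw [XX_eq r.1 r.2, tv]
  split_ifs
  · simp
  · rw [mat_cl1, mat_rw1]

/-- the generators: ten root elements, four reflections -/
def rt (x : ℕ) : List (Fin 5 × Fin 5) :=
  [[(0, 1)], [(1, 2)], [(2, 3)], [(3, 4)], [(0, 2)], [(1, 3)], [(2, 4)], [(0, 3)], [(1, 4)], [(0, 4)],
    [(0, 1), (1, 0), (0, 1)], [(1, 2), (2, 1), (1, 2)], [(2, 3), (3, 2), (2, 3)],
    [(3, 4), (4, 3), (3, 4)]].getD x []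
def gm (x : ℕ) : SL5 := (rt x).foldr (fun r g => XX r * g) 1
def act (x f : ℕ) : ℕ := (rt x).foldr tv f

theorem mat_act (x f : ℕ) : mat v (act x f) = (gm x).1 * mat v f * (gm x).1ᵀ := by
  unfold act gm
  induction rt x with
  | nil => simp
  | cons r l ih =>
    rw [List.foldr_cons, List.foldr_cons, mat_tv, ih, coe_mul', transpose_mul]
    simp only [Matrix.mul_assoc]

def am (a : ℕ → F) : M5 := !![0, a 0, a 1, a 2, a 3; a 0, 0, a 4, a 5, a 6; a 1, a 4, 0, a 7, a 8;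
  a 2, a 5, a 7, 0, a 9; a 3, a 6, a 8, a 9, 0]

theorem alt_am (a : ℕ → F) : Alt (am a) :=
  ⟨by ext p q; fin_cases p <;> fin_cases q <;> rfl, fun i => by fin_cases i <;> rfl⟩

theorem ex_am {t : M5} (h : Alt t) : ∃ a, t = am a := by
  refine ⟨fun l => [t 0 1, t 0 2, t 0 3, t 0 4, t 1 2, t 1 3, t 1 4, t 2 3, t 2 4, t 3 4].getD l 0, ?_⟩
  ext p q
  fin_cases p <;> fin_cases q <;> first | rfl | exact h.2 _ | exact h.symm _ _

def p2 (f d c c' : ℕ) : ℕ := mv f d c ^^^ mv f d c'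
def sy (g : ℕ → ℕ) : ℕ := p2 (g 0) 0 1 5 ^^^ p2 (g 1) 0 2 10 ^^^ p2 (g 2) 0 3 15 ^^^ p2 (g 3) 0 4 20 ^^^
  p2 (g 4) 0 7 11 ^^^ p2 (g 5) 0 8 16 ^^^ p2 (g 6) 0 9 21 ^^^ p2 (g 7) 0 13 17 ^^^ p2 (g 8) 0 14 22 ^^^
  p2 (g 9) 0 19 23

theorem mat_sy (g : ℕ → ℕ) : mat v (sy g) = am fun l => co v (g l) 0 := by
  ext p q
  fin_cases p <;> fin_cases q <;> simp [mat, sy, p2, am, co_xor, co_mv]

/-! ### the rewriting rules -/

def red (x y : ℕ) : Bool :=
  bif Nat.ble x 9 then Nat.ble y x else (Nat.ble x 13 && Nat.ble y 9 && !Nat.beq (y + 10) x)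
def rhs (x y : ℕ) : List ℕ := ([[[]], [[0, 1, 4], []], [[0, 2], [1, 2, 5], []],
  [[0, 3], [1, 3], [2, 3, 6], []], [[0, 4], [1, 4], [2, 4, 7], [3, 4], []],
  [[0, 5, 7], [1, 5], [2, 5], [3, 5, 8], [4, 5], []],
  [[0, 6], [1, 6, 8], [2, 6], [3, 6], [4, 6, 9], [5, 6], []],
  [[0, 7], [1, 7], [2, 7], [3, 7, 9], [4, 7], [5, 7], [6, 7], []],
  [[0, 8, 9], [1, 8], [2, 8], [3, 8], [4, 8], [5, 8], [6, 8], [7, 8], []],
  [[0, 9], [1, 9], [2, 9], [3, 9], [4, 9], [5, 9], [6, 9], [7, 9], [8, 9], []],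
  [[], [4, 10], [2, 10], [3, 10], [1, 10], [7, 10], [6, 10], [5, 10], [9, 10], [8, 10]],
  [[4, 11], [], [5, 11], [3, 11], [0, 11], [2, 11], [8, 11], [7, 11], [6, 11], [9, 11]],
  [[0, 12], [5, 12], [], [6, 12], [7, 12], [1, 12], [3, 12], [4, 12], [8, 12], [9, 12]],
  [[0, 13], [1, 13], [6, 13], [], [4, 13], [8, 13], [2, 13], [9, 13], [5, 13], [7, 13]]].getD x []).getD y []
def tl (x y : ℕ) : ℕ := sy fun l => 2 ^ (100 * x + 10 * y + l)

theorem red_lt {x y : ℕ} (h : red x y = true) : x < 14 ∧ y < 10 := by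
  unfold red at h
  cases e : Nat.ble x 9 <;> simp [e] at h
  · omega
  · rw [Nat.ble_eq] at e; omega

theorem rhs_ok : ∀ x < 14, ∀ y < 10, red x y = true →
    (gm x * gm y).1 = (((rhs x y).map gm).prod).1 := by decide +kernel

def st (x : ℕ) : List ℕ → ℕ × List ℕ
  | [] => (0, [x])
  | y :: s => bif red x y then (tl x y, rhs x y ++ s) else (act x (st y s).1, x :: (st y s).2)
def step : List ℕ → ℕ × List ℕ
  | [] => (0, [])
  | x :: s => st x s
def nrm : ℕ → List ℕ → ℕ × List ℕ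
  | 0, w => (0, w)
  | n + 1, w => ((step w).1 ^^^ (nrm n (step w).2).1, (nrm n (step w).2).2)
/-- a critical pair -/
def idn (x y z : ℕ) : ℕ :=
  if (nrm 7 [x, y, z]).2 = (nrm 7 (x :: (st y [z]).2)).2 then
    (nrm 7 [x, y, z]).1 ^^^ (act x (st y [z]).1 ^^^ (nrm 7 (x :: (st y [z]).2)).1) else 0
def idc (e : ℕ) : ℕ := idn (e / 100) (e / 10 % 10) (e % 10)
def cm1 (f : ℕ) (l : List ℕ) : ℕ := l.foldr (fun c a => p2 f (c % 25) (c / 25 % 25) (c / 625) ^^^ a) 0
def cmb (l : List (ℕ × List ℕ)) : ℕ := l.foldr (fun e a => cm1 (idc e.1) e.2 ^^^ a) 0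

section Sound
variable {N : Type u} [Group N] {ι : M5 → N} {π : N →* SL5} {b : ℕ → N}

structure Hy (ι : M5 → N) (π : N →* SL5) (b : ℕ → N) (v : ℕ → F) : Prop where
  ex : Ex ι π
  hb : ∀ x, π (b x) = gm x
  rel : ∀ x y, red x y = true → b x * b y = ι (mat v (tl x y)) * ((rhs x y).map b).prod

def Sd (ι : M5 → N) (b : ℕ → N) (v : ℕ → F) (w : List ℕ) (r : ℕ × List ℕ) : Prop :=
  Alt (mat v r.1) ∧ (w.map b).prod = ι (mat v r.1) * (r.2.map b).prod

theorem i0 (ex : Ex ι π) : ι 0 = 1 := by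
  have := ex.add 0 0 Alt.zero Alt.zero
  rw [add_zero] at this
  exact left_eq_mul.1 this

theorem sd0 (ex : Ex ι π) (w : List ℕ) : Sd ι b v w (0, w) := by
  unfold Sd; rw [mat_zero, i0 ex, one_mul]; exact ⟨Alt.zero, rfl⟩

theorem Hy.mov (h : Hy ι π b v) (x : ℕ) {f : ℕ} (hf : Alt (mat v f)) :
    Alt (mat v (act x f)) ∧ b x * ι (mat v f) = ι (mat v (act x f)) * b x := by
  rw [mat_act, ← h.hb, ← h.ex.act _ _ hf]
  exact ⟨hf.act _, by group⟩

theorem Hy.cons (h : Hy ι π b v) (x : ℕ) {w : List ℕ} {r : ℕ × List ℕ} (hr : Sd ι b v w r) :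
    Sd ι b v (x :: w) (act x r.1, x :: r.2) := by
  refine ⟨(h.mov x hr.1).1, ?_⟩
  rw [List.map_cons, List.prod_cons, hr.2, ← mul_assoc, (h.mov x hr.1).2, List.map_cons, List.prod_cons,
    mul_assoc]

theorem Sd.trans (ex : Ex ι π) {w : List ℕ} {r s : ℕ × List ℕ} (hr : Sd ι b v w r) (hs : Sd ι b v r.2 s) :
    Sd ι b v w (r.1 ^^^ s.1, s.2) := by
  unfold Sd
  rw [mat_xor, ex.add _ _ hr.1 hs.1, hr.2, hs.2, mul_assoc]
  exact ⟨hr.1.add hs.1, rfl⟩

theorem Hy.st (h : Hy ι π b v) (s : List ℕ) : ∀ x, Sd ι b v (x :: s) (st x s) := by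
  induction s with
  | nil => exact fun x => sd0 h.ex _
  | cons y s ih =>
    intro x
    rw [H2LpSp.st]
    cases e : red x y
    · exact h.cons x (ih y)
    · refine ⟨by rw [cond_true, tl, mat_sy]; exact alt_am _, ?_⟩
      rw [cond_true, List.map_cons, List.map_cons, List.prod_cons, List.prod_cons, ← mul_assoc, h.rel x y e,
        List.map_append, List.prod_append, mul_assoc]

theorem Hy.nrm (h : Hy ι π b v) (n : ℕ) : ∀ w, Sd ι b v w (nrm n w) := by
  induction n with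
  | zero => exact fun w => sd0 h.ex _
  | succ n ih =>
    intro w
    refine Sd.trans h.ex ?_ (ih _)
    cases w with
    | nil => exact sd0 h.ex _
    | cons x s => exact h.st s x

theorem inj' (ex : Ex ι π) {a c : M5} (ha : Alt a) (hc : Alt c) (e : ι a = ι c) : a + c = 0 :=
  ex.inj _ (ha.add hc) (by rw [ex.add _ _ ha hc, e, ← ex.add _ _ hc hc, add_self_M, i0 ex])

theorem Hy.idn (h : Hy ι π b v) (x y z : ℕ) : mat v (idn x y z) = 0 := by
  unfold H2LpSp.idn
  split_ifs with e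
  · have h1 := h.nrm 7 [x, y, z]
    have h2 := (h.cons x (h.st [z] y)).trans h.ex (h.nrm 7 _)
    rw [mat_xor]
    exact inj' h.ex h1.1 h2.1 (mul_right_cancel ((e ▸ h1.2).symm.trans h2.2))
  · exact mat_zero

theorem mv0 {f : ℕ} (h : mat v f = 0) (d c : ℕ) : mat v (mv f (d % 25) c) = 0 := by
  ext p q
  have := congrFun (congrFun h ⟨d % 25 / 5, by omega⟩) ⟨d % 25 % 5, by omega⟩
  simp only [mat, of_apply, Nat.div_add_mod, Matrix.zero_apply] at this
  simp [mat, co_mv, this]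

theorem Hy.cmb (h : Hy ι π b v) (l : List (ℕ × List ℕ)) : mat v (cmb l) = 0 := by
  unfold H2LpSp.cmb
  induction l with
  | nil => exact mat_zero
  | cons e l ih =>
    rw [List.foldr_cons, mat_xor, ih, add_zero]
    unfold cm1
    induction e.2 with
    | nil => exact mat_zero
    | cons c m ih2 =>
      rw [List.foldr_cons, mat_xor, ih2, p2, mat_xor, idc, mv0 (h.idn _ _ _), mv0 (h.idn _ _ _), add_zero,
        add_zero]

theorem ex_hy (ex : Ex ι π) : ∃ b v, Hy ι π b v := by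
  choose b hb using fun x => ex.surj (gm x)
  have : ∀ x y, ∃ a : ℕ → F, red x y = true → b x * b y = ι (am a) * ((rhs x y).map b).prod := fun x y => by
    by_cases e : red x y = true
    · obtain ⟨t, ht, k⟩ := (ex.ker (b x * b y * (((rhs x y).map b).prod)⁻¹)).1 (by
        rw [map_mul, map_mul, map_inv, hb, hb, map_list_prod, List.map_map,
          show (π ∘ b) = gm from funext hb, mul_inv_eq_one]
        exact Subtype.ext (rhs_ok x (red_lt e).1 y (red_lt e).2 e))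
      obtain ⟨a, rfl⟩ := ex_am ht
      exact ⟨a, fun _ => by rw [← k]; group⟩
    · exact ⟨0, fun h => absurd h e⟩
  choose a ha using this
  refine ⟨b, fun n => a (n / 100) (n / 10 % 10) (n % 10), ex, hb, fun x y e => ?_⟩
  rw [ha x y e, tl, mat_sy]
  obtain ⟨h1, h2⟩ := red_lt e
  have k : ∀ l < 10, co (fun n => a (n / 100) (n / 10 % 10) (n % 10)) (2 ^ (100 * x + 10 * y + l)) 0 =
      a x y l := fun l hl => by
    rw [co_pow (by omega), show (100 * x + 10 * y + l) / 100 = x by omega,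
      show (100 * x + 10 * y + l) / 10 % 10 = y by omega, show (100 * x + 10 * y + l) % 10 = l by omega]
  unfold am
  beta_reduce
  rw [k 0 (by omega), k 1 (by omega), k 2 (by omega), k 3 (by omega), k 4 (by omega), k 5 (by omega),
    k 6 (by omega), k 7 (by omega), k 8 (by omega), k 9 (by omega)]

end Sound

end Cfsg.Agent.H2LpSp
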