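import Cfsg.Agent.H2.LpSpB
import Cfsg.Agent.H2.Gaschutz
import Cfsg.Agent.H52.LpWtBig
import Cfsg.Agent.H83.Base
import Cfsg.Agent.H3.Cores
import Cfsg.Agent.Eqn.Cfsg_Agent_H2LpSp_mw

/-! Project LP: every extension of `Λ² V` by `SL₅(2)` splits. -/

set_option autoImplicit false

namespace Cfsg.Agent.H2LpSp

open Matrix Subgroup Cfsg.Agent.H17.LP

universe u

variable {N : Type u} [Group N] {ι : M5 → N} {π : N →* SL5} {b : ℕ → N} {v : ℕ → F}

theorem alt_MM (x : ℕ) : Alt (mat v (MM x)) := by rw [MM, mat_sy]; exact alt_am _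

theorem Hy.mw (h : Hy ι π b v) (w : List ℕ) : Alt (mat v (mw w)) ∧
    (w.map fun x => ι (mat v (MM x)) * b x).prod = ι (mat v (mw w)) * (w.map b).prod := by
  induction w with
  | nil => rw [H2LpSp.mw, mat_zero, i0 h.ex]; exact ⟨Alt.zero, by simp⟩
  | cons x w ih =>
    have k := h.mov x ih.1
    rw [H2LpSp.mw, mat_xor, h.ex.add _ _ (alt_MM x) k.1, List.map_cons, List.prod_cons, ih.2, List.map_cons,
      List.prod_cons, mul_assoc, ← mul_assoc (b x), k.2]
    exact ⟨(alt_MM x).add k.1, by group⟩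

theorem ex_lift (ex : Ex ι π) : ∃ c : ℕ → N, (∀ x, π (c x) = gm x) ∧
    ∀ x < 10, ∀ y ≤ x, c x * c y = ((rhs x y).map c).prod := by
  obtain ⟨b, v, h⟩ := ex_hy ex
  refine ⟨fun x => ι (mat v (MM x)) * b x, fun x => ?_, fun x hx y hy => ?_⟩
  · rw [map_mul, (ex.ker _).2 ⟨_, alt_MM x, rfl⟩, one_mul, h.hb]
  · obtain ⟨l, e⟩ := tg_ok hx hy
    have k := h.cmb l
    have r : red x y = true := by
      unfold red
      rw [Nat.ble_eq_true_of_le (show x ≤ 9 by omega), cond_true, Nat.ble_eq_true_of_le hy]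
    have k1 := (h.mw [x, y]).2
    have at' : Alt (mat v (tl x y)) := by rw [tl, mat_sy]; exact alt_am _
    rw [← e, tg, mat_xor, mat_xor] at k
    rw [(h.mw _).2, ← add_eq_zero_iff_eq_neg.1 k |>.trans (neg_eq_of_add_eq_zero_left (add_self_M _)),
      ex.add _ _ (h.mw _).1 at', mul_assoc (ι _) (ι _), ← h.rel x y r]
    simpa using k1

def idx (i j : ℕ) : ℕ := [0, 0, 4, 7, 9].getD (j - i) 0 + (i - 1)
def RR (k i j : ℕ) : Bool := i < j ∧ k ≤ idx i j
theorem cl_RR : ∀ k ≤ 10, Cl (fun _ _ => false) (RR k) := by decide +kernel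
theorem mem_RR' : ∀ k : Fin 11, ∀ x < 10,
    lv (gm x) ∈ Pat (fun _ _ => false) (RR k) (cl_RR k (Nat.le_of_lt_succ k.2)) ↔ k ≤ x := by decide +kernel
theorem mem_RR (k : ℕ) (h : k ≤ 10) (x : ℕ) (hx : x < 10) :
    lv (gm x) ∈ Pat (fun _ _ => false) (RR k) (cl_RR k h) ↔ k ≤ x :=
  mem_RR' ⟨k, Nat.lt_succ_of_le h⟩ x hx
theorem rhs_sh : ∀ x < 10, rhs x x = [] ∧ ∀ y < x, rhs x y = y :: (rhs x y).tail ∧
    ∀ z ∈ (rhs x y).tail, y + 1 ≤ z ∧ z < 10 := by decide +kernel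

theorem ex_compl [Finite N] (ex : Ex ι π) : ∃ K : Subgroup N, K ⊓ π.ker = ⊥ ∧ 1024 ∣ Nat.card K := by
  obtain ⟨c, hc, hr⟩ := ex_lift ex
  let K : ℕ → Subgroup N := fun k => closure {g | ∃ x, k ≤ x ∧ x < 10 ∧ g = c x}
  have mem : ∀ k x, k ≤ x → x < 10 → c x ∈ K k := fun k x h1 h2 => subset_closure ⟨x, h1, h2, rfl⟩
  have nm : ∀ k < 10, ∀ g ∈ K (k + 1), π g ≠ gm k := fun k hk g hg e => by
    have : K (k + 1) ≤ (Pat (fun _ _ => false) (RR (k + 1)) (cl_RR _ hk)).comap (lv.comp π) := by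
      refine (closure_le _).2 ?_
      rintro _ ⟨x, h1, h2, rfl⟩
      rw [SetLike.mem_coe, mem_comap, MonoidHom.comp_apply, hc]; exact (mem_RR _ hk x h2).2 h1
    have h1 := this hg
    rw [mem_comap, MonoidHom.comp_apply, e, mem_RR _ hk k hk] at h1
    omega
  have two : ∀ k < 10, ∀ g ∈ K k, c k * g ∈ K (k + 1) ∨ g ∈ K (k + 1) := fun k hk g hg => by
    have cc : c k * c k = 1 := by rw [hr k hk k le_rfl, (rhs_sh k hk).1]; rfl
    have hn : zpowers (c k) ≤ normalizer (K (k + 1) : Set N) := by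
      refine zpowers_le.2 (mem_normalizer_fintype fun n hn => ?_)
      have : K (k + 1) ≤ (K (k + 1)).comap (MulAut.conj (c k)).toMonoidHom := by
        refine (closure_le _).2 ?_
        rintro _ ⟨x, h1, h2, rfl⟩
        change c k * c x * (c k)⁻¹ ∈ K (k + 1)
        obtain ⟨e1, e2⟩ := (rhs_sh x h2).2 k h1
        rw [inv_eq_of_mul_eq_one_right cc, mul_assoc, hr x h2 k (by omega), e1, List.map_cons,
          List.prod_cons, ← mul_assoc, cc, one_mul]
        refine (K (k + 1)).list_prod_mem fun a ha => ?_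
        obtain ⟨z, hz, rfl⟩ := List.mem_map.1 ha
        exact mem _ z (e2 z hz).1 (e2 z hz).2
      exact this hn
    have : K k ≤ zpowers (c k) ⊔ K (k + 1) := by
      refine (closure_le _).2 ?_
      rintro _ ⟨x, h1, h2, rfl⟩
      rcases h1.eq_or_lt with rfl | h
      · exact mem_sup_left (mem_zpowers _)
      · exact mem_sup_right (mem _ x h h2)
    obtain ⟨a, ha, n, hn', rfl⟩ := (H83.mem_sup_right_norm hn).1 (this hg)
    rcases (H49.mem_zpowers_invol cc).1 ha with rfl | rfl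
    · right; rwa [one_mul]
    · left; rwa [← mul_assoc, cc, one_mul]
  have key : ∀ n ≤ 10, K (10 - n) ⊓ π.ker = ⊥ ∧ 2 ^ n ∣ Nat.card (K (10 - n)) := fun n hn => by
    induction n with
    | zero =>
      refine ⟨?_, one_dvd _⟩
      rw [show K (10 - 0) = ⊥ from closure_eq_bot_iff.2 (by rintro _ ⟨x, h1, h2, -⟩; omega), bot_inf_eq]
    | succ n ih =>
      obtain ⟨i1, i2⟩ := ih (by omega)
      rw [show 10 - n = 10 - (n + 1) + 1 by omega] at i1 i2
      have hk : 10 - (n + 1) < 10 := by omega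
      generalize 10 - (n + 1) = k at *
      refine ⟨eq_bot_iff.2 fun g hg => ?_, ?_⟩
      · rcases two k hk g hg.1 with h | h
        · exact absurd (by rw [map_mul, hc, show π g = 1 from hg.2, mul_one]) (nm k hk _ h)
        · exact i1.le ⟨h, hg.2⟩
      · have le : K (k + 1) ≤ K k := closure_mono fun _ ⟨x, h1, h2⟩ => ⟨x, by omega, h2⟩
        rw [← H3.card_mul_relIndex le, relIndex_eq_two_iff_exists_notMem_and'.2
          ⟨c k, mem k k le_rfl hk, fun h => nm k hk _ h (hc k), two k hk⟩, pow_succ]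
        exact mul_dvd_mul_right i2 2
  exact ⟨K 0, key 10 le_rfl⟩

theorem split : SplitStmt.{u} := by
  intro N _ _ ι π ex
  obtain ⟨K, h1, h2⟩ := ex_compl ex
  haveI : Fact (Nat.Prime 2) := ⟨Nat.prime_two⟩
  haveI : IsMulCommutative π.ker := ⟨⟨fun x y => Subtype.ext (by
    obtain ⟨a, ha, e1⟩ := (ex.ker x).1 x.2
    obtain ⟨c, hc, e2⟩ := (ex.ker y).1 y.2
    rw [coe_mul, coe_mul, e1, e2, ← ex.add _ _ ha hc, add_comm, ex.add _ _ hc ha])⟩⟩
  have hp : IsPGroup 2 π.ker := fun x => ⟨1, Subtype.ext (by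
    obtain ⟨a, ha, e1⟩ := (ex.ker x).1 x.2
    rw [pow_one, coe_pow, sq, e1, ← ex.add _ _ ha ha, add_self_M, i0 ex, coe_one])⟩
  obtain ⟨n, hn⟩ := IsPGroup.iff_card.1 hp
  have hi : (π.ker ⊔ K).index ∣ 9765 := by
    rw [sup_comm, ← comap_map_eq, index_comap_of_surjective _ ex.surj]
    have e1 := (K.map π).card_mul_index
    have e2 := H3.card_comap_of_surjective ex.surj (K.map π)
    have e3 := H3.card_sup_mul_card_inf K π.ker
    rw [h1, card_bot, mul_one, ← comap_map_eq, e2, mul_comm (Nat.card K)] at e3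
    obtain ⟨m, hm⟩ := h2
    rw [Nat.eq_of_mul_eq_mul_left Nat.card_pos e3, H52.LpWtBig.card_SL5, hm] at e1
    exact ⟨m, by nlinarith⟩
  obtain ⟨H, hH⟩ := H2.gaschutz_exists π.ker (π.ker ⊔ K) le_sup_left
    (hn ▸ Nat.Coprime.pow_left n (Nat.Coprime.coprime_dvd_right hi (by norm_num))) K le_sup_right h1 rfl
  have bij : Function.Bijective (π.comp H.subtype) := by
    refine ⟨(injective_iff_map_eq_one _).2 fun x hx => Subtype.ext ?_, fun g => ?_⟩
    · exact mem_bot.1 (hH.disjoint.le_bot ⟨hx, x.2⟩)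
    · obtain ⟨n, rfl⟩ := ex.surj g
      obtain ⟨⟨a, x⟩, rfl⟩ := hH.2 n
      exact ⟨x, by simp [show π a = 1 from a.2]⟩
  exact ⟨H.subtype.comp (MulEquiv.ofBijective _ bij).symm.toMonoidHom,
    fun g => (MulEquiv.ofBijective _ bij).apply_symm_apply g⟩

end Cfsg.Agent.H2LpSp
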