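import Cfsg.Agent.H41.MDefs3
import Cfsg.Agent.H62.M12Ab2

/-!
# The standard subgroup of type `J₂`, from an element centralising the odd core
-/

set_option autoImplicit false

namespace Cfsg.Agent.H2MAb

open Cfsg Subgroup Cfsg.Agent.H41.M50 Cfsg.Agent.H62.M12Ab2
open scoped commutatorElement

universe u

theorem ab2w (hJ : J2SStmt.{u}) : AB2WStmt.{u} := by
  intro G _ _ x E A d hd dO x2 x1 hE ⟨e⟩ hc ix hA cA
  have hx : orderOf x = 2 := orderOf_eq_prime (by rw [sq, x2]) x1
  let z : centralizer ({x} : Set G) := ⟨x, mem_centralizer_singleton_iff.2 rfl⟩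
  have zc : ∀ g, g * z = z * g := fun g => Subtype.ext (mem_centralizer_singleton_iff.1 g.2)
  have z2 : z * z = 1 := Subtype.ext x2
  have odd : ∀ g ∈ oddCore (centralizer ({x} : Set G)), ∀ k, g ^ 2 ^ k = 1 → g = 1 :=
    fun g hg k hk => orderOf_eq_one_iff.1 (Nat.Coprime.eq_one_of_dvd
      ((H52.orderOf_coprime_of_mem H52.coprime_card_pPrimeCore hg).pow_right k)
      (orderOf_dvd_of_pow_eq_one hk))
  let q := QuotientGroup.mk' (oddCore (centralizer ({x} : Set G)))
  let ρ : _ →* HH x := QuotientGroup.lift (oddCore _) (QuotientGroup.mk' (N0 x)) (by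
    rw [QuotientGroup.ker_mk']; exact le_sup_right)
  have hρ : ∀ g, ρ (q g) = QuotientGroup.mk' (N0 x) g := fun _ => rfl
  have inj : ∀ g ∈ A, q g = 1 → g = 1 := fun g hg k =>
    odd g ((QuotientGroup.eq_one_iff g).1 k) 1 (by rw [pow_one, sq, hA g hg])
  obtain ⟨L, l1, l2, l3⟩ := split hJ ρ
    (fun y => by obtain ⟨g, rfl⟩ := QuotientGroup.mk'_surjective _ y; exact ⟨q g, rfl⟩)
    (x := q z) (mem_center_iff.2 fun y => by
      obtain ⟨g, rfl⟩ := QuotientGroup.mk'_surjective _ y
      rw [← map_mul, zc, map_mul])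
    (by rw [← map_mul, z2, map_one])
    (fun k => x1 (congrArg Subtype.val
      (odd z ((QuotientGroup.eq_one_iff z).1 k) 1 (by rw [pow_one, sq, z2]))))
    (by
      rw [QuotientGroup.ker_lift, QuotientGroup.ker_mk', N0, Subgroup.map_sup,
        MonoidHom.map_zpowers, QuotientGroup.map_mk'_self, sup_bot_eq])
    e ix (A := A.map q) (by rintro _ ⟨g, hg, rfl⟩; rw [← map_mul, hA g hg, map_one])
    (by
      rw [← cA]
      exact Nat.card_congr (Equiv.ofBijective (q.subgroupMap A)
        ⟨(injective_iff_map_eq_one _).2 fun g k => Subtype.ext (inj g g.2 (congrArg Subtype.val k)),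
          q.subgroupMap_surjective A⟩).symm)
  obtain ⟨K, k1, k2⟩ := H52.exists_pComponent_map_eq l1
  have k3 : K.map (QuotientGroup.mk' (N0 x)) = E := by rw [← l2, ← k2, map_map]; rfl
  have k4 : K ≤ centralizer (oddCore (centralizer ({x} : Set G)) : Set _) := by
    rcases H52.IsPComponent.le_or_commutator_le k1
      (H := centralizer (oddCore (centralizer ({x} : Set G)) : Set _))
      (Normal.isSubnormal inferInstance) with h | h
    · exact h
    · refine (hd ?_).elim
      have m1 : QuotientGroup.mk' (N0 x) d ∈ centralizer (E : Set (HH x)) := by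
        rw [← k3]
        rintro _ ⟨y, hy, rfl⟩
        have m2 : ⁅y, d⁆ ∈ N0 x := (le_sup_right : oddCore _ ≤ N0 x)
          (h (commutator_mem_commutator hy fun o ho => (dO o ho).symm))
        have m3 : QuotientGroup.mk' (N0 x) ⁅y, d⁆ = 1 := (QuotientGroup.eq_one_iff _).2 m2
        rw [map_commutatorElement, commutatorElement_eq_one_iff_mul_comm] at m3
        exact m3
      rw [hc, mem_bot] at m1
      exact (QuotientGroup.eq_one_iff _).1 m1
  let σ : K →* Spor.J2 := (e.toMonoidHom.comp (MulEquiv.subgroupCongr k3).toMonoidHom).comp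
    ((QuotientGroup.mk' (N0 x)).subgroupMap K)
  have s1 : Function.Surjective σ := (e.surjective.comp (MulEquiv.subgroupCongr k3).surjective).comp
    (MonoidHom.subgroupMap_surjective _ K)
  have s2 : ∀ g ∈ σ.ker, g.1 ∈ oddCore (centralizer ({x} : Set G)) := fun g hg =>
    (QuotientGroup.eq_one_iff _).1 (l3 (q g) (k2 ▸ mem_map_of_mem _ g.2)
      (congrArg Subtype.val ((map_eq_one_iff _ e.injective).1 hg)))
  obtain ⟨f, hf⟩ := H80.exists_surjective_ker_of_stem S2040.result (ξ := σ)
    ⟨s1, fun g hg => mem_center_iff.2 fun y => Subtype.ext (k4 y.2 _ (s2 g hg)).symm, by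
      have : commutator K = ⊤ := by
        rw [← map_subtype_inj, map_subtype_commutator, H52.IsPComponent.commutator_self k1,
          ← MonoidHom.range_eq_map, range_subtype]
      rw [this]; exact le_top⟩
  have s3 : Function.Injective σ := (injective_iff_map_eq_one _).2 fun g hg => by
    obtain ⟨a, ha⟩ := hf ⟨g, hg⟩
    have h2 : a ^ 2 ^ 1 = 1 := by clear ha; revert a; decide
    have h3 := congrArg (fun t => t.1.1) (congrArg f h2)
    simp only [map_pow, ha, map_one] at h3
    exact Subtype.ext (odd _ (s2 g hg) 1 h3)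
  let eK := (K.equivMapOfInjective _ (subtype_injective _)).symm.trans
    (MulEquiv.ofBijective σ ⟨s3, s1⟩)
  refine ⟨K.map (Subgroup.subtype _), std hx ⟨map_subtype_le _, ?_⟩ ?_ fun g hg c ⟨k, hk⟩ => ?_, ⟨eK⟩⟩
  · rw [subgroupOf, comap_map_eq_self_of_injective (subtype_injective _)]
    exact ⟨k1.1, j2_comm (MulEquiv.ofBijective σ ⟨s3, s1⟩)⟩
  · rw [Nat.card_congr eK.toEquiv, H47.card_J2]; norm_num
  · let g' : centralizer ({x} : Set G) := ⟨g, mem_centralizer_singleton_iff.2 c⟩
    have m1 : QuotientGroup.mk' (N0 x) g' ∈ centralizer (E : Set (HH x)) := by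
      rw [← k3]
      rintro _ ⟨y, hy, rfl⟩
      rw [← map_mul, ← map_mul]
      exact congrArg _ (Subtype.ext (hg _ ⟨y, hy, rfl⟩))
    rw [hc, mem_bot] at m1
    have m2 : g' ∈ N0 x := (QuotientGroup.eq_one_iff _).1 m1
    obtain ⟨a, ha, b, hb, ab⟩ := mem_sup_of_normal_right.1 m2
    have m3 : g' ^ 2 ^ k = 1 := Subtype.ext hk
    rcases mem_two z2 ha with rfl | rfl
    · rw [one_mul] at ab
      rw [show g = 1 from congrArg Subtype.val (ab.symm.trans (odd b hb k (ab ▸ m3)))]
      exact one_mem _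
    · have m4 : b = z * g' := by rw [← ab, ← mul_assoc, z2, one_mul]
      have m5 : b = 1 := odd b hb (k + 1) (by
        rw [m4, Commute.mul_pow (zc g').symm, pow_succ 2, pow_mul g', m3, one_pow, mul_one,
          mul_comm, pow_mul, sq, z2, one_pow])
      rw [m5, mul_one] at ab
      rw [show g = x from congrArg Subtype.val ab.symm]
      exact mem_zpowers x

end Cfsg.Agent.H2MAb
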