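import Cfsg.Agent.H95.ParBase

/-! Elements of order 7 and 13 of the Conway group acting on the Leech lattice modulo two. -/

set_option autoImplicit false

namespace Cfsg.Agent.H2Par

open Cfsg Subgroup Cfsg.Agent.H48 Cfsg.Agent.H48.Rec Cfsg.Agent.H49 Cfsg.Agent.H95.Par
open Cfsg.Agent.H74.Ms (VV mkV nV T2L mk_eq mk_surj mem_range card_zt)

theorem count {α : Type} (T : Set α) (hT : T.Finite) (f : α → α) (hf : ∀ x ∈ T, f x ∈ T) {p : ℕ}
    (hp : p.Prime) (h : ∀ x, f^[p] x = x) : T.ncard ≡ {x | x ∈ T ∧ f x = x}.ncard [MOD p] := by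
  classical
  haveI := Fact.mk hp
  haveI : Fintype T := hT.fintype
  let φ : Function.End T := fun x => ⟨f x, hf x x.2⟩
  have hi : ∀ n, ∀ x : T, ((φ ^ n) x : α) = f^[n] x := by
    intro n
    induction n with
    | zero => intro x; rfl
    | succ n ih => intro x; rw [pow_succ, Function.iterate_succ_apply]; exact ih (φ x)
  have h1 : φ ^ p ^ 1 = 1 := by
    funext x
    apply Subtype.ext
    rw [pow_one, hi, h]; rfl
  have h2 := Equiv.Perm.card_fixedPoints_modEq h1
  rw [← Nat.card_eq_fintype_card, ← Nat.card_eq_fintype_card] at h2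
  have h3 : Nat.card (Function.fixedPoints φ) = {x | x ∈ T ∧ f x = x}.ncard := by
    rw [← Nat.card_coe_set_eq]
    exact Nat.card_congr
      ⟨fun x => ⟨x.1.1, x.1.2, congrArg Subtype.val x.2⟩, fun x => ⟨⟨x.1, x.2.1⟩, Subtype.ext x.2.2⟩,
        fun _ => rfl, fun _ => rfl⟩
  rw [← h3, ← Nat.card_coe_set_eq]
  exact h2

theorem iter_smul (g : Co0) (n : ℕ) (v : Lam) : (fun x : Lam => g • x)^[n] v = g ^ n • v := by
  induction n generalizing v with
  | zero => simp
  | succ n ih => rw [Function.iterate_succ_apply, ih, pow_succ, mul_smul]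

theorem fix_cut {g : Co0} {p : ℕ} (hp : p.Prime) (hg : orderOf g = p) {y : Lam} (hy : g • y = y)
    (d : ℤ) (h : ¬ p ∣ (Cut Mn y d).ncard) : ∃ x ∈ Cut Mn y d, g • x = x := by
  have := count (Cut Mn y d) (finite_Mn.subset (Cut_subset _ _ _)) (fun x => g • x)
    (fun x hx => ⟨by rw [mem_Mn, co_sqNorm]; exact hx.1, by rw [dot_smul_of_fix hy]; exact hx.2⟩) hp
    (fun x => by rw [iter_smul, ← hg, pow_orderOf_eq_one, one_smul])
  by_contra hh
  have h0 : {x | x ∈ Cut Mn y d ∧ g • x = x} = ∅ :=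
    Set.eq_empty_of_forall_notMem fun x hx => hh ⟨x, hx.1, hx.2⟩
  rw [h0, Set.ncard_empty] at this
  exact h ((Nat.modEq_zero_iff_dvd).mp this)

theorem red {g : Co0} (hg : Odd (orderOf g)) (h : ¬ Fpf g) :
    (∃ y : Lam, (sqNorm y.1 = 32 ∨ sqNorm y.1 = 48) ∧ g • y = y) ∨
      ∃ y : Lam, sqNorm y.1 = 64 ∧ Fix g y := by
  simp only [Fpf, not_forall] at h
  obtain ⟨v, hv, h0⟩ := h
  obtain ⟨y, hc, hy⟩ := short_all v
  have hf : Fix g y := hv.of_cong hc
  have y0 : y ≠ 0 := by rintro rfl; exact h0 hc.symm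
  have h1 := lam_min_norm y0
  have h2 := sixteen_dvd_sqNorm y.2
  by_cases h64 : sqNorm y.1 = 64
  · exact Or.inr ⟨y, h64, hf⟩
  refine Or.inl ⟨y, by omega, ?_⟩
  rcases cong.cases hf with e | e | e
  · exact e
  · have e2 : g ^ 2 ∈ MulAction.stabilizer Co0 y := by
      rw [MulAction.mem_stabilizer_iff, sq, mul_smul, e, co_neg, e, neg_neg]
    obtain ⟨k, hk⟩ := hg
    have e3 : g = (g ^ 2) ^ (k + 1) := by
      rw [← pow_mul, show 2 * (k + 1) = orderOf g + 1 by omega, pow_succ, pow_orderOf_eq_one,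
        one_mul]
    have := pow_mem e2 (k + 1)
    rwa [← e3] at this
  · rw [co_sqNorm] at e; omega

theorem ord_conj (g k : Co0) : orderOf (k⁻¹ * g * k) = orderOf g := by
  have := (MulAut.conj k⁻¹).orderOf_eq g
  simpa using this

theorem l13 : L13Stmt := by
  intro g hg
  by_contra h
  rcases red (by rw [hg]; decide) h with ⟨y, hy, e⟩ | ⟨y, hy, e⟩
  · have h1 : orderOf g ∣ Nat.card (MulAction.stabilizer Co0 y) :=
      Subgroup.orderOf_dvd_natCard _ e
    rcases hy with hy | hy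
    · rw [card_stabilizer_32 hy, hg] at h1; norm_num at h1
    · rw [card_stabilizer_48 hy, hg] at h1; norm_num at h1
  · have h1 : y ∈ MulAction.orbit Co0 (e8 none) := by
      rw [orbit_eq_norm (Or.inr (Or.inr (sqNorm_e8 none)))]
      exact hy.trans (sqNorm_e8 none).symm
    obtain ⟨k, rfl⟩ := h1
    have h2 : k⁻¹ * g * k ∈ Mono := by
      apply mem_mono_of_cong (a := none)
      have := cong.smul e k⁻¹
      simpa [mul_smul] using this
    have h3 := Subgroup.orderOf_dvd_natCard _ h2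
    have h4 : orderOf (k⁻¹ * g * k) = 13 := by
      rw [← hg, ord_conj]
    rw [card_mono', h4] at h3
    norm_num at h3

theorem l7 : L7Stmt := by
  intro g hg
  by_cases h : Fpf g
  · exact Or.inl h
  right
  have h32 : ∀ y : Lam, sqNorm y.1 = 32 → g • y = y → ∃ v : Lam, sqNorm v.1 = 64 ∧ Fix g v := by
    intro y hy e
    obtain ⟨x, hx, ex⟩ := fix_cut (by norm_num) hg e 0 (by
      rw [ncard_Cut_min hy, (orbit_cut cls_Co2 vU' 93150 64 0).2]; norm_num)
    refine ⟨y + x, ?_, ?_⟩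
    · rw [AddSubgroup.coe_add, sqNorm_add, hy, hx.2, mem_Mn.mp hx.1]; norm_num
    · rw [H49.Fix, co_add, e, ex]; exact cong.refl _
  rcases red (by rw [hg]; decide) h with ⟨y, hy | hy, e⟩ | h
  · exact h32 y hy e
  · obtain ⟨x, hx, ex⟩ := fix_cut (by norm_num) hg e (-24) (by
      rw [ncard_Cut_48 hy, ncard_T552]; norm_num)
    exact h32 x hx.1 ex
  · exact h

/-- the action on the lattice modulo two -/
noncomputable def sm (g : Co0) : VV →+ VV :=
  QuotientAddGroup.map T2L T2L (DistribSMul.toAddMonoidHom Lam g) fun v hv => by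
    have := cong.smul hv g
    rwa [co_zero] at this

theorem sm_mk (g : Co0) (v : Lam) : sm g (mkV v) = mkV (g • v) := rfl

theorem iter_sm (g : Co0) (n : ℕ) (v : Lam) : (sm g)^[n] (mkV v) = mkV (g ^ n • v) := by
  induction n generalizing v with
  | zero => simp
  | succ n ih => rw [Function.iterate_succ_apply, sm_mk, ih, pow_succ, mul_smul]

theorem not_comm_zt {g : Co0} (ho : orderOf g = 7 ∨ orderOf g = 13) (hf : Fpf g)
    (h : g * zt = zt * g) : False := by
  have hp : (orderOf g).Prime := by rcases ho with e | e <;> rw [e] <;> norm_num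
  have h1 := count ((nV zt).range : Set VV) (Set.toFinite _) (sm g) (fun x hx => by
      obtain ⟨v, rfl⟩ := mk_surj x
      obtain ⟨w, hw⟩ := mem_range.mp hx
      rw [sm_mk]
      refine mem_range.mpr ⟨g • w, ?_⟩
      have := cong.smul hw g
      rwa [co_add, ← mul_smul, h, mul_smul] at this) hp
    (fun x => by
      obtain ⟨v, rfl⟩ := mk_surj x
      rw [iter_sm, pow_orderOf_eq_one, one_smul])
  have h2 : {x | x ∈ ((nV zt).range : Set VV) ∧ sm g x = x} = {0} := by
    ext x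
    constructor
    · rintro ⟨-, hx⟩
      obtain ⟨v, rfl⟩ := mk_surj x
      rw [sm_mk] at hx
      have := mk_eq.mpr (hf v (mk_eq.mp hx.symm))
      rw [map_zero] at this
      exact this.symm
    · rintro rfl
      exact ⟨(nV zt).range.zero_mem, map_zero _⟩
  have h3 : ((nV zt).range : Set VV).ncard = 256 := by
    rw [← Nat.card_coe_set_eq]; exact card_zt.1
  rw [h2, h3, Set.ncard_singleton] at h1
  rcases ho with e | e <;> rw [e] at h1 <;> revert h1 <;> decide

theorem fpf_conj {g : Co0} (hf : Fpf g) (a : Co0) : Fpf (a⁻¹ * g * a) := by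
  intro v hv
  have h1 : Fix g (a • v) := by
    have := cong.smul hv a
    simpa [H49.Fix, mul_smul] using this
  have := cong.smul (hf _ h1) a⁻¹
  simpa [co_zero] using this

theorem inv : InvStmt := by
  intro g k ho hf hk hc
  have key : ∀ x : Spor.Co1, IsConj x (mk1 k) → ∃ g' : Co0, (orderOf g' = 7 ∨ orderOf g' = 13) ∧
      Fpf g' ∧ mk1 g' * x = x * mk1 g' := by
    intro x hx
    obtain ⟨c, hc'⟩ := isConj_iff.mp hx
    obtain ⟨a, rfl⟩ := mk1_surj c
    refine ⟨a⁻¹ * g * a, ?_, fpf_conj hf a, ?_⟩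
    · rwa [ord_conj]
    · rw [← hc'] at hc
      rw [map_mul, map_mul, map_inv]
      calc (mk1 a)⁻¹ * mk1 g * mk1 a * x
          = (mk1 a)⁻¹ * (mk1 g * (mk1 a * x * (mk1 a)⁻¹)) * mk1 a := by group
        _ = (mk1 a)⁻¹ * (mk1 a * x * (mk1 a)⁻¹ * mk1 g) * mk1 a := by rw [hc]
        _ = _ := by group
  rcases H10.CoI.cases_of_sq hk with h | h | h
  · exact mem_center_Co0.mpr (mk1_eq_one.mp h)
  · obtain ⟨g', h1, h2, h3⟩ := key _ h
    exact (not_comm_zt h1 h2 (comm_z0.mp h3)).elim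
  · obtain ⟨g', h1, h2, h3⟩ := key _ h
    have h4 := h2 _ (cong_of_mem_mono (H30.KCo.mem_mono_of_u0 h3) none)
    have h5 := h4.eq_zero (by rw [sqNorm_e8])
    have h6 := sqNorm_e8 none
    rw [h5] at h6
    exact absurd h6 (by decide)

end Cfsg.Agent.H2Par
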