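import Cfsg.Agent.H34.UDefs2
import Cfsg.Agent.H74.WrK
import Cfsg.Agent.H27.EndKit
import Cfsg.Agent.H67.Conj

/-! The wreath configuration for unitary groups: definitions, elementary facts, Sylow steps. -/

set_option autoImplicit false

universe u

namespace Cfsg.Agent.H2W

section

open Cfsg Cfsg.Agent.H63 Cfsg.Agent.H63.SL Subgroup
open Cfsg.Agent.H8 (IsSylowIn)
open Cfsg.Agent.H63.WR (cc FixC Ne2 WX ClsI Hat WF AB NR)
open Cfsg.Agent.H34.UM (WL2)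
open scoped commutatorElement

section Defs

variable {G : Type u} [Group G]

/-- The wreath configuration: `G0 = L ⊔ cj t L`, `T` a Sylow `2`-subgroup of `N(G0)`. -/
structure WC (L U T : Subgroup G) (t w : G) : Prop where
  wl : WL2 L U
  t2 : t * t = 1
  com : ∀ a ∈ L, ∀ b ∈ L, Commute a (t * b * t⁻¹)
  hat : Hat L t
  odd : Odd (Nat.card C[L ⊔ cj t L])
  syl : IsSylowIn 2 T N[L ⊔ cj t L]
  tT : t ∈ T
  UT : U ≤ T
  wZ : w ∈ Z[U]
  w1 : w ≠ 1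
  w2 : w * w = 1
  wc : T ⊓ N[L] ≤ C1[w]

/-- Elementary consequences of `WC`. -/
structure WK (L U T : Subgroup G) (t w : G) : Prop where
  tn : t ∉ N[L]
  perm : ∀ m ∈ N[L ⊔ cj t L], m ∈ N[L] ∨ m * t ∈ N[L]
  nn : N[L ⊔ cj t L] ⊓ N[L] ≤ N[cj t L]
  sw : ∀ m ∈ N[L ⊔ cj t L], m ∉ N[L] → cj m L = cj t L ∧ cj m (cj t L) = L
  idx : (T ⊓ N[L]).relIndex T = 2
  idp : IsInternalDirectProduct U (cj t U) (U ⊔ cj t U)
  TL : T ⊓ L = U
  T0 : T ⊓ N[L] ≤ N[U] ⊓ N[cj t U]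
  Tsw : ∀ s ∈ T, s ∉ N[L] → cj s U = cj t U ∧ cj s (cj t U) = U ∧
    s * w * s⁻¹ = t * w * t⁻¹ ∧ s * (t * w * t⁻¹) * s⁻¹ = w
  TC : ∀ x ∈ T, x ∈ C[L] → x ∈ C[cj t L] → x = 1
  TG : ∀ x ∈ T, x ∈ L ⊔ C[L] → x ∈ cj t L ⊔ C[cj t L] → x ∈ U ⊔ cj t U
  der : ⁅T ⊓ N[L], T ⊓ N[L]⁆ ≤ U ⊔ cj t U
  inf : ∀ x ∈ L, x ∈ cj t L → Odd (orderOf x)
  zT : T ≤ C1[w * (t * w * t⁻¹)]
  z1 : w * (t * w * t⁻¹) ≠ 1
  /-- the normal trick -/
  ntl : ∀ A B : Subgroup G, A ≤ T ⊓ N[L] → B ≤ T ⊓ N[L] → U ⊔ cj t U ≤ N[A] →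
    U ⊔ cj t U ≤ N[B] → A ≤ C[B] → A ⊓ B = ⊥ → ⁅B, B⁆ ≠ ⊥ → ∀ a ∈ ⁅A, A⁆, ∀ s ∈ T, s ∉ N[L] →
    Commute a s → a = 1
  swap : WC (cj t L) (cj t U) T t (t * w * t⁻¹)
  conj : ∀ g, WC (cj g L) (cj g U) (cj g T) (g * t * g⁻¹) (g * w * g⁻¹)

end Defs

/-- A statement about all wreath configurations. -/
def WAll (P : ∀ {G : Type u} [Group G] (_ _ _ : Subgroup G) (_ _ : G), Prop) : Prop :=
  ∀ {G : Type u} [Group G] [Finite G] (L U T : Subgroup G) (t w : G),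
    WC L U T t w → P L U T t w

/-- **WK** -/
def WKStmt : Prop := WAll.{u} fun L U T t w => WK L U T t w

/-- **W0**: existence of the configuration. -/
def W0Stmt : Prop :=
  ∀ {G : Type u} [Group G] [Finite G] (L U : Subgroup G) (t : G), WL2 L U → t * t = 1 →
    (∀ a ∈ L, ∀ b ∈ L, Commute a (t * b * t⁻¹)) → Hat L t →
    Odd (Nat.card C[L ⊔ cj t L]) → ∃ T w, WC L U T t w

/-- **SYL + WF + AB** -/
def SylStmt : Prop := WAll.{u} fun L _ T t w => IsSylowIn 2 T ⊤ ∧ WF L T w ∧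
  (NR L T w → AB L T t w)

/-- **NR** -/
def NRStmt : Prop := WAll.{u} fun L _ T t w =>
  ClsI L → WF L T w → Fix1 N[L ⊔ cj t L] {t} → NR L T w

/-- **NS** -/
def NSStmt : Prop := WAll.{u} fun L _ T t w =>
  IsSylowIn 2 T ⊤ → AB L T t w → Fix1 N[L ⊔ cj t L] {t} → NR L T w →
    IsStronglyClosed (T ⊓ N[L]) T

/-- **P1** -/
def P1Stmt : Prop := WAll.{u} fun {G} _ L U T t _ =>
  ∀ W X : Subgroup G, WX L U W → IsSylowIn 2 T ⊤ → Fix1 N[L ⊔ cj t L] {t} → X.Normal →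
    ⁅X, X⁆ = X → X ⊔ zpowers t = ⊤ → T ⊓ X = T ⊓ N[L] → T ⊓ N[L] = U ⊔ cj t U

/-- **FIN** -/
def FinStmt : Prop := WAll.{u} fun {G} _ L U T t _ =>
  ∀ X : Subgroup G, X.Normal → IsSimpleGroup X → X ⊔ zpowers t = ⊤ → L ≤ X →
    IsSylowIn 2 T ⊤ → IsStronglyClosed (T ⊓ N[L]) T →
    T ⊓ X = T ⊓ N[L] ∧ ⁅X, X⁆ = X ∧ T ⊓ N[L] ≠ U ⊔ cj t U

end

namespace K


open Cfsg Cfsg.Agent.H63 Cfsg.Agent.H63.SL Cfsg.Agent.H67 Subgroup
open Cfsg.Agent.H63.WR (cc FixC Ne2 WX ClsI Hat WF AB NR)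
open Cfsg.Agent.H34.UM (WL2)
open Cfsg.Agent.H8 (IsSylowIn)
open Cfsg.Agent.H27.End (mem_C1 comm_of_C mem_C is2_of_mem eq_one_of_is2 odd_orderOf_of_mem
  mem_of_syl)
open Cfsg.Agent.H74.Wr (mφ comφ allφ allS syl_conj cj_cj' qs_eq_or inn_le mem_inn' cj_tt t_norm le_C)
open scoped commutatorElement


variable {G : Type u} [Group G] {L U T A B : Subgroup G} {t z1 x : G}

section Cj

variable (g : G)

theorem wl_conj (h : WL2 L U) : WL2 (cj g L) (cj g U) where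
  qs := H52.IsQuasisimple.of_mulEquiv h.qs (cjEquiv g L)
  zodd := allφ g (by
    simpa only [mφ, MulEquiv.orderOf_eq, ← cj_centralizer, ← cj_inf] using h.zodd)
  syl := syl_conj g h.syl
  ne := mt cj_eq_bot_iff.1 h.ne
  zc := by simpa only [← cj_commutator, ← cj_centralizer, ← cj_inf, cj_le_cj_iff] using h.zc
  ind := allS g fun A => allS g fun B q => by
    rw [cj_eq_bot_iff, cj_eq_bot_iff]
    refine h.ind A B ⟨cj_le_cj_iff.1 q.1, cj_le_cj_iff.1 q.2.1, fun a ha b hb =>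
      (comφ g).1 (q.2.2.1 _ ((mφ g).2 ha) _ ((mφ g).2 hb)), ?_, ?_⟩
    · rw [← cj_eq_bot_iff (g := g), cj_inf, q.2.2.2.1]
    · rw [← cj_inj (g := g), cj_sup, q.2.2.2.2]
  bc := by
    obtain ⟨Y, h1⟩ := h.bc
    exact ⟨cj g Y, by simpa only [← cj_commutator, ← cj_centralizer, ← cj_normalizer, ← cj_inf,
      cj_le_cj_iff] using h1⟩
  ab := allS g (by
    simpa only [isPGroup_cj_iff, cj_le_cj_iff, ← cj_normalizer, ← cj_centralizer, ← cj_commutator,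
      ← cj_sup] using h.ab)
  nt := allS g fun A => allS g fun B => by
    simpa only [isPGroup_cj_iff, cj_le_cj_iff, ← cj_normalizer, ← cj_centralizer, ← cj_commutator,
      ← cj_inf, cj_eq_bot_iff] using h.nt A B
  rl2 := allφ g fun z hz h1 h2 => by
    simp only [mφ, ne_eq, ← map_mul, EmbeddingLike.map_eq_one_iff, ← cj_centralizer,
      ← cj_inf] at hz h1 h2
    obtain ⟨u, hu, u2, l', hl', e'⟩ := h.rl2 z hz h1 h2
    exact ⟨MulAut.conj g u, by rw [← cj_commutator]; exact (mφ g).2 hu,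
      by rw [← map_mul, u2, map_one], _, (mφ g).2 hl', by
        rw [← map_mul, e', map_mul, map_mul, map_inv]⟩

theorem wc_conj (h : WC L U T t z1) :
    WC (cj g L) (cj g U) (cj g T) (g * t * g⁻¹) (g * z1 * g⁻¹) where
  wl := wl_conj g h.wl
  t2 := by rw [conj_mul, h.t2]; group
  com := allφ g fun a ha => allφ g fun b hb => by
    have := (comφ g).2 (h.com a ((mφ g).1 ha) b ((mφ g).1 hb))
    rwa [map_mul, map_mul, map_inv] at this
  hat k h1 h2 := by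
    rw [cj_cj', ← cj_sup, ← cj_normalizer, mem_cj] at h1 ⊢
    rw [← cj_normalizer, mem_cj] at h2
    have e : g⁻¹ * (k * (g * t * g⁻¹) * k⁻¹) * g = g⁻¹ * k * g * t * (g⁻¹ * k * g)⁻¹ := by group
    exact h.hat _ (e ▸ h1) (e ▸ h2)
  odd := by rw [cj_cj', ← cj_sup, ← cj_centralizer, card_cj]; exact h.odd
  syl := by rw [cj_cj', ← cj_sup, ← cj_normalizer]; exact syl_conj g h.syl
  tT := conj_mem_cj h.tT
  UT := cj_mono h.UT
  wZ := by rw [← cj_centralizer, ← cj_inf]; exact conj_mem_cj h.wZ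
  w1 e := h.w1 (by simpa using e)
  w2 := by rw [conj_mul, h.w2]; group
  wc := by
    rw [← cj_normalizer, ← cj_inf, ← cj_centralizer_singleton]; exact cj_mono h.wc

end Cj

/-- An inner `2`-element normalizing `U` is induced by `U`. -/
theorem inn_U [Finite G] (h : WL2 L U) (h1 : x ∈ N[U]) (h2 : Is2 x) (h3 : x ∈ L ⊔ C[L]) :
    x ∈ U ⊔ C[L] := by
  obtain ⟨l, hl, k, hk, rfl⟩ := (mem_inn' le_rfl).1 h3
  obtain ⟨n, hn⟩ := h2
  have c : Commute l k := (comm_of_C hk hl).symm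
  have o := h.zodd (l ^ 2 ^ n) ⟨pow_mem hl _, by
    rw [c.mul_pow] at hn
    rw [eq_inv_of_mul_eq_one_left hn]; exact C[L].inv_mem (pow_mem hk _)⟩
  refine H69.SlE.mem_of_pow (a := 2 ^ n) (b := orderOf (l ^ 2 ^ n))
    (Nat.Coprime.pow_left _ (Nat.coprime_two_left.2 o)) (hn ▸ one_mem _) ?_
  have m := pow_mem h1 (orderOf (l ^ 2 ^ n))
  rw [c.mul_pow] at m ⊢
  refine mul_mem (mem_sup_left (mem_of_syl h.syl le_rfl h.syl.le (pow_mem hl _)
    ⟨n, by rw [← pow_mul, mul_comm, pow_mul, pow_orderOf_eq_one]⟩ ?_)) (mem_sup_right (pow_mem hk _))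
  exact (mul_mem_cancel_right (centralizer_le_normalizer _
    (centralizer_anti h.syl.le (pow_mem hk _)))).1 m

section WC

variable (h : WC L U T t z1)
include h

theorem c21 : cj t L ≤ C[L] := le_C h.com

theorem c12 : L ≤ C[cj t L] := le_centralizer_iff.1 (c21 h)

theorem ne12 : cj t L ≠ L := fun e =>
  H52.IsQuasisimple.not_le_centralizer h.wl.qs (e.ge.trans (c21 h))

theorem G0N : L ⊔ cj t L ≤ N[L] := sup_le le_normalizer ((c21 h).trans (centralizer_le_normalizer _))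

theorem cjL {m : G} (hm : m ∈ N[L ⊔ cj t L]) : cj m L = L ∨ cj m L = cj t L := by
  have q := (wl_conj m h.wl).qs
  have n : L ⊔ cj t L ≤ N[cj m L] := by
    rw [← cj_eq_self hm, ← cj_normalizer]; exact cj_mono (G0N h)
  have l : cj m L ≤ L ⊔ cj t L := cj_le_of_mem_normalizer hm le_sup_left
  refine (qs_eq_or q h.wl.qs (le_sup_left.trans n) (l.trans (G0N h))).imp_right fun c => ?_
  refine (qs_eq_or q (wl_conj t h.wl).qs (le_sup_right.trans n) (l.trans (sup_le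
    ((c12 h).trans (centralizer_le_normalizer _)) le_normalizer))).resolve_right fun c' => ?_
  refine H52.IsQuasisimple.not_le_centralizer q (le_trans ?_ (centralizer_anti l))
  rw [centralizer_sup]; exact le_inf c c'

theorem cjL2 {m : G} (hm : m ∈ N[L ⊔ cj t L]) : cj m (cj t L) = L ∨ cj m (cj t L) = cj t L := by
  rw [cj_cj]; exact cjL h (mul_mem hm (t_norm h.t2 L))

theorem sw {m : G} (hm : m ∈ N[L ⊔ cj t L]) (n : m ∉ N[L]) :
    cj m L = cj t L ∧ cj m (cj t L) = L := by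
  have e := (cjL h hm).resolve_left fun e => n (cj_eq_self_iff.1 e)
  exact ⟨e, (cjL2 h hm).resolve_right fun e' => ne12 h (cj_inj.1 (e'.trans e.symm))⟩

theorem nn : N[L ⊔ cj t L] ⊓ N[L] ≤ N[cj t L] := fun _ hm => cj_eq_self_iff.1
  ((cjL2 h hm.1).resolve_left fun e => ne12 h (cj_inj.1 (e.trans (cj_eq_self hm.2).symm)))

theorem sw1 {m : G} (hm : m ∈ N[L ⊔ cj t L]) (n : m ∉ N[L]) : m * t ∈ N[L] :=
  cj_eq_self_iff.1 (by rw [cj_mul, (sw h hm n).2])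

theorem sw2 {m : G} (hm : m ∈ N[L ⊔ cj t L]) (n : m ∉ N[L]) : t * m ∈ N[L] :=
  cj_eq_self_iff.1 (by rw [cj_mul, (sw h hm n).1, cj_tt h.t2])

theorem tn : t ∉ N[L] := fun e => ne12 h (cj_eq_self e)

theorem tinv : t⁻¹ = t := inv_eq_of_mul_eq_one_right h.t2

theorem swap : WC (cj t L) (cj t U) T t (t * z1 * t⁻¹) := by
  have := wc_conj t h
  rwa [cj_eq_self_of_mem h.tT, mul_inv_cancel_right] at this

theorem TL : T ⊓ L = U :=
  h.wl.syl.eq_of_le (h.syl.isPGroup.to_le inf_le_left) inf_le_right (le_inf h.UT h.wl.syl.le)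

theorem T01 : T ⊓ N[L] ≤ N[U] :=
  TL h ▸ le_normalizer_inf (inf_le_left.trans le_normalizer) inf_le_right

theorem T0n : T ⊓ N[L] ≤ T ⊓ N[cj t L] :=
  le_inf inf_le_left ((inf_le_inf_right _ h.syl.le).trans (nn h))

theorem inf (h1 : x ∈ L) (h2 : x ∈ cj t L) : Odd (orderOf x) := h.wl.zodd x ⟨h1, c21 h h2⟩

theorem idp : IsInternalDirectProduct U (cj t U) (U ⊔ cj t U) :=
  ⟨le_sup_left, le_sup_right, fun _ ha _ hb =>
    comm_of_C (c12 h (h.wl.syl.le ha)) ((swap h).wl.syl.le hb), eq_bot_iff.2 fun _ hx =>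
      eq_one_of_is2 (is2_of_mem h.wl.syl.isPGroup hx.1)
        (inf h (h.wl.syl.le hx.1) ((swap h).wl.syl.le hx.2)), rfl⟩

theorem Tz {s : G} (hs : s ∈ T) (n : s ∉ N[L]) :
    s * z1 * s⁻¹ = t * z1 * t⁻¹ ∧ s * (t * z1 * t⁻¹) * s⁻¹ = z1 := by
  have a := (mem_C1.1 (h.wc ⟨mul_mem h.tT hs, sw2 h (h.syl.le hs) n⟩)).eq
  have b := (mem_C1.1 (h.wc ⟨mul_mem hs h.tT, sw1 h (h.syl.le hs) n⟩)).eq
  constructor
  · calc _ = t⁻¹ * (t * s * z1) * s⁻¹ := by group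
      _ = t⁻¹ * z1 * t := by rw [a]; group
      _ = _ := by rw [tinv h]
  · calc _ = s * t * z1 * t⁻¹ * s⁻¹ := by group
      _ = _ := by rw [b]; group

variable [Finite G]

/-- Elements of `T` centralizing both factors are trivial. -/
theorem TC (h1 : x ∈ T) (h2 : x ∈ C[L]) (h3 : x ∈ C[cj t L]) : x = 1 :=
  eq_one_of_is2 (is2_of_mem h.syl.isPGroup h1)
    (odd_orderOf_of_mem h.odd (by rw [centralizer_sup]; exact ⟨h2, h3⟩))

/-- Splitting an element of `T` inner on both factors. -/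
theorem split (hA : A ≤ U) (hB : B ≤ cj t U) (h1 : x ∈ T) (h2 : x ∈ A ⊔ C[L])
    (h3 : x ∈ B ⊔ C[cj t L]) : ∃ a ∈ A, ∃ b ∈ B, x = a * b := by
  obtain ⟨a, ha, k, hk, e⟩ := (mem_inn' (hA.trans h.wl.syl.le)).1 h2
  obtain ⟨b, hb, k', hk', e'⟩ := (mem_inn' (hB.trans (swap h).wl.syl.le)).1 h3
  have a2 := c12 h (h.wl.syl.le (hA ha))
  have b2 := (swap h).wl.syl.le (hB hb)
  have := TC h (x := b⁻¹ * (a⁻¹ * x))
    (mul_mem (inv_mem ((swap h).UT (hB hb))) (mul_mem (inv_mem (h.UT (hA ha))) h1))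
    (by rw [← e, inv_mul_cancel_left]; exact mul_mem (inv_mem (c21 h b2)) hk)
    (by rw [← mul_assoc, ← (comm_of_C a2 b2).inv_inv.eq, mul_assoc, ← e', inv_mul_cancel_left]
        exact mul_mem (inv_mem a2) hk')
  exact ⟨a, ha, b, hb, by rw [inv_mul_eq_one.1 this, mul_inv_cancel_left]⟩

theorem TG (h1 : x ∈ T) (h2 : x ∈ L ⊔ C[L]) (h3 : x ∈ cj t L ⊔ C[cj t L]) : x ∈ U ⊔ cj t U := by
  have i := is2_of_mem h.syl.isPGroup h1
  obtain ⟨a, ha, b, hb, rfl⟩ := split h le_rfl le_rfl h1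
    (inn_U h.wl (T01 h ⟨h1, inn_le h2⟩) i h2)
    (inn_U (swap h).wl (T01 (swap h) ⟨h1, inn_le h3⟩) i h3)
  exact mul_mem (mem_sup_left ha) (mem_sup_right hb)

theorem wk' : WK L U T t z1 where
  tn := tn h
  perm _ hm := (em _).imp_right (sw1 h hm)
  nn := nn h
  sw _ := sw h
  idx := relIndex_eq_two_iff.2 ⟨t, h.tT, fun b hb => by
    by_cases c : b ∈ N[L]
    · exact Or.inr ⟨⟨hb, c⟩, fun k => tn h ((mul_mem_cancel_left c).1 k.2)⟩
    · exact Or.inl ⟨⟨mul_mem hb h.tT, sw1 h (h.syl.le hb) c⟩, fun k => c k.2⟩⟩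
  idp := idp h
  TL := TL h
  T0 := le_inf (T01 h) ((T0n h).trans (T01 (swap h)))
  Tsw s hs n := ⟨by rw [← TL (swap h), ← TL h, cj_inf, cj_eq_self_of_mem hs, (sw h (h.syl.le hs) n).1],
    by rw [← TL (swap h), cj_inf, cj_eq_self_of_mem hs, (sw h (h.syl.le hs) n).2, TL h], Tz h hs n⟩
  TC _ := TC h
  TG _ := TG h
  der _ hx := have p : IsPGroup 2 ↥(T ⊓ N[L]) := h.syl.isPGroup.to_le inf_le_left
    TG h (commutator_le_self _ hx).1 (h.wl.ab _ inf_le_right p hx)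
      ((swap h).wl.ab _ ((T0n h).trans inf_le_right) p hx)
  inf _ := inf h
  zT s hs := mem_C1.2 (by
    by_cases c : s ∈ N[L]
    · exact (mem_C1.1 (h.wc ⟨hs, c⟩)).mul_right (mem_C1.1 ((swap h).wc (T0n h ⟨hs, c⟩)))
    · have := Tz h hs c
      rw [commute_iff_eq, ← mul_inv_eq_iff_eq_mul, ← conj_mul, this.1, this.2]
      exact (h.com _ (h.wl.syl.le h.wZ.1) _ (h.wl.syl.le h.wZ.1)).symm)
  z1 e := h.w1 (mem_bot.1 ((idp h).2.2.2.1.le ⟨h.wZ.1,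
    (eq_inv_of_mul_eq_one_left e).symm ▸ (cj t U).inv_mem (swap h).wZ.1⟩))
  ntl A B hA hB nA nB c i b1 a ha s hs n e := by
    have p : ∀ {A : Subgroup G}, A ≤ T ⊓ N[L] → IsPGroup 2 A := fun hA =>
      h.syl.isPGroup.to_le (hA.trans inf_le_left)
    have aT : a ∈ T := (hA (commutator_le_self _ ha)).1
    have k := sw h (h.syl.le hs) n
    have ea : s * a * s⁻¹ = a := by rw [← e.eq, mul_inv_cancel_right]
    rcases h.wl.nt A B (le_inf (hA.trans inf_le_right) (hA.trans (T01 h)))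
      (le_inf (hB.trans inf_le_right) (hB.trans (T01 h))) (p hA) (p hB) (le_sup_left.trans nA)
      (le_sup_left.trans nB) c i with h1 | h1
    · exact TC h aT (h1 ha) (by rw [← k.1, ← cj_centralizer, ← ea]; exact conj_mem_cj (h1 ha))
    have hA' := hA.trans (T0n h)
    have hB' := hB.trans (T0n h)
    rcases (swap h).wl.nt A B (le_inf (hA'.trans inf_le_right) (hA'.trans (T01 (swap h))))
      (le_inf (hB'.trans inf_le_right) (hB'.trans (T01 (swap h)))) (p hA) (p hB)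
      (le_sup_right.trans nA) (le_sup_right.trans nB) c i with h2 | h2
    · exact TC h aT (by rw [← k.2, ← cj_centralizer, ← ea]; exact conj_mem_cj (h2 ha)) (h2 ha)
    · exact absurd (eq_bot_iff.2 fun b hb =>
        TC h (hB (commutator_le_self _ hb)).1 (h1 hb) (h2 hb)) b1
  swap := swap h
  conj g := wc_conj g h

end WC

/-- **WK** -/
theorem wk : WKStmt.{u} := fun _ _ _ _ _ h => wk' h

/-- **W0** -/
theorem w0 : W0Stmt.{u} := fun L U t h t2 com e0 odd => by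
  have c : cj t U ≤ C[U] := (cj_mono h.syl.le).trans ((le_C com).trans (centralizer_anti h.syl.le))
  have p1 : IsPGroup 2 ↥(U ⊔ cj t U) := h.syl.isPGroup.to_sup_of_normal_left'
    (isPGroup_cj h.syl.isPGroup t) (c.trans (centralizer_le_normalizer _))
  have p2 : IsPGroup 2 ↥(U ⊔ cj t U ⊔ zpowers t) :=
    p1.to_sup_of_normal_left' (H69.SlE.pg_inv t2) (zpowers_le.2 (t_norm t2 U))
  obtain ⟨T, hT, le⟩ := H8.exists_isSylowIn_ge p2 (H := N[L ⊔ cj t L]) (sup_le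
    ((sup_le_sup h.syl.le (cj_mono h.syl.le)).trans le_normalizer) (zpowers_le.2 (t_norm t2 L)))
  have UT : U ≤ T := (le_sup_left.trans le_sup_left).trans le
  have TL : T ⊓ L = U :=
    h.syl.eq_of_le (hT.isPGroup.to_le inf_le_left) inf_le_right (le_inf UT h.syl.le)
  have U0 : U ≤ T ⊓ N[L] := le_inf UT (h.syl.le.trans le_normalizer)
  have ne := inf_centralizer_ne_bot_of_isNilpotent
    (hT.isPGroup.to_le inf_le_left).isNilpotent (H := U) ⟨U0,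
      TL ▸ le_normalizer_inf (inf_le_left.trans le_normalizer) inf_le_right⟩ h.ne
  obtain ⟨⟨z, hz⟩, o⟩ := exists_prime_orderOf_dvd_card' (G := ↥(U ⊓ C[T ⊓ N[L]])) 2
    (((h.syl.isPGroup.to_le inf_le_left).card_eq_or_dvd).resolve_left (mt card_eq_one.1 ne))
  rw [orderOf_mk] at o
  exact ⟨T, z, h, t2, com, e0, odd, hT, le (mem_sup_right (mem_zpowers t)), UT,
    ⟨hz.1, centralizer_anti U0 hz.2⟩, fun e => by simp [e] at o,
    by rw [← pow_two, ← o, pow_orderOf_eq_one], mem_centralizer_iff_le.1 hz.2⟩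

end K

namespace T

section


open Cfsg Cfsg.Agent.H63 Cfsg.Agent.H63.SL Cfsg.Agent.H67 Subgroup
open Cfsg.Agent.H63.WR (cc FixC Ne2 WX ClsI Hat WF AB NR)
open Cfsg.Agent.H34.UM (WL2)
open Cfsg.Agent.H27.End (mem_C1 comm_of_C mem_C conj_mem)
open scoped commutatorElement


variable {G : Type u} [Group G] {L U T P : Subgroup G} {t w n d ρ : G} (c : WC L U T t w)
  (k : WK L U T t w)
include c

theorem wi : w⁻¹ = w := inv_eq_of_mul_eq_one_right c.w2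

theorem wT : w ∈ T := c.UT c.wZ.1

include k

omit c in
theorem comU {a b : G} (ha : a ∈ U) (hb : b ∈ cj t U) : Commute a b := k.idp.2.2.1 a ha b hb

omit c in
theorem one_of {a : G} (ha : a ∈ U) (hb : a ∈ cj t U) : a = 1 :=
  mem_bot.1 (k.idp.2.2.2.1 ▸ mem_inf.2 ⟨ha, hb⟩)

omit c in
theorem udec {a a' b b' : G} (ha : a ∈ U) (ha' : a' ∈ U) (hb : b ∈ cj t U) (hb' : b' ∈ cj t U)
    (e : a * b = a' * b') : a = a' ∧ b = b' := by
  have e1 : a'⁻¹ * a = b' * b⁻¹ := by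
    rw [inv_mul_eq_iff_eq_mul, ← mul_assoc, ← e, mul_inv_cancel_right]
  have h1 := one_of k (mul_mem (inv_mem ha') ha) (e1 ▸ mul_mem hb' (inv_mem hb))
  exact ⟨(inv_mul_eq_one.1 h1).symm, (mul_inv_eq_one.1 (e1 ▸ h1)).symm⟩

omit c in
theorem sw1 {s a : G} (hs : s ∈ T) (hL : s ∉ N[L]) (ha : a ∈ U) : s * a * s⁻¹ ∈ cj t U :=
  (k.Tsw s hs hL).1 ▸ conj_mem_cj ha

omit c in
theorem sw2 {s a : G} (hs : s ∈ T) (hL : s ∉ N[L]) (ha : a ∈ cj t U) : s * a * s⁻¹ ∈ U :=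
  (k.Tsw s hs hL).2.1 ▸ conj_mem_cj ha

theorem cm_sw {s : G} (hs : s ∈ T) (hL : s ∉ N[L]) : w * s * w⁻¹ * s⁻¹ = w * (t * w * t⁻¹) := by
  rw [← (k.Tsw s hs hL).2.2.1, wi c]; group

omit k in
theorem cm_0 {s : G} (hs : s ∈ T) (hL : s ∈ N[L]) : Commute s w := mem_C1.1 (c.wc ⟨hs, hL⟩)

theorem mem_0 {s : G} (hs : s ∈ T) (h : Commute s w) : s ∈ N[L] := by
  by_contra hL
  exact k.z1 (by rw [← cm_sw c k hs hL, h.symm.eq]; group)

theorem cj_0 {m x : G} (hm : m ∈ T) (hx : x ∈ T ⊓ N[L]) : m * x * m⁻¹ ∈ T ⊓ N[L] := by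
  refine ⟨T.mul_mem (T.mul_mem hm hx.1) (T.inv_mem hm), ?_⟩
  by_cases h : m ∈ N[L]
  · exact N[L].mul_mem (N[L].mul_mem h hx.2) (N[L].inv_mem h)
  · rw [← (k.sw m (c.syl.le hm) h).2, ← cj_normalizer]
    exact conj_mem_cj (k.nn ⟨c.syl.le hx.1, hx.2⟩)

theorem U_0 : U ⊔ cj t U ≤ T ⊓ N[L] :=
  have h : U ≤ T ⊓ N[L] := le_inf c.UT (c.wl.syl.le.trans le_normalizer)
  sup_le h (cj_le_iff.2 fun _ hx => cj_0 c k c.tT (h hx))

/-- **TRICK** -/
theorem trick (PT : P ≤ T) (hn : n ∈ N[P]) (wP : w ∈ P) (dP : d ∈ P) (dL : d ∉ N[L]) (ρP : ρ ∈ P)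
    (ρU : ρ ∈ U ∨ ρ ∈ cj t U) (ρL : n⁻¹ * ρ * n ∉ N[L]) :
    n ∈ C1[w * (t * w * t⁻¹)] ∧ n * w * n⁻¹ ∉ N[L] ∧ (ρ ∈ U → ρ = w) ∧
      (ρ ∈ cj t U → ρ = t * w * t⁻¹) := by
  have m : ∀ x ∈ P, n⁻¹ * x * n ∈ T := fun x hx => PT (by simpa using conj_mem (inv_mem hn) hx)
  have wT' := PT (conj_mem hn wP)
  have e1 : n * w * n⁻¹ * ρ * (n * w * n⁻¹)⁻¹ * ρ⁻¹ = n * (w * (t * w * t⁻¹)) * n⁻¹ := by
    rw [← cm_sw c k (m ρ ρP) ρL]; group
  have z1 : n * (w * (t * w * t⁻¹)) * n⁻¹ ≠ 1 := fun e => k.z1 (by simpa using e)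
  have dz : d * (n * (w * (t * w * t⁻¹)) * n⁻¹) * d⁻¹ = n * (w * (t * w * t⁻¹)) * n⁻¹ := by
    have := (mem_C1.1 (k.zT (m d dP))).eq
    calc _ = n * (n⁻¹ * d * n * (w * (t * w * t⁻¹))) * n⁻¹ * d⁻¹ := by group
      _ = _ := by rw [this]; group
  have hL : n * w * n⁻¹ ∉ N[L] := fun h => by
    obtain ⟨h1, h2⟩ := k.T0 ⟨wT', h⟩
    rcases ρU with f | f
    · have a := e1 ▸ mul_mem (conj_mem h1 f) (inv_mem f)
      exact z1 (one_of k a (dz ▸ sw1 k (PT dP) dL a))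
    · have a := e1 ▸ mul_mem (conj_mem h2 f) (inv_mem f)
      exact z1 (one_of k (dz ▸ sw2 k (PT dP) dL a) a)
  have e2 := cm_sw c k wT' hL
  have e3 : n * (w * (t * w * t⁻¹)) * n⁻¹ = w * (t * w * t⁻¹) := by
    by_cases h : n⁻¹ * w * n ∈ N[L]
    · have := (cm_0 c (m w wP) h).eq
      refine absurd ?_ k.z1
      calc _ = n * (n⁻¹ * w * n * w) * n⁻¹ * w⁻¹ * (n * w * n⁻¹)⁻¹ := by rw [← e2]; group
        _ = 1 := by rw [this]; group
    · have := cm_sw c k (m w wP) h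
      have z2 : (w * (t * w * t⁻¹))⁻¹ = w * (t * w * t⁻¹) := by
        rw [mul_inv_rev, conj_inv, wi c, (comU k c.wZ.1 (conj_mem_cj c.wZ.1)).eq]
      calc _ = n * (w * (n⁻¹ * w * n) * w⁻¹ * (n⁻¹ * w * n)⁻¹) * n⁻¹ := by rw [this]
        _ = (w * (n * w * n⁻¹) * w⁻¹ * (n * w * n⁻¹)⁻¹)⁻¹ := by group
        _ = _ := by rw [e2, z2]
  rw [e3] at e1
  refine ⟨mem_C1.2 (mul_inv_eq_iff_eq_mul.1 e3), hL, fun f => ?_, fun f => ?_⟩
  · rw [← (comU k (inv_mem f) (sw1 k wT' hL f)).eq] at e1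
    rw [← inv_inj, wi c]
    exact (udec k (inv_mem f) c.wZ.1 (sw1 k wT' hL f) (conj_mem_cj c.wZ.1) e1).1
  · rw [← inv_inj, conj_inv, wi c]
    exact (udec k (sw2 k wT' hL f) c.wZ.1 (inv_mem f) (conj_mem_cj c.wZ.1) e1).2

/-- the normal trick for a conjugate of `w` -/
theorem ntw (h1 : ∀ x ∈ U ⊔ cj t U, n * x * n⁻¹ ∈ T ⊓ N[L])
    (h2 : ∀ x ∈ U ⊔ cj t U, n⁻¹ * x * n ∈ T ⊓ N[L]) (dT : d ∈ T) (dL : d ∉ N[L])
    (h : Commute (n * w * n⁻¹) d) : False := by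
  refine c.w1 (by
    simpa using k.ntl (cj n U) (cj n (cj t U)) (cj_le_iff.2 fun x hx => h1 x (mem_sup_left hx))
      (cj_le_iff.2 fun x hx => h1 x (mem_sup_right hx))
      (fun x hx => by rw [← cj_normalizer]; exact mem_cj.2 (k.T0 (h2 x hx)).1)
      (fun x hx => by rw [← cj_normalizer]; exact mem_cj.2 (k.T0 (h2 x hx)).2)
      (by rw [← cj_centralizer]; exact cj_mono fun a ha => mem_C fun b hb => comU k ha hb)
      (by rw [← cj_inf, k.idp.2.2.2.1, cj_bot])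
      (by
        rw [← cj_commutator, ← cj_commutator, Ne, cj_eq_bot_iff, cj_eq_bot_iff]
        exact fun e => c.w1 (mem_bot.1 (e ▸ c.wl.zc c.wZ)))
      _ (by rw [← cj_commutator]; exact conj_mem_cj (c.wl.zc c.wZ)) d dT dL h)

theorem no_swap (UP : U ⊔ cj t U ≤ P) (PT : P ≤ T) (hn : n ∈ N[P]) (dP : d ∈ P) (dL : d ∉ N[L]) :
    ∀ x ∈ U ⊔ cj t U, n⁻¹ * x * n ∈ T ⊓ N[L] := by
  have key := fun ρ hρ => trick c k (ρ := ρ) PT hn (UP (mem_sup_left c.wZ.1)) dP dL hρ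
  have ab : ¬ ∀ u ∈ U, u = 1 ∨ u = w := fun h => c.w1 (mem_bot.1 ((commutator_le.2 fun a ha b hb => by
    rcases h a ha with rfl | rfl <;> rcases h b hb with rfl | rfl <;> simp : ⁅U, U⁆ ≤ ⊥)
      (c.wl.zc c.wZ)))
  have e : ∀ a b : G, n⁻¹ * (a * b) * n = n⁻¹ * a * n * (n⁻¹ * b * n) := fun a b => by group
  refine fun x hx => ⟨PT (by simpa using conj_mem (inv_mem hn) (UP hx)),
    mem_cj.1 ((sup_le (fun ρ hρ => mem_cj.2 ?_) fun ρ hρ => mem_cj.2 ?_ : _ ≤ cj n N[L]) hx)⟩ <;>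
    by_contra f <;> refine ab fun u hu => ?_
  · have e1 := (key ρ (UP (mem_sup_left hρ)) (.inl hρ) f).2.2.1 hρ
    by_cases g : n⁻¹ * u * n ∈ N[L]
    · have := (key _ (UP (mem_sup_left (mul_mem hρ hu))) (.inl (mul_mem hρ hu)) fun h =>
        f ((mul_mem_cancel_right g).1 (e ρ u ▸ h))).2.2.1 (mul_mem hρ hu)
      exact .inl (by simpa [e1] using this)
    · exact .inr ((key u (UP (mem_sup_left hu)) (.inl hu) g).2.2.1 hu)
  · have e1 := (key ρ (UP (mem_sup_right hρ)) (.inr hρ) f).2.2.2 hρ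
    have hu' := conj_mem_cj (g := t) hu
    by_cases g : n⁻¹ * (t * u * t⁻¹) * n ∈ N[L]
    · have := (key _ (UP (mem_sup_right (mul_mem hρ hu'))) (.inr (mul_mem hρ hu')) fun h =>
        f ((mul_mem_cancel_right g).1 (e ρ _ ▸ h))).2.2.2 (mul_mem hρ hu')
      exact .inl (by simpa [e1] using this)
    · exact .inr (by simpa using (key _ (UP (mem_sup_right hu')) (.inr hu') g).2.2.2 hu')

/-- **FULL** -/
theorem full (UP : U ⊔ cj t U ≤ P) (PT : P ≤ T) (hn : n ∈ N[P]) (dP : d ∈ P) (dL : d ∉ N[L])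
    (dn : n⁻¹ * d * n ∈ N[L]) : False :=
  ntw c k (by simpa using no_swap c k UP PT (inv_mem hn) dP dL) (no_swap c k UP PT hn dP dL) (PT dP)
    dL (by simpa [mul_assoc] using
      (cm_0 c (PT (by simpa using conj_mem (inv_mem hn) dP)) dn).symm.conj n)

end

section


open Cfsg Cfsg.Agent.H63 Cfsg.Agent.H63.SL Cfsg.Agent.H67 Subgroup
open Cfsg.Agent.H63.WR (cc FixC Ne2 WX ClsI Hat WF AB NR)
open Cfsg.Agent.H34.UM (WL2)
open Cfsg.Agent.H27.End (mem_C1 comm_of_C mem_C conj_mem mem_N_of_conj)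
open Cfsg.Agent.H8 (IsSylowIn isSylowIn_of_maximal lt_inf_normalizer_of_lt isPGroup_conj_smul
  card_conj_smul)
open scoped commutatorElement Pointwise


variable {G : Type u} [Group G] [Finite G] {L U T : Subgroup G} {t w : G} (c : WC L U T t w)
  (k : WK L U T t w)
include c k

theorem syl : IsSylowIn 2 T ⊤ := by
  haveI : Fact (Nat.Prime 2) := ⟨Nat.prime_two⟩
  refine isSylowIn_of_maximal le_top c.syl.isPGroup fun Q hQ _ TQ => ?_
  by_contra hn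
  obtain ⟨x, ⟨xQ, xN⟩, xT⟩ := SetLike.exists_of_lt (lt_inf_normalizer_of_lt hQ
    (lt_of_le_of_ne TQ fun e => hn e.ge))
  refine full c k ((U_0 c k).trans inf_le_left) le_rfl xN c.tT k.tn (by_contra fun h => xT ?_)
  have := c.hat x⁻¹ (c.syl.le (conj_mem (inv_mem xN) c.tT)) (by simpa using h)
  exact (c.syl.eq_of_le hQ.to_inf_left inf_le_right (le_inf TQ c.syl.le)).le 
    ⟨xQ, (Subgroup.inv_mem_iff _).1 this⟩

theorem wf : WF L T w := by
  haveI : Fact (Nat.Prime 2) := ⟨Nat.prime_two⟩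
  refine isSylowIn_of_maximal c.wc c.syl.isPGroup.to_inf_left fun Q hQ QC TQ => ?_
  by_contra hn
  obtain ⟨x, hx, xT⟩ := SetLike.exists_of_lt (lt_inf_normalizer_of_lt hQ
    (lt_of_le_of_ne TQ fun e => hn e.ge))
  obtain ⟨n, nN, h⟩ := ((syl c k).mono (K := N[T ⊓ N[L]])
    (fun m hm => mem_N_of_conj fun y hy => cj_0 c k hm hy) le_top).exists_conj_le
    hQ.to_inf_left (inf_le_right : Q ⊓ N[T ⊓ N[L]] ≤ _)
  have sT : n * x * n⁻¹ ∈ T := h (conj_mem_cj hx)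
  exact ntw c k (n := n) (fun y hy => conj_mem nN (U_0 c k hy))
    (fun y hy => by simpa using conj_mem (inv_mem nN) (U_0 c k hy)) sT
    (fun e => xT (by simpa [mul_assoc] using conj_mem (inv_mem nN) (mem_inf.2 ⟨sT, e⟩)))
    ((mem_C1.1 (QC hx.1)).symm.conj n)

theorem ab0 (nr : NR L T w) {h : G} (hT : h * w * h⁻¹ ∈ T) (hL : h * w * h⁻¹ ∉ N[L])
    (TT : ∀ x ∈ T, x * (h * w * h⁻¹) * x⁻¹ = h * w * h⁻¹ ∨
      x * (h * w * h⁻¹) * x⁻¹ = h * w * h⁻¹ * (w * (t * w * t⁻¹)) → h⁻¹ * x * h ∈ T) : False := by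
  obtain ⟨r, hr⟩ : ∃ r, r = h * w * h⁻¹ := ⟨_, rfl⟩
  rw [← hr] at hT hL TT
  have r2 : r * r = 1 := by rw [hr, conj_mul, c.w2, mul_one, mul_inv_cancel]
  have ri : r⁻¹ = r := inv_eq_of_mul_eq_one_right r2
  have e0 := cm_sw c k hT hL
  have m := fun a (ha : a ∈ U) => sw1 k hT hL ha
  have sT : h⁻¹ * w * h ∈ T := TT w (wT c) (.inr (by
    rw [(mem_C1.1 (k.zT hT)).eq, ← e0]; group))
  have sL : h⁻¹ * w * h ∉ N[L] := fun e => k.z1 (by
    have := (cm_0 c sT e).eq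
    calc _ = h * (h⁻¹ * w * h * w) * h⁻¹ * w⁻¹ * r⁻¹ := by rw [← e0, hr]; group
      _ = 1 := by rw [this, hr]; group)
  let ψ : U →* G := MonoidHom.mk' (fun a => h⁻¹ * (a * (r * a * r⁻¹)) * h) fun a b => by
    have := (comU k b.2 (m a a.2)).eq
    calc h⁻¹ * (a * b * (r * (a * b) * r⁻¹)) * h
        = h⁻¹ * a * (b * (r * a * r⁻¹)) * (r * b * r⁻¹) * h := by group
      _ = _ := by rw [this]; group
  have cr : ∀ a : U, Commute (a * (r * a * r⁻¹)) r := fun a => by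
    calc _ = a * r * a * (r⁻¹ * r) := by group
      _ = r * (r * a * r⁻¹ * a) := by
        rw [inv_mul_cancel, mul_one, ri, ← mul_assoc, ← mul_assoc, ← mul_assoc, r2, one_mul]
      _ = _ := by rw [(comU k a.2 (m a a.2)).eq]
  have ψ0 : ∀ a, ψ a ∈ T ⊓ N[L] := fun a => by
    have e := cr a
    have h1 : ψ a ∈ T := TT _ (mul_mem (c.UT a.2) (k.swap.UT (m a a.2)))
      (.inl (by rw [e.eq, mul_inv_cancel_right]))
    refine ⟨h1, mem_0 c k h1 ?_⟩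
    have := e.conj h⁻¹
    rwa [show h⁻¹ * r * h⁻¹⁻¹ = w by rw [hr]; group, inv_inv] at this
  obtain ⟨u, hu, u2, l', hl', e2⟩ := c.wl.rl2 w c.wZ c.w1 c.w2
  obtain ⟨⟨u, uU⟩, hu', rfl⟩ := (show ⁅U, U⁆ ≤ ((U ⊔ cj t U).comap ψ).map U.subtype from
    commutator_le.2 fun a ha b hb => mem_map.2 ⟨⁅(⟨a, ha⟩ : U), (⟨b, hb⟩ : U)⁆, by
      rw [mem_comap, map_commutatorElement]
      exact k.der (commutator_mem_commutator (ψ0 _) (ψ0 _)), rfl⟩) hu
  change u * u = 1 at u2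
  change u * w = l' * u * l'⁻¹ at e2
  obtain ⟨a, ha, b, hb, e⟩ := (coe_mul_of_left_le_normalizer_right U (cj t U) fun a ha =>
    centralizer_le_normalizer _ (mem_C fun b hb => comU k ha hb)).subset hu'
  replace e : h⁻¹ * (u * (r * u * r⁻¹)) * h = a * b := e.symm
  have wu : Commute w (u * (r * u * r⁻¹)) :=
    (comm_of_C c.wZ.2 uU).mul_right (comU k c.wZ.1 (m u uU))
  have e3 : h⁻¹ * w * h * b * (h⁻¹ * w * h)⁻¹ * (h⁻¹ * w * h * a * (h⁻¹ * w * h)⁻¹) = a * b := by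
    rw [conj_mul, ← (comU k ha hb).eq, ← e]
    calc _ = h⁻¹ * (w * (u * (r * u * r⁻¹))) * w⁻¹ * h := by group
      _ = _ := by rw [wu.eq]; group
  have e4 := (udec k (sw2 k sT sL hb) ha (sw1 k sT sL ha) hb e3).2
  have e5 : a * a * (b * b) = 1 * 1 := by
    calc _ = a * b * (a * b) := ((comU k ha hb).mul_mul_mul_comm a b)
      _ = h⁻¹ * u * ((r * u * r⁻¹) * u) * (r * u * r⁻¹) * h := by rw [← e]; group
      _ = h⁻¹ * (u * u) * (r * (u * u) * r⁻¹) * h := by rw [← (comU k uU (m u uU)).eq]; group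
      _ = _ := by rw [u2]; group
  have ai : a⁻¹ = a := inv_eq_of_mul_eq_one_right
    (udec k (mul_mem ha ha) (one_mem _) (mul_mem hb hb) (one_mem _) e5).1
  have e6 : h * a * h⁻¹ * w * (h * a * h⁻¹)⁻¹ = u * w * (r * u * r⁻¹) := by
    calc _ = h * (a * (h⁻¹ * w * h * a⁻¹ * (h⁻¹ * w * h)⁻¹)) * h⁻¹ * w := by group
      _ = u * ((r * u * r⁻¹) * w) := by rw [ai, e4, ← e]; group
      _ = _ := by rw [← (comU k c.wZ.1 (m u uU)).eq, ← mul_assoc]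
  have cL : ∀ x ∈ L, ∀ y ∈ L, Commute x (r * y * r⁻¹) := fun x hx y hy => by
    obtain ⟨y', hy', e⟩ := (k.sw r (c.syl.le hT) hL).1.le (conj_mem_cj hy)
    exact e ▸ c.com x hx y' hy'
  have a2 := (cL l' hl' u (c.wl.syl.le uU)).inv_left.eq
  have e7 : l'⁻¹ * (h * a * h⁻¹) * w * (l'⁻¹ * (h * a * h⁻¹))⁻¹ = u * (r * u * r⁻¹) := by
    calc _ = l'⁻¹ * (h * a * h⁻¹ * w * (h * a * h⁻¹)⁻¹) * l' := by group
      _ = u * (l'⁻¹ * (r * u * r⁻¹)) * l' := by rw [e6, e2]; group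
      _ = _ := by rw [a2]; group
  refine nr (l'⁻¹ * (h * a * h⁻¹)) ?_ r hT hL ?_ <;> rw [e7]
  · exact U_0 c k (mul_mem (mem_sup_left uU) (mem_sup_right (m u uU)))
  · exact cr ⟨u, uU⟩

theorem ab (nr : NR L T w) : AB L T t w := by
  haveI : Fact (Nat.Prime 2) := ⟨Nat.prime_two⟩
  intro g hg hT
  by_contra hL
  have z2 : w * (t * w * t⁻¹) * (w * (t * w * t⁻¹)) = 1 := by
    rw [← pow_two, (comU k c.wZ.1 (conj_mem_cj c.wZ.1)).mul_pow, pow_two, pow_two, conj_mul, c.w2]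
    group
  have cz : ∀ g ∈ C1[w * (t * w * t⁻¹)],
      g * t * w * (g * t)⁻¹ = g * w * g⁻¹ * (w * (t * w * t⁻¹)) := fun g hg => by
    calc _ = g * (w * w) * (t * w * t⁻¹) * g⁻¹ := by rw [c.w2]; group
      _ = g * w * g⁻¹ * (g * (w * (t * w * t⁻¹))) * g⁻¹ := by group
      _ = _ := by rw [(mem_C1.1 hg).eq]; group
  let X : Subgroup G :=
    { carrier := {x | Commute x (w * (t * w * t⁻¹)) ∧ (x * (g * w * g⁻¹) * x⁻¹ = g * w * g⁻¹ ∨
        x * (g * w * g⁻¹) * x⁻¹ = g * w * g⁻¹ * (w * (t * w * t⁻¹)))}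
      one_mem' := ⟨Commute.one_left _, .inl (by group)⟩
      mul_mem' := by
        generalize w * (t * w * t⁻¹) = z at z2
        generalize g * w * g⁻¹ = r
        rintro a b ⟨a1, a2⟩ ⟨b1, b2⟩
        refine ⟨a1.mul_left b1, ?_⟩
        rw [show a * b * r * (a * b)⁻¹ = a * (b * r * b⁻¹) * a⁻¹ by group]
        have az : a * (r * z) * a⁻¹ = a * r * a⁻¹ * z := by
          rw [← conj_mul, a1.eq, mul_inv_cancel_right]
        rcases b2 with b2 | b2 <;> rw [b2]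
        · exact a2
        · rw [az]
          rcases a2 with a2 | a2 <;> rw [a2]
          · exact .inr rfl
          · exact .inl (by rw [mul_assoc, z2, mul_one])
      inv_mem' := by
        generalize w * (t * w * t⁻¹) = z at z2
        generalize g * w * g⁻¹ = r
        rintro a ⟨a1, a2⟩
        refine ⟨a1.inv_left, a2.imp (fun e => ?_) fun e => ?_⟩
        · nth_rewrite 1 [← e]
          group
        · calc _ = a⁻¹ * (r * (z * z)) * a := by rw [z2]; group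
            _ = a⁻¹ * (r * z) * (z * a) := by group
            _ = r * z := by rw [← a1.eq]; nth_rewrite 1 [← e]; group }
  have gX : cj g T ≤ X := cj_le_iff.2 fun y hy => by
    refine ⟨mem_C1.1 (mul_mem (mul_mem hg (k.zT hy)) (inv_mem hg)), ?_⟩
    rw [show g * y * g⁻¹ * (g * w * g⁻¹) * (g * y * g⁻¹)⁻¹ = g * (y * w * y⁻¹) * g⁻¹ by group]
    by_cases h : y ∈ N[L]
    · exact .inl (by rw [(cm_0 c hy h).eq, mul_inv_cancel_right])
    · exact .inr (by rw [(k.Tsw y hy h).2.2.1, ← cz g hg]; group)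
  obtain ⟨n, hn, TX⟩ := (((syl c k).conj_smul_of_mem_normalizer (g := g)
    (le_normalizer (mem_top g))).mono gX le_top).exists_conj_le (Q := T ⊓ X)
      c.syl.isPGroup.to_inf_left inf_le_right
  have fin : ∀ h, h * w * h⁻¹ = g * w * g⁻¹ → (∀ x ∈ T ⊓ X, h⁻¹ * x * h ∈ T) → False :=
    fun h e hx => ab0 c k nr (e ▸ hT) (e ▸ hL) fun x xT h1 => hx x ⟨xT, mem_C1.1 (k.zT xT), e ▸ h1⟩
  have gz := mul_mem (inv_mem (mem_C1.2 hn.1)) hg
  have gT : ∀ x ∈ T ⊓ X, (n⁻¹ * g)⁻¹ * x * (n⁻¹ * g) ∈ T := fun x hx => by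
    have := mem_cj.1 (TX (conj_mem_cj (g := n) hx))
    rwa [show g⁻¹ * (n * x * n⁻¹) * g = (n⁻¹ * g)⁻¹ * x * (n⁻¹ * g) by group] at this
  rcases (inv_mem hn).2 with e | e
  · exact fin _ (by rw [← e]; group) gT
  · refine fin (n⁻¹ * g * t) ?_ fun x hx => ?_
    · rw [cz _ gz, show n⁻¹ * g * w * (n⁻¹ * g)⁻¹ = n⁻¹ * (g * w * g⁻¹) * n⁻¹⁻¹ by group, e,
        mul_assoc, z2, mul_one]
    · have := mul_mem (mul_mem (inv_mem c.tT) (gT x hx)) c.tT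
      rwa [show t⁻¹ * ((n⁻¹ * g)⁻¹ * x * (n⁻¹ * g)) * t =
        (n⁻¹ * g * t)⁻¹ * x * (n⁻¹ * g * t) by group] at this

omit c k in
/-- **SYL + WF + AB** -/
theorem sylStmt (hk : WKStmt.{u}) : SylStmt.{u} := fun L U T t w c =>
  ⟨syl c (hk L U T t w c), wf c (hk L U T t w c), ab c (hk L U T t w c)⟩

end

end T

end Cfsg.Agent.H2W
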