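import Cfsg.Agent.H2.WrU1
import Cfsg.Agent.H57.SlP1
import Cfsg.Agent.H83.WrFin

/-! The wreath configuration for unitary groups does not occur in a simple group. -/

set_option autoImplicit false
set_option linter.unusedSectionVars false

universe u

namespace Cfsg.Agent.H2W

namespace NS


open Cfsg Cfsg.Agent.H63 Cfsg.Agent.H63.SL Subgroup Cfsg.Agent.H8 Cfsg.Agent.H27.End
open Cfsg.Agent.H63.WR (cc FixC Ne2 WX ClsI Hat WF AB NR)
open Cfsg.Agent.H34.UM (WL2)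
open scoped commutatorElement Pointwise


variable {G : Type u} [Group G] {L U T : Subgroup G} {t w : G}

theorem mem_cj {g x : G} {H : Subgroup G} : x ∈ cj g H ↔ g⁻¹ * x * g ∈ H := mem_conj_smul

theorem mnorm (c : WC L U T t w) (k : WK L U T t w) {m y : G} (hm : m ∈ N[L ⊔ cj t L])
    (hy : y ∈ N[L ⊔ cj t L]) (yL : y ∈ N[L]) : m * y * m⁻¹ ∈ N[L] := by
  rcases k.perm m hm with h | h
  · exact mul_mem (mul_mem h yL) (inv_mem h)
  · have h1 : y ∈ N[MulAut.conj t • L] := k.nn (mem_inf.2 ⟨hy, yL⟩)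
    rw [normalizer_conj_smul, mem_conj_smul] at h1
    have := mul_mem (mul_mem h h1) (inv_mem h)
    rwa [show m * t * (t⁻¹ * y * t) * (m * t)⁻¹ = m * y * m⁻¹ by group] at this

theorem comm_mem (c : WC L U T t w) (k : WK L U T t w) {a b : G} (ha : a ∈ N[L ⊔ cj t L])
    (hb : b ∈ N[L ⊔ cj t L]) : ⁅a, b⁆ ∈ N[L] := by
  have tM := c.syl.le c.tT
  rcases k.perm a ha with h | h
  · have := mul_mem h (mnorm c k hb (inv_mem ha) (inv_mem h))
    rwa [← mul_assoc, ← mul_assoc] at this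
  rcases k.perm b hb with h' | h'
  · exact mul_mem (mnorm c k ha hb h') (inv_mem h')
  have := mul_mem (mul_mem h (mnorm c k (inv_mem tM) (mul_mem (mul_mem hb tM)
    (inv_mem (mul_mem ha tM))) (mul_mem h' (inv_mem h)))) (inv_mem h')
  rwa [show a * t * (t⁻¹ * (b * t * (a * t)⁻¹) * t⁻¹⁻¹) * (b * t)⁻¹ = ⁅a, b⁆ by
    rw [commutatorElement_def]; group] at this

theorem dc [Finite G] (w' : WC L U T t w) (k : WK L U T t w) (cl : ClsI L) {y s : G}
    (hy : y ∈ T ⊓ N[L]) (y2 : y * y = 1) (sT : s ∈ T) (sL : s ∉ N[L]) (ys : Commute y s) :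
    ∃ m ∈ N[L ⊔ cj t L], Commute (m * t * m⁻¹) y := by
  have hs := w'.syl.le sT
  obtain ⟨yT, yL⟩ := mem_inf.1 hy
  have yM := w'.syl.le yT
  have ti : t⁻¹ = t := inv_eq_of_mul_eq_one_left w'.t2
  have yi : y⁻¹ = y := inv_eq_of_mul_eq_one_left y2
  have g : t * s ∈ N[L] := by
    have := inv_mem ((k.perm _ (inv_mem hs)).resolve_left fun e => sL (inv_mem_iff.1 e))
    rwa [mul_inv_rev, inv_inv, ti] at this
  have e0 : t * s * y * (t * s)⁻¹ = t * y * t⁻¹ := by rw [mul_assoc t, ← ys.eq]; group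
  obtain ⟨l, hl, e⟩ := cl (T ⊓ N[L]) inf_le_right (w'.syl.isPGroup.to_le inf_le_left) y hy
    (y2 ▸ one_mem _) _ (mem_inf.2 ⟨mul_mem w'.tT sT, g⟩)
  have nC : N[L] ≤ N[C[L]] := normalizer_le_normalizer_centralizer _
  have l2 : t * l⁻¹ * t⁻¹ ∈ C[L] := mem_C fun a ha => (w'.com a ha _ (inv_mem hl)).symm
  obtain ⟨d, hd⟩ : ∃ d, d = l * t * l⁻¹ := ⟨_, rfl⟩
  have d2 : d * d = 1 := by rw [hd, conj_mul, w'.t2]; group
  have di : d⁻¹ = d := inv_eq_of_mul_eq_one_left d2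
  have lM : l ∈ N[L ⊔ cj t L] := le_normalizer (mem_sup_left hl)
  have dM : d ∈ N[L ⊔ cj t L] := hd ▸ mul_mem (mul_mem lM (w'.syl.le w'.tT)) (inv_mem lM)
  have w1 : d * y * (d * y) ∈ C[L] := by
    have := mul_mem (conj_mem (nC (le_normalizer hl)) (comm_mem_left
      (nC (mul_mem (mul_mem g yL) (inv_mem g))) l2)) e
    rw [show l * (t * s) * y * (l * (t * s))⁻¹ = l * (t * s * y * (t * s)⁻¹) * l⁻¹ by group, e0] at this
    convert this using 1
    nth_rewrite 2 [← di, ← yi]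
    rw [hd, commutatorElement_def]; group
  have dx : d * (d * y) * d⁻¹ = (d * y)⁻¹ := by rw [← mul_assoc, d2, one_mul, mul_inv_rev, yi]
  have yx : y * (d * y) * y⁻¹ = (d * y)⁻¹ := by
    rw [mul_inv_rev, yi, di]; simp only [mul_assoc, y2, mul_one]
  have w2 : d * y * (d * y) ∈ C[L ⊔ cj t L] := by
    rw [H83.centralizer_sup]
    refine mem_inf.2 ⟨w1, inv_mem_iff.1 (mem_C ?_)⟩
    rintro _ ⟨a, ha, rfl⟩
    have e1 : t * a * t⁻¹ = d * (l * a * l⁻¹) * d⁻¹ := by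
      calc _ = l * (t * a * t⁻¹) * l⁻¹ := by rw [(w'.com l hl a ha).eq, mul_inv_cancel_right]
        _ = _ := by rw [hd]; group
    change Commute _ (t * a * t⁻¹)
    rw [e1, mul_inv_rev, ← dx, conj_mul]
    exact (comm_of_C w1 (conj_mem (le_normalizer hl) ha)).map (MulAut.conj d)
  obtain ⟨j, hj⟩ := odd_orderOf_of_mem w'.odd w2
  have xM := mul_mem dM yM
  have e1 : d * y * y = d := by rw [mul_assoc, y2, mul_one]
  generalize d * y = x at *
  have e2 : x ^ (2 * j + 1) * x ^ (2 * j + 1) = 1 := by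
    rw [← (Commute.refl x).mul_pow, ← hj, pow_orderOf_eq_one]
  have e3 : x ^ j * l * t * (x ^ j * l)⁻¹ = x ^ (2 * j + 1) * y := by
    calc _ = x ^ j * (d * (x ^ j)⁻¹ * d⁻¹) * d := by rw [hd]; group
      _ = _ := by rw [← conj_inv, ← conj_pow, dx, inv_pow, inv_inv, pow_succ, mul_assoc _ x, e1,
                    two_mul, pow_add]
  refine ⟨x ^ j * l, mul_mem (pow_mem xM j) lM, e3 ▸ Commute.mul_left ?_ (Commute.refl y)⟩
  exact (show Commute y _ from mul_inv_eq_iff_eq_mul.1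
    (by rw [← conj_pow, yx, inv_pow, inv_eq_of_mul_eq_one_left e2])).symm

theorem nr (hk : WKStmt.{u}) : NRStmt.{u} := by
  rintro G _ _ L U T t w c cl wf fx g hy s sT sL ys
  have k := hk L U T t w c
  obtain ⟨m, hm, e⟩ := dc c k cl hy (by rw [conj_mul, c.w2]; group) sT sL ys
  have h1 : g⁻¹ * m * t * (g⁻¹ * m)⁻¹ ∈ C1[w] := mem_C1.2 (by
    have := e.map (MulAut.conj g⁻¹)
    simp only [MulAut.conj_apply] at this
    convert this using 1 <;> group)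
  obtain ⟨a, -, ha⟩ := IsSylowIn.exists_conj_le wf
    (isPGroup_zpowers (is2_of_sq (g := g⁻¹ * m * t * (g⁻¹ * m)⁻¹) (by rw [conj_mul, c.t2]; group)))
    (zpowers_le.2 h1)
  have h2 := ha (conj_mem_conj_smul.2 (mem_zpowers _))
  rw [show a * (g⁻¹ * m * t * (g⁻¹ * m)⁻¹) * a⁻¹ = a * g⁻¹ * m * t * (a * g⁻¹ * m)⁻¹ by group] at h2
  have h3 := fx (a * g⁻¹ * m) (by rintro _ rfl; exact c.syl.le h2.1)
  have := mnorm c k (inv_mem h3) (c.syl.le h2.1) h2.2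
  exact k.tn (by convert this using 1; group)

/-- `P` lies in the conjugate of `T` by `g`. -/
def Ins (T : Subgroup G) (g : G) (P : Subgroup G) : Prop := ∀ x ∈ P, g⁻¹ * x * g ∈ T

/-- The conjugates by `g` and by `h` cut out the same subgroup of `P`. -/
def Same (L : Subgroup G) (g h : G) (P : Subgroup G) : Prop :=
  ∀ x ∈ P, g⁻¹ * x * g ∈ N[L] ↔ h⁻¹ * x * h ∈ N[L]

/-- All conjugates cut out the same subgroup. -/
def Good (L T P : Subgroup G) : Prop := ∀ g h, Ins T g P → Ins T h P → Same L g h P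

section NS

variable [Finite G] {P : Subgroup G}

theorem key (sy : IsSylowIn 2 T ⊤) (ih : ∀ Q : Subgroup G, P < Q → Good L T Q) {Y : Subgroup G}
    (hY : Y ≤ N[P]) {g h : G} (h1 : P < cj g T ⊓ Y) (h2 : P < cj h T ⊓ Y) :
    ∃ y ∈ Y, Same L g (y⁻¹ * h) P := by
  have p : ∀ a, IsPGroup 2 (cj a T ⊓ Y : Subgroup G) := fun a =>
    (isPGroup_conj_smul sy.isPGroup a).to_le inf_le_left
  obtain ⟨R, hR, l⟩ := exists_isSylowIn_ge (p h) (inf_le_right (b := Y))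
  obtain ⟨a, -, ha⟩ := sy.exists_conj_le hR.isPGroup le_top
  obtain ⟨y, hy, l'⟩ := hR.exists_conj_le (p g) inf_le_right
  have r : ∀ x ∈ R, a⁻¹⁻¹ * x * a⁻¹ ∈ T := fun x hx => by
    rw [inv_inv]; exact ha (conj_mem_conj_smul.2 hx)
  have s1 := ih _ h2 h a⁻¹ (fun x hx => mem_cj.1 hx.1) fun x hx => r x (l hx)
  have s2 := ih _ h1 g (y⁻¹ * a⁻¹) (fun x hx => mem_cj.1 hx.1) fun x hx => by
    have := r _ (l' (conj_mem_conj_smul.2 hx))
    convert this using 1; group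
  refine ⟨y, hy, fun x hx => (s2 x (h1.le hx)).trans ?_⟩
  have := (s1 _ (h2.le (conj_mem (hY hy) hx))).symm
  convert this using 2 <;> group

theorem same_of_t (c : WC L U T t w) (k : WK L U T t w) (fx : Fix1 N[L ⊔ cj t L] {t}) {g h : G}
    (hg : Ins T g P) (hh : Ins T h P) (ht : g * t * g⁻¹ ∈ P) : Same L g h P := by
  have m : h⁻¹ * g ∈ N[L ⊔ cj t L] := fx _ (by
    rintro _ rfl
    have := c.syl.le (hh _ ht)
    convert this using 1; group)
  refine fun x hx => ⟨fun e => ?_, fun e => ?_⟩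
  · have := mnorm c k m (c.syl.le (hg x hx)) e
    convert this using 1; group
  · have := mnorm c k (inv_mem m) (c.syl.le (hh x hx)) e
    convert this using 1; group

theorem lt_of_not (c : WC L U T t w) {g : G} (hg : Ins T g P) (ht : g * t * g⁻¹ ∉ P) :
    P < cj g T ⊓ N[P] :=
  lt_inf_normalizer_of_lt (isPGroup_conj_smul c.syl.isPGroup g)
    (lt_of_le_of_ne (fun x hx => mem_cj.2 (hg x hx)) fun e => ht (e ▸ conj_mem_conj_smul.2 c.tT))

theorem star (c : WC L U T t w) (k : WK L U T t w) (sy : IsSylowIn 2 T ⊤)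
    (fx : Fix1 N[L ⊔ cj t L] {t}) (ih : ∀ Q : Subgroup G, P < Q → Good L T Q) (hP : P ≤ T) {h x : G}
    (hh : Ins T h P) (ne : ¬ Same L 1 h P) (xT : x ∈ T) (xN : x ∈ N[P])
    (xK : ∀ y ∈ P, h⁻¹ * y * h ∈ N[L] → h⁻¹ * (x * y * x⁻¹) * h ∈ N[L]) : x ∈ P := by
  by_contra xP
  have h1 : Ins T 1 P := fun y hy => by simpa using hP hy
  have l := lt_of_not c hh fun e => ne fun y hy => (same_of_t c k fx hh h1 e y hy).symm
  have l1 : cj h T ⊓ N[P] ≤ N[P ⊓ cj h N[L]] := fun a ha => mem_N_of_conj fun y hy =>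
    mem_inf.2 ⟨conj_mem ha.2 hy.1, mem_cj.2 (by
      have := mnorm c k (c.syl.le (mem_cj.1 ha.1)) (c.syl.le (hh y hy.1)) (mem_cj.1 hy.2)
      convert this using 1; group)⟩
  obtain ⟨y, hy, s⟩ := key (L := L) sy ih (Y := N[P] ⊓ N[P ⊓ cj h N[L]]) inf_le_left (g := 1) (h := h)
    (lt_of_le_of_ne (le_inf (fun a ha => mem_cj.2 (h1 a ha)) (le_inf le_normalizer (l.le.trans l1)))
      fun e => xP (e ▸ mem_inf.2 ⟨mem_cj.2 (by simpa using xT), mem_inf.2 ⟨xN,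
        mem_N_of_conj fun y hy => mem_inf.2 ⟨conj_mem xN hy.1, mem_cj.2 (xK y hy.1 (mem_cj.1 hy.2))⟩⟩⟩))
    (l.trans_le (le_inf inf_le_left (le_inf inf_le_right l1)))
  refine ne fun a ha => (s a ha).trans ⟨fun e => ?_, fun e => ?_⟩
  · have := conj_mem (inv_mem hy.2) (x := y * a * y⁻¹)
      (mem_inf.2 ⟨conj_mem hy.1 ha, mem_cj.2 (by convert e using 1; group)⟩)
    have := mem_cj.1 this.2
    convert this using 1; group
  · have := mem_cj.1 (conj_mem hy.2 (mem_inf.2 ⟨ha, mem_cj.2 e⟩)).2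
    convert this using 1; group

theorem core (c : WC L U T t w) (k : WK L U T t w) (sy : IsSylowIn 2 T ⊤) (ab : AB L T t w)
    (fx : Fix1 N[L ⊔ cj t L] {t}) (hr : NR L T w) (ih : ∀ Q : Subgroup G, P < Q → Good L T Q)
    (hP : P ≤ T) {n : G} (hn : n ∈ N[P]) : Same L 1 n P := by
  by_contra ne
  have nP : ∀ {x}, x ∈ P → n⁻¹ * x * n ∈ P := fun {x} hx => by
    simpa using conj_mem (inv_mem hn) hx
  have iN : Ins T n P := fun x hx => hP (nP hx)
  have wi : w⁻¹ = w := inv_eq_of_mul_eq_one_left c.w2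
  have wU := c.wZ.1
  have wL : w ∈ N[L] := le_normalizer (c.wl.syl.le wU)
  have wT := c.UT wU
  obtain ⟨z, hz⟩ : ∃ z, z = w * (t * w * t⁻¹) := ⟨_, rfl⟩
  have zc : ∀ {x}, x ∈ T → Commute x z := fun {x} hx => hz ▸ mem_C1.1 (k.zT hx)
  have zT : z ∈ T := hz ▸ mul_mem wT (mul_mem (mul_mem c.tT wT) (inv_mem c.tT))
  have zL : z ∈ N[L] := hz ▸ mul_mem wL (centralizer_le_normalizer _
    (mem_C fun a ha => (c.com a ha w (c.wl.syl.le wU)).symm))
  have z2 : z * z = 1 := by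
    have := (c.com w (c.wl.syl.le wU) w (c.wl.syl.le wU)).mul_pow 2
    rw [conj_pow, pow_two, pow_two, c.w2, ← hz] at this
    rw [this]; group
  have w0 : ∀ {x}, x ∈ T → x ∈ N[L] → Commute x w := fun {x} a b => mem_C1.1 (c.wc (mem_inf.2 ⟨a, b⟩))
  have w1 : ∀ {x}, x ∈ T → x ∉ N[L] → w * x * w⁻¹ = z * x := fun {x} a b => by
    rw [hz, ← (k.Tsw x a b).2.2.1, wi]; group
  have w2 : ∀ {x}, x ∈ T → w * x * w⁻¹ = x ∨ w * x * w⁻¹ = z * x := fun {x} a => by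
    by_cases b : x ∈ N[L]
    · left; rw [← (w0 a b).eq, mul_inv_cancel_right]
    · exact .inr (w1 a b)
  obtain ⟨s0, sP, s1, s2⟩ : ∃ s0 ∈ P, n⁻¹ * s0 * n ∈ N[L] ∧ s0 ∉ N[L] := by
    by_contra! h
    have h1 : n ∈ N[P ⊓ N[L]] := mem_N_of_conj fun y hy =>
      mem_inf.2 ⟨conj_mem hn hy.1, h _ (conj_mem hn hy.1) (by simpa [mul_assoc] using hy.2)⟩
    refine ne fun x hx => ⟨fun e => ?_, fun e => by simpa using h x hx e⟩
    simpa using (conj_mem (inv_mem h1) (mem_inf.2 ⟨hx, by simpa using e⟩)).2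
  have cz : ∀ {x y : G}, Commute y x → x * y * x⁻¹ = y := fun {x y} e => by
    rw [← e.eq, mul_inv_cancel_right]
  have zP : z ∈ P := star c k sy fx ih hP iN ne zT
    (mem_N_of_conj fun y hy => by rwa [cz (zc (hP hy))]) fun y hy e => by rwa [cz (zc (hP hy))]
  have wN : w ∈ N[P] := mem_N_of_conj fun y hy => by
    rcases w2 (hP hy) with e | e <;> rw [e]
    exacts [hy, mul_mem zP hy]
  by_cases wP : w ∈ P
  · have rP := conj_mem hn wP
    have cm : ∀ {x}, Commute (n⁻¹ * x * n) w → Commute (n * w * n⁻¹) x := fun {x} e => by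
      have := e.symm.map (MulAut.conj n)
      simp only [MulAut.conj_apply] at this
      convert this using 1; group
    by_cases rL : n * w * n⁻¹ ∈ N[L]
    · exact hr n (mem_inf.2 ⟨hP rP, rL⟩) s0 (hP sP) s2 (cm (w0 (iN _ sP) s1))
    have e1 := w1 (hP rP) rL
    by_cases uL : n⁻¹ * w * n ∈ N[L]
    · rw [cz (cm (w0 (iN _ wP) uL)), eq_comm, mul_eq_right] at e1
      exact k.z1 (hz ▸ e1)
    have e2 := w1 (iN _ wP) uL
    refine rL (ab n (hz ▸ mem_C1.2 ?_) (hP rP))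
    have e3 : z = w * (n * w * n⁻¹) * w⁻¹ * (n * w * n⁻¹)⁻¹ := by rw [e1]; group
    have e4 : z⁻¹ = n⁻¹ * (w * (n * w * n⁻¹) * w⁻¹ * (n * w * n⁻¹)⁻¹) * n := by
      rw [show z = w * (n⁻¹ * w * n) * w⁻¹ * (n⁻¹ * w * n)⁻¹ by rw [e2]; group]; group
    rw [← e3, inv_eq_of_mul_eq_one_left z2] at e4
    change n * z = z * n
    nth_rewrite 1 [e4]; group
  have W : ∀ h, Ins T h P → ¬ Same L 1 h P → h⁻¹ * z * h ∉ N[L] := fun h a b e =>
    wP (star c k sy fx ih hP a b wT wN fun y hy e' => by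
      rcases w2 (hP hy) with e1 | e1 <;> rw [e1]
      · exact e'
      · convert mul_mem e e' using 1; group)
  have W' : ∀ h, Ins T h P → ¬ Same L n h P → h⁻¹ * (n * z * n⁻¹) * h ∉ N[L] := fun h a b e =>
    W (n⁻¹ * h) (fun y hy => by convert a _ (conj_mem hn hy) using 1; group)
      (fun s => b fun y hy => by convert s _ (nP hy) using 2 <;> group) (by convert e using 1; group)
  obtain ⟨s, hs⟩ : ∃ s, s = n * z * n⁻¹ := ⟨_, rfl⟩
  have sP : s ∈ P := hs ▸ conj_mem hn zP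
  have sL : s ∉ N[L] := by
    simpa [← hs] using W' 1 (fun y hy => by simpa using hP hy) fun e => ne fun y hy => (e y hy).symm
  have ss : s * s = 1 := by rw [hs, conj_mul, z2]; group
  have sc : P ≤ T ⊓ C1[s] := fun y hy => mem_inf.2 ⟨hP hy, mem_C1.2 (by
    have := (zc (iN y hy)).map (MulAut.conj n)
    simp only [MulAut.conj_apply] at this
    rw [hs]; convert this using 1; group)⟩
  have sc' : T ⊓ C1[s] ≤ P := by
    by_contra h
    obtain ⟨x, hx, xP⟩ := SetLike.exists_of_lt (lt_inf_normalizer_of_lt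
      (c.syl.isPGroup.to_le inf_le_left) (lt_of_le_not_ge sc h))
    refine W' (x * n) (fun y hy => ?_) (fun e => xP (star c k sy fx ih hP iN ne hx.1.1 hx.2
      fun y hy e' => (e _ (conj_mem hx.2 hy)).2 (by convert e' using 1; group))) ?_
    · convert iN _ (conj_mem (inv_mem hx.2) hy) using 1; group
    · rw [← hs, mul_inv_rev, show n⁻¹ * x⁻¹ * s * (x * n) = n⁻¹ * (x⁻¹ * s * x⁻¹⁻¹) * n by group,
        cz (mem_C1.1 hx.1.2).symm.inv_right, hs]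
      convert zL using 1; group
  have sw := k.Tsw s (hP sP) sL
  have cU : ∀ a b : U, Commute (a : G) (s * b * s⁻¹) := fun a b =>
    k.idp.2.2.1 _ a.2 _ (sw.1 ▸ conj_mem_conj_smul.2 b.2)
  let f : U →* G := (U.subtype.noncommCoprod ((MulAut.conj s).toMonoidHom.comp U.subtype) cU).comp
    ((MonoidHom.id U).prod (MonoidHom.id U))
  have hf : ∀ a : U, f a = a * (s * a * s⁻¹) := fun a => rfl
  have fP : (⊤ : Subgroup U).map f ≤ P := by
    rintro _ ⟨a, -, rfl⟩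
    refine sc' (mem_inf.2 ⟨hf a ▸ mul_mem (c.UT a.2)
      (mul_mem (mul_mem (hP sP) (c.UT a.2)) (inv_mem (hP sP))), mem_C1.2 ?_⟩)
    change f a * s = s * f a
    rw [hf, show s * (a * (s * a * s⁻¹)) = s * a * s⁻¹ * (s * s) * a * s⁻¹ by group, ss, mul_one,
      ← (cU a a).eq, inv_eq_of_mul_eq_one_left ss]
  have wc := c.wl.zc c.wZ
  rw [← map_subgroupOf_eq_of_le (le_refl U), subgroupOf_self, ← map_commutator] at wc
  obtain ⟨a, ha, rfl⟩ := wc
  have h1 : f a ∈ ⁅P, P⁆ := commutator_mono fP fP (map_commutator _ _ f ▸ mem_map_of_mem f ha)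
  have h2 : ⁅P, P⁆ ≤ cj n N[L] := commutator_le.2 fun x hx y hy => mem_cj.2 (by
    have := comm_mem c k (c.syl.le (iN x hx)) (c.syl.le (iN y hy))
    convert this using 1
    simp only [commutatorElement_def]; group)
  refine W n iN ne ?_
  have := mem_cj.1 (h2 h1)
  rwa [hf, show s * (a : G) * s⁻¹ = _ from sw.2.2.1, show (a : G) * _ = z from hz.symm] at this

theorem good (c : WC L U T t w) (k : WK L U T t w) (sy : IsSylowIn 2 T ⊤) (ab : AB L T t w)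
    (fx : Fix1 N[L ⊔ cj t L] {t}) (hr : NR L T w) (P : Subgroup G) : Good L T P := by
  induction h : Nat.card G - Nat.card P using Nat.strong_induction_on generalizing P with
  | _ m ih =>
  intro g h hg hh
  have ih' : ∀ Q : Subgroup G, cj g⁻¹ P < Q → Good L T Q := fun Q hQ => ih _ (by
    have a : Nat.card P < Nat.card Q := by
      rw [← card_conj_smul P g⁻¹]
      exact lt_of_le_of_ne (card_le_of_le hQ.le) fun e => hQ.ne (eq_of_le_of_card_ge hQ.le e.ge)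
    have b := Q.card_le_card_group
    omega) Q rfl
  have m : ∀ {x}, x ∈ cj g⁻¹ P ↔ g * x * g⁻¹ ∈ P := fun {x} => by rw [mem_cj, inv_inv]
  have l : cj g⁻¹ P ≤ T := fun x hx => by simpa [mul_assoc] using hg _ (m.1 hx)
  have i1 : Ins T 1 (cj g⁻¹ P) := fun x hx => by simpa using l hx
  have i2 : Ins T (g⁻¹ * h) (cj g⁻¹ P) := fun x hx => by
    convert hh _ (m.1 hx) using 1; group
  suffices s : Same L 1 (g⁻¹ * h) (cj g⁻¹ P) from fun x hx => by
    convert s (g⁻¹ * x * g) (m.2 (by simpa [mul_assoc] using hx)) using 2 <;> group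
  by_contra ne
  obtain ⟨y, hy, s⟩ := key (L := L) sy ih' le_rfl
    (lt_of_not c i2 fun e => ne fun x hx => (same_of_t c k fx i2 i1 e x hx).symm)
    (lt_of_not c i1 fun e => ne (same_of_t c k fx i1 i2 e))
  rw [mul_one] at s
  exact ne fun x hx => (core c k sy ab fx hr ih' l (inv_mem hy) x hx).trans (s x hx).symm

end NS

theorem ns (hk : WKStmt.{u}) : NSStmt.{u} := by
  rintro G _ _ L U T t w c sy ab fx hr
  refine ⟨inf_le_left, fun x hx g h => mem_inf.2 ⟨h, ?_⟩⟩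
  have := (good c (hk L U T t w c) sy ab fx hr (zpowers (g * x * g⁻¹)) g 1 (fun y hy => by
    have : zpowers (g * x * g⁻¹) ≤ cj g T := zpowers_le.2 (conj_mem_conj_smul.2 hx.1)
    exact mem_cj.1 (this hy)) (fun y hy => by simpa using zpowers_le.2 h hy) _ (mem_zpowers _)).1
    (by simpa [mul_assoc] using hx.2)
  simpa using this

end NS

namespace P


open Cfsg H63 H63.SL Subgroup H27.End H8
open Cfsg.Agent.H63.WR (cc FixC Ne2 WX ClsI Hat WF AB NR)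
open Cfsg.Agent.H34.UM (WL2)
open H57.SlP (FS I_le_FS mem_FS fix_conj cc_conj cc_mul ex_cc le_cc le_of_odd TJ tt cover_idx
  prod_nonfix)
open H26.WrP (cjC cjN cjI cj_eq dec exists_sq conj_of_odd)
open scoped commutatorElement Pointwise


variable {G : Type u} [Group G] [Finite G] {A B L U T P W X K : Subgroup G} {g x y e j r m t w : G}

variable (c : WC L U T t w) (k : WK L U T t w)
include c k

theorem com : cj t L ≤ C[L] := by
  rintro _ ⟨b, hb, rfl⟩ a ha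
  exact c.com a ha b hb

theorem com' : L ≤ C[cj t L] := le_centralizer_iff.1 (com c k)

theorem back : cj t (cj t L) = L := (k.sw t (c.syl.le c.tT) k.tn).2

theorem N2 : T ⊓ N[L] ≤ N[cj t L] := fun _ h => k.nn ⟨c.syl.le h.1, h.2⟩

theorem tt' (x : G) : t * (t * x * t⁻¹) * t⁻¹ = x := by
  rw [show t * (t * x * t⁻¹) * t⁻¹ = t * t * x * (t * t)⁻¹ by group, c.t2]; simp

theorem ct (h : x ∈ T ⊓ N[L]) : t * x * t⁻¹ ∈ T ⊓ N[L] :=
  ⟨T.mul_mem (T.mul_mem c.tT h.1) (T.inv_mem c.tT), (cjN (back c k)).2 (N2 c k h)⟩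

theorem u1 : U ⊔ cj t U ≤ L ⊔ C[L] := sup_le_sup c.wl.syl.le (k.swap.wl.syl.le.trans (com c k))

theorem u2 : U ⊔ cj t U ≤ cj t L ⊔ C[cj t L] := sup_le ((c.wl.syl.le.trans (com' c k)).trans
  le_sup_right) (k.swap.wl.syl.le.trans le_sup_left)

theorem u0 : U ⊔ cj t U ≤ T ⊓ N[L] := le_inf (sup_le c.UT k.swap.UT)
  ((u1 c k).trans (sup_le le_normalizer (centralizer_le_normalizer _)))

theorem udec (h : x ∈ U ⊔ cj t U) : ∃ a ∈ U, ∃ b ∈ cj t U, a * b = x :=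
  (H83.mem_sup_right_norm (H83.le_norm_of_le_cent fun a ha b hb => (k.idp.2.2.1 a ha b hb).symm)).1 h

theorem upper (hj : j ∈ T ⊓ N[L]) : Nat.card ↥(T ⊓ N[L] ⊓ C1[j]) ≤
    2 ^ (cc L j + cc (cj t L) j) * (U ⊔ cj t U).relIndex (TJ L T t j) := by
  have e3 := k.T0 hj
  have h3 : ∀ x : ↥((U ⊔ cj t U) ⊓ (T ⊓ N[L] ⊓ C1[j])), ∃ p : ↥(U ⊓ C1[j]) × ↥(cj t U ⊓ C1[j]),
      (p.1 : G) * p.2 = x := fun x => by
    obtain ⟨a, ha, b, hb, e5⟩ := udec c k x.2.1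
    have e6 := (mem_C1.1 x.2.2.2).symm.mul_inv_cancel
    rw [← e5, ← conj_mul] at e6
    have e7 : a⁻¹ * (j * a * j⁻¹) = 1 := mem_bot.1 (k.idp.2.2.2.1.le (mem_inf.2 ⟨mul_mem (inv_mem ha)
      (conj_mem e3.1 ha), by
        rw [eq_mul_inv_of_mul_eq e6, mul_assoc, inv_mul_cancel_left]
        exact mul_mem hb (inv_mem (conj_mem e3.2 hb))⟩))
    rw [← inv_mul_eq_one.1 e7, mul_left_cancel_iff] at e6
    exact ⟨⟨⟨a, ha, mem_C1.2 (eq_mul_of_mul_inv_eq (inv_mul_eq_one.1 e7).symm).symm⟩,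
      ⟨b, hb, mem_C1.2 (eq_mul_of_mul_inv_eq e6).symm⟩⟩, e5⟩
  choose f hf using h3
  have h4 := Nat.card_le_card_of_injective f fun x y e => Subtype.ext ((hf x).symm.trans (e ▸ hf y))
  rw [Nat.card_prod] at h4
  rw [card_eq_card_mul_relIndex (inf_le_right : (U ⊔ cj t U) ⊓ _ ≤ _), inf_relIndex_right, pow_add]
  exact Nat.mul_le_mul (h4.trans (Nat.mul_le_mul
    (le_cc c.wl.syl.isPGroup.to_inf_left (inf_le_inf_right _ c.wl.syl.le))
    (le_cc k.swap.wl.syl.isPGroup.to_inf_left (inf_le_inf_right _ k.swap.wl.syl.le))))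
    (relIndex_le_of_le_right (fun x hx => ⟨hx.1, mem_FS hx.1.2 hx.2, mem_FS (N2 c k hx.1) hx.2⟩)
      index_ne_zero_of_finite)

theorem cover (h1 : y ∈ N[L]) (h2 : y ∈ N[cj t L]) (y2 : y * y = 1) (x1 : x ∈ FS L y)
    (x2 : x ∈ FS (cj t L) y) : ∃ n ∈ (L ⊔ C[L]) ⊓ (cj t L ⊔ C[cj t L]), n * x ∈ C1[y] := by
  obtain ⟨-, l, hl, e1⟩ := x1
  obtain ⟨-, l', hl', e2⟩ := mul_mem (I_le_FS h2 (mem_sup_right (com' c k hl))) x2
  have e3 : l' * (l * x) * y * (l' * (l * x))⁻¹ * y⁻¹ ∈ C[L] := by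
    have := mul_mem (mul_mem (com c k hl') e1) ((cjC (cj_eq h1)).2 (inv_mem (com c k hl')))
    convert this using 1
    group
  obtain ⟨j, e⟩ := conj_of_odd y2 (x := l' * (l * x) * y * (l' * (l * x))⁻¹)
    (by rw [conj_mul, y2, mul_one, mul_inv_cancel])
    (odd_orderOf_of_mem c.odd ((H83.centralizer_sup _ _).ge ⟨e3, e2⟩))
  have e4 := pow_mem e2 j
  have e5 := pow_mem e3 j
  generalize (l' * (l * x) * y * (l' * (l * x))⁻¹ * y⁻¹) ^ j = d at *
  refine ⟨d⁻¹ * l' * l, ⟨mul_mem (mem_sup_right (mul_mem (inv_mem e5) (com c k hl')))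
    (mem_sup_left hl), mul_mem (mul_mem (mem_sup_right (inv_mem e4)) (mem_sup_left hl'))
    (mem_sup_right (com' c k hl))⟩, mem_C1.2 (mul_inv_eq_iff_eq_mul.1 ?_)⟩
  rw [show d⁻¹ * l' * l * x * y * (d⁻¹ * l' * l * x)⁻¹ =
    d⁻¹ * (l' * (l * x) * y * (l' * (l * x))⁻¹) * d by group, ← e]
  group

theorem lower (hN : (L ⊔ C[L]) ⊓ (cj t L ⊔ C[cj t L]) ≤ X) (hT : T ⊓ N[L] ≤ X)
    (hj : j ∈ T ⊓ N[L]) (j2 : j * j = 1) : ∃ Q ≤ C1[j] ⊓ X, IsPGroup 2 Q ∧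
      2 ^ (cc L j + cc (cj t L) j) * (U ⊔ cj t U).relIndex (TJ L T t j) ≤ Nat.card Q := by
  obtain ⟨P1, a1, a3⟩ := ex_cc L j
  obtain ⟨P2, b1, b3⟩ := ex_cc (cj t L) j
  set M0 := N[L] ⊓ N[cj t L]
  set N0 := (L ⊔ C[L]) ⊓ (cj t L ⊔ C[cj t L])
  have nm : N0 ≤ M0 := inf_le_inf (sup_le le_normalizer (centralizer_le_normalizer _))
    (sup_le le_normalizer (centralizer_le_normalizer _))
  have p1 : P1 ≤ N0 := fun a ha =>
    ⟨mem_sup_left (a1.le ha).1, mem_sup_right (com' c k (a1.le ha).1)⟩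
  have p2 : P2 ≤ N0 := fun a ha =>
    ⟨mem_sup_right (com c k (b1.le ha).1), mem_sup_left (b1.le ha).1⟩
  obtain ⟨Q, hQ, h2⟩ := exists_isSylowIn_ge (p := 2) (H := M0 ⊓ (C1[j] ⊓ X))
    (a1.isPGroup.to_sup_of_normal_right' b1.isPGroup (H83.le_norm_of_le_cent fun a ha b hb =>
      (com' c k (a1.le ha).1 b (b1.le hb).1)))
    (sup_le (fun a ha => ⟨nm (p1 ha), (a1.le ha).2, hN (p1 ha)⟩)
      fun a ha => ⟨nm (p2 ha), (b1.le ha).2, hN (p2 ha)⟩)
  have h3 := cover_idx (M := M0) (N := N0) (P := TJ L T t j) (fun m hm =>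
    mem_N_of_conj fun x hx => ⟨(cjI (cj_eq hm.1)).2 hx.1, (cjI (cj_eq hm.2)).2 hx.2⟩) hQ inf_le_left
    (fun x hx => ⟨hx.1.2, hx.2.2.1⟩) c.syl.isPGroup.to_inf_left.to_inf_left fun x hx => by
      obtain ⟨n, hn, h⟩ := cover c k hj.2 (N2 c k hj) j2 hx.2.1 hx.2.2
      exact ⟨n, hn, mul_mem (nm hn) ⟨hx.1.2, hx.2.2.1⟩, h, mul_mem (hN hn) (hT hx.1)⟩
  have h5 : Nat.card P1 * Nat.card P2 ≤ Nat.card ↥(N0 ⊓ Q) := by
    rw [← Nat.card_prod]
    refine Nat.card_le_card_of_injective (fun p => ⟨p.1 * p.2, mul_mem (p1 p.1.2) (p2 p.2.2),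
      h2 (mul_mem_sup p.1.2 p.2.2)⟩) fun p q e => ?_
    have e1 : (p.1 : G) * p.2 = q.1 * q.2 := congrArg Subtype.val e
    have e3 := mul_mem (inv_mem q.1.2) p.1.2
    have e4 := inv_mul_eq_one.1 (eq_one_of_is2 (is2_of_mem a1.isPGroup e3) (k.inf _ (a1.le e3).1 (by
      rw [eq_mul_inv_of_mul_eq e1, mul_assoc, inv_mul_cancel_left]
      exact (b1.le (mul_mem q.2.2 (inv_mem p.2.2))).1)))
    rw [e4] at e1
    exact Prod.ext (Subtype.ext e4.symm) (Subtype.ext (mul_left_cancel e1))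
  refine ⟨Q, hQ.le.trans inf_le_right, hQ.isPGroup, ?_⟩
  rw [card_eq_card_mul_relIndex (inf_le_right : N0 ⊓ Q ≤ Q), inf_relIndex_right, pow_add, ← a3, ← b3]
  refine Nat.mul_le_mul h5 (le_trans ?_ h3)
  rw [← inf_relIndex_right N0]
  exact relIndex_le_of_le_left (fun x hx => k.TG x hx.2.1.1 hx.1.1 hx.1.2) index_ne_zero_of_finite

theorem fix2 (hm : m ∈ T ⊓ N[L]) :
    m ∈ FS (cj t L) j ↔ FixC L (t * j * t⁻¹) (t * m * t⁻¹) :=
  ⟨fun h => fix_conj (back c k) h.2, fun h => ⟨N2 c k hm, by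
    simpa only [tt' c k] using fix_conj (g := t) rfl h⟩⟩

/-- The counting argument. -/
theorem ne2 (wx : WX L U W) (hj : j ∈ T ⊓ N[L]) (j2 : j * j = 1)
    (n : j * (t * j * t⁻¹) ∉ L ⊔ C[L])
    (h : 2 ^ (cc L j + cc (cj t L) j) * (U ⊔ cj t U).relIndex (TJ L T t j) =
      2 ^ (2 * cc L e) * (U ⊔ cj t U).relIndex (T ⊓ N[L])) :
    ¬ Ne2 L (T ⊓ N[L]) e j (t * j * t⁻¹) := fun hn => by
  have pT : IsPGroup 2 ↥(T ⊓ N[L]) := c.syl.isPGroup.to_inf_left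
  have hj' := ct c k hj
  have j2' : t * j * t⁻¹ * (t * j * t⁻¹) = 1 := by rw [conj_mul, j2]; simp
  rw [← relIndex_mul_relIndex (U ⊔ cj t U) (TJ L T t j) (T ⊓ N[L]) (le_inf (u0 c k) (le_inf
    ((u1 c k).trans (I_le_FS hj.2)) ((u2 c k).trans (I_le_FS (N2 c k hj))))) inf_le_left,
    mul_comm (relIndex _ _) (relIndex _ _), ← mul_assoc, ← cc_conj (back c k)] at h
  replace h := Nat.eq_of_mul_eq_mul_right (Nat.pos_of_ne_zero index_ne_zero_of_finite) h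
  by_cases hle : T ⊓ N[L] ≤ TJ L T t j
  · rw [relIndex_eq_one.2 hle, mul_one] at h
    exact hn.1 (Nat.pow_right_injective le_rfl h)
  obtain ⟨a, ha, ha'⟩ := SetLike.not_le_iff_exists.1 hle
  have h2 : (TJ L T t j).relIndex (T ⊓ N[L]) = 2 := by
    refine index_eq_two_iff_exists_notMem_and.2 ⟨⟨a, ha⟩, ha', fun b => ?_⟩
    have hb := b.2
    have hba := mul_mem hb ha
    by_cases i : j ∈ L ⊔ C[L]
    · have k1 : ∀ m ∈ T ⊓ N[L], FixC L j m → m ∈ TJ L T t j := fun m hm h =>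
        ⟨hm, ⟨hm.2, h⟩, (fix2 c k hm).2 (wx.clsO _ inf_le_right pT _ hj' (j2' ▸ one_mem _)
          (fun h => n (mul_mem i h)) _ (ct c k hm))⟩
      rcases wx.half _ inf_le_right pT j hj (j2 ▸ one_mem _) _ hb _ ha with h | h | h
      exacts [.inr (k1 _ hb h), absurd (k1 _ ha h) ha', .inl (k1 _ hba h)]
    · have k1 : ∀ m ∈ T ⊓ N[L], FixC L (t * j * t⁻¹) (t * m * t⁻¹) → m ∈ TJ L T t j := fun m hm h =>
        ⟨hm, ⟨hm.2, wx.clsO _ inf_le_right pT j hj (j2 ▸ one_mem _) i m hm⟩, (fix2 c k hm).2 h⟩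
      rcases wx.half _ inf_le_right pT _ hj' (j2' ▸ one_mem _) _ (ct c k hb) _ (ct c k ha)
        with h | h | h
      exacts [.inr (k1 _ hb h), absurd (k1 _ ha h) ha', .inl (k1 _ hba (by rwa [conj_mul] at h))]
  rw [h2, ← pow_succ] at h
  refine hn.2 ?_ (Nat.pow_right_injective le_rfl h)
  by_cases h1 : FixC L j a
  · exact ⟨_, ct c k ha, .inr fun h3 => ha' ⟨ha, ⟨ha.2, h1⟩, (fix2 c k ha).2 h3⟩⟩
  · exact ⟨a, ha, .inl h1⟩

theorem core (wx : WX L U W) (hT : IsSylowIn 2 T ⊤) (f1 : Fix1 N[L ⊔ cj t L] {t}) [hX : X.Normal]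
    (pf : ⁅X, X⁆ = X) (gen : X ⊔ zpowers t = ⊤) (TX : T ⊓ X = T ⊓ N[L]) (he : e ∈ T ⊓ N[L])
    (e2 : e * e = 1) (et : Commute t e) (n1 : e ∉ L ⊔ C[L]) (KT : K ≤ T ⊓ N[L])
    (IK : ∀ x ∈ T ⊓ N[L], x ∈ L ⊔ C[L] → x ∈ K)
    (hne : ∀ j ∈ T ⊓ N[L], j * j = 1 → j * (t * j * t⁻¹) ∉ K → Ne2 L (T ⊓ N[L]) e j (t * j * t⁻¹))
    (hfix : ∀ g ∈ N[L], g⁻¹ * e * g ∈ T ⊓ N[L] → e * (g⁻¹ * e * g) ∈ K) : e ∈ K := by
  have pT : IsPGroup 2 ↥(T ⊓ N[L]) := c.syl.isPGroup.to_inf_left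
  have T0X : T ⊓ N[L] ≤ X := TX ▸ inf_le_right
  have tM := c.syl.le c.tT
  have i2 : X.index = 2 := index_eq_two_iff_exists_notMem_and.2
    ⟨t, fun h => k.tn (TX.le ⟨c.tT, h⟩).2, fun b => by
      obtain ⟨x, hx, y, hy, rfl⟩ := mem_sup_of_normal_left.1 (gen ▸ mem_top b : b ∈ X ⊔ zpowers t)
      rcases (H49.mem_zpowers_invol c.t2).1 hy with rfl | rfl
      exacts [.inr (by simpa using hx), .inl (by rwa [mul_assoc, c.t2, mul_one])]⟩
  have L1 : L ≤ X := le_of_odd i2 (le_sup_left.trans ((u0 c k).trans T0X)) c.wl.syl.not_dvd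
  have L2 : cj t L ≤ X := le_of_odd i2 (le_sup_right.trans ((u0 c k).trans T0X))
    k.swap.wl.syl.not_dvd
  have L3 : C[L ⊔ cj t L] ≤ X := le_of_odd i2 bot_le (by
    rw [relIndex_bot_left]; exact c.odd.not_two_dvd_nat)
  have hN : (L ⊔ C[L]) ⊓ (cj t L ⊔ C[cj t L]) ≤ X := fun x hx => by
    obtain ⟨a, ha, b, hb, rfl⟩ := dec le_rfl hx.1
    obtain ⟨a', ha', b', hb', rfl⟩ := dec le_rfl
      ((mul_mem_cancel_left (mem_sup_right (com' c k ha))).1 hx.2)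
    exact mul_mem (L1 ha) (mul_mem (L2 ha') (L3 ((H83.centralizer_sup _ _).ge
      ⟨(mul_mem_cancel_left (com c k ha')).1 hb, hb'⟩)))
  obtain ⟨S, hS, h1⟩ := exists_isSylowIn_ge (p := 2) (c.syl.isPGroup.to_inf_left (K := C1[e]))
    inf_le_right
  have tS : t ∈ S := h1 ⟨c.tT, mem_C1.2 et⟩
  have eS : e ∈ S := h1 ⟨he.1, mem_C1.2 (.refl e)⟩
  have SM := Fix1.le f1 c.t2 tM hS.isPGroup tS
  have hS0 := hS.inf_of_le_normalizer (N := X) le_normalizer_of_normal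
  have val : ∀ g : G, g⁻¹ * e * g ∈ T ⊓ N[L] → (∀ s ∈ S, s ∈ X → g⁻¹ * s * g ∈ T ⊓ N[L]) →
      2 ^ (cc L (g⁻¹ * e * g) + cc (cj t L) (g⁻¹ * e * g)) *
        (U ⊔ cj t U).relIndex (TJ L T t (g⁻¹ * e * g)) = Nat.card ↥(S ⊓ X) := fun g h2 h3 => by
    refine le_antisymm ?_ (le_trans ?_ (upper c k h2))
    · obtain ⟨Q, q1, q2, q3⟩ := lower c k hN T0X h2 (by
        rw [show g⁻¹ * e * g * (g⁻¹ * e * g) = g⁻¹ * (e * e) * g by group, e2]; simp)
      refine q3.trans (card_conj_smul Q g ▸ hS0.card_le (isPGroup_conj_smul q2 _) fun x hx => ?_)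
      have := q1 (mem_conj_smul.1 hx)
      exact ⟨mem_C1.2 (by simpa [mul_assoc] using (mem_C1.1 this.1).conj g),
        by simpa [mul_assoc] using hX.conj_mem _ this.2 g⟩
    · rw [← card_conj_smul (S ⊓ X) g⁻¹]
      refine card_le_of_le ?_
      rintro _ ⟨s, hs, rfl⟩
      exact ⟨by simpa using h3 s hs.1 hs.2,
        mem_C1.2 (by simpa using (mem_C1.1 (hS.le hs.1)).conj g⁻¹)⟩
  have full : ∀ j ∈ T ⊓ N[L], j * j = 1 → j ∉ L ⊔ C[L] → j ∉ cj t L ⊔ C[cj t L] →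
      TJ L T t j = T ⊓ N[L] := fun j hj j2 a b => inf_eq_left.2 fun m hm =>
    ⟨⟨hm.2, wx.clsO _ inf_le_right pT j hj (j2 ▸ one_mem _) a m hm⟩, (fix2 c k hm).2
      (wx.clsO _ inf_le_right pT _ (ct c k hj) (by rw [conj_mul, j2]; simp)
        (mt (cjI (back c k)).1 b) _ (ct c k hm))⟩
  have te : t * e * t⁻¹ = e := et.mul_inv_cancel
  have n2 : e ∉ cj t L ⊔ C[cj t L] := fun h => n1 (te ▸ (cjI (back c k)).2 h)
  have sval : Nat.card ↥(S ⊓ X) = 2 ^ (2 * cc L e) * (U ⊔ cj t U).relIndex (T ⊓ N[L]) := by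
    obtain ⟨m, hm, hm', h⟩ : ∃ m ∈ N[L ⊔ cj t L], m ∈ N[L] ∧ ∀ x ∈ S, m * x * m⁻¹ ∈ T := by
      obtain ⟨m, hm, h⟩ := c.syl.exists_conj_le hS.isPGroup SM
      rcases k.perm _ (inv_mem hm) with h1 | h1
      · exact ⟨m, hm, inv_mem_iff.1 h1, fun x hx => h (conj_mem_conj_smul.2 hx)⟩
      · refine ⟨t⁻¹ * m, mul_mem (inv_mem tM) hm, by simpa using inv_mem h1, fun x hx => ?_⟩
        simpa [mul_assoc] using
          mul_mem (mul_mem (inv_mem c.tT) (h (conj_mem_conj_smul.2 hx))) c.tT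
    have m1 := cj_eq hm'
    have m2 := cj_eq (k.nn ⟨hm, hm'⟩)
    have e1 : m * e * m⁻¹ ∈ T ⊓ N[L] := ⟨h e eS, (cjN m1).2 he.2⟩
    have := val m⁻¹ (by rwa [inv_inv]) fun s hs hx => by
      rw [inv_inv]; exact TX.le ⟨h s hs, hX.conj_mem _ hx m⟩
    rw [inv_inv, full _ e1 (by rw [conj_mul, e2]; simp) (mt (cjI m1).1 n1) (mt (cjI m2).1 n2),
      cc_conj m1, cc_conj m2, ← cc_conj (back c k), te, ← two_mul] at this
    exact this.symm
  refine tt (X := X) (T := T ⊓ N[L]) (S := S) (k.der.trans fun x hx => IK x (u0 c k hx) (u1 c k hx))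
    KT ?_ (pf.ge (T0X he)) he e2 c.t2 (mem_N_of_conj fun x => ct c k) et hS.isPGroup hS.le
    (le_normalizer tS) eS (fun g _ h2 h3 => by_contra fun h4 => ?_) fun g hg h2 => hfix g ?_
  · have := (hT.inf_of_le_normalizer (N := X) le_normalizer_of_normal).not_dvd
    rwa [top_inf_eq, TX] at this
  · have j2 : g⁻¹ * e * g * (g⁻¹ * e * g) = 1 := by
      rw [show g⁻¹ * e * g * (g⁻¹ * e * g) = g⁻¹ * (e * e) * g by group, e2]; simp
    exact ne2 c k wx h2 j2 (fun h => h4 (IK _ (mul_mem h2 (ct c k h2)) h))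
      ((val g h2 h3).trans sval) (hne _ h2 j2 h4)
  · have gM : g ∈ N[L ⊔ cj t L] := inv_mem_iff.1 (Fix1.mem f1 (by
      simpa [mul_assoc] using mul_mem (c.syl.le h2.1) tM))
    by_contra gn
    have h3 := (c.syl.inf_of_le_normalizer (N := X) le_normalizer_of_normal).not_dvd
    refine h3 (dvd_trans (dvd_of_eq (Eq.symm ?_)) (relIndex_dvd_of_le_left _ (TX.le.trans inf_le_right)))
    refine index_eq_two_iff_exists_notMem_and.2 ⟨⟨g, gM, hg⟩, gn, fun b => ?_⟩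
    refine (k.perm b b.2.1).symm.imp_left fun h => ?_
    have h5 := (k.perm _ (inv_mem gM)).resolve_left (mt inv_mem_iff.1 gn)
    show (b : G) * g ∈ N[L]
    simpa [mul_assoc] using mul_mem h (inv_mem h5)

omit c k

/-- **P1** -/
theorem p1 (hK : WKStmt.{u}) : P1Stmt.{u} := by
  intro G _ _ L U T t w c W X wx hT f1 hX pf gen TX
  have k := hK L U T t w c
  refine le_antisymm (fun x hx => by_contra fun hx' => ?_) (u0 c k)
  have pT : IsPGroup 2 ↥(T ⊓ N[L]) := c.syl.isPGroup.to_inf_left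
  have bk := back c k
  have cm : ∀ {a b}, a ∈ T ⊓ N[L] → b ∈ T ⊓ N[L] → a * b * a⁻¹ * b⁻¹ ∈ U ⊔ cj t U := fun ha hb =>
    k.der (commutator_mem_commutator ha hb)
  have dg : ∀ {y}, y ∈ T ⊓ N[L] → y * y ∈ U ⊔ cj t U → y * (t * y * t⁻¹) * (y * (t * y * t⁻¹)) ∈
      U ⊔ cj t U ∧ t * (y * (t * y * t⁻¹)) * t⁻¹ * (y * (t * y * t⁻¹))⁻¹ ∈ U ⊔ cj t U :=
    fun {y} hy y2 => by
      have h1 : t * y * t⁻¹ * (t * y * t⁻¹) ∈ U ⊔ cj t U := by
        obtain ⟨a, ha, b, hb, e⟩ := udec c k y2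
        rw [conj_mul, ← e, ← conj_mul, sup_comm]
        exact mul_mem_sup ⟨a, ha, rfl⟩ ((k.Tsw t c.tT k.tn).2.1 ▸ ⟨b, hb, rfl⟩)
      constructor
      · convert mul_mem (mul_mem y2 (cm (inv_mem hy) (ct c k hy))) h1 using 1
        group
      · rw [← conj_mul, tt' c k]
        convert cm (ct c k hy) hy using 1
        group
  have exd : ∃ x ∈ T ⊓ N[L], x ∉ U ⊔ cj t U ∧ x * x ∈ U ⊔ cj t U ∧
      t * x * t⁻¹ * x⁻¹ ∈ U ⊔ cj t U := by
    obtain ⟨n, hn⟩ := is2_of_mem pT hx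
    obtain ⟨m, h1, h2⟩ := exists_sq hx' (hn ▸ one_mem _)
    have h3 := pow_mem hx m
    generalize x ^ m = y at *
    by_cases h4 : t * y * t⁻¹ * y⁻¹ ∈ U ⊔ cj t U
    · exact ⟨y, h3, h1, h2, h4⟩
    · refine ⟨_, mul_mem h3 (ct c k h3), fun h => h4 ?_, dg h3 h2⟩
      convert mul_mem (mul_mem (cm (ct c k h3) (inv_mem h3)) (inv_mem h2)) h using 1
      group
  have mk : ∀ x ∈ T ⊓ N[L], x ∉ U ⊔ cj t U → t * x * t⁻¹ * x⁻¹ ∈ U ⊔ cj t U → x ∉ L ⊔ C[L] ∧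
      ∀ u ∈ U, u * x * (u * x) ∈ C[L] → ∃ e ∈ T ⊓ N[L], e * e = 1 ∧ Commute t e ∧
        e * x⁻¹ ∈ L ⊔ C[L] ∧ cc L e = cc L (u * x) := fun x hx n1 n2 => by
    refine ⟨fun h => n1 (k.TG x hx.1 h ?_), fun a ha a2 => ?_⟩
    · simpa [mul_assoc] using mul_mem (inv_mem (u2 c k n2)) ((cjI (g := t) rfl).2 h)
    have y1 := mul_mem (u0 c k (mem_sup_left ha)) hx
    have y3 : t * (a * x) * t⁻¹ * (t * (a * x) * t⁻¹) ∈ C[cj t L] := by rwa [conj_mul, cjC rfl]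
    obtain ⟨d, hd, b, hb, e⟩ := udec c k (show t * (a * x) * t⁻¹ * x⁻¹ ∈ _ by
      convert mul_mem (mem_sup_right (show t * a * t⁻¹ ∈ cj t U from ⟨a, ha, rfl⟩)) n2 using 1
      group)
    have bL := k.swap.wl.syl.le hb
    have bC := com c k bL
    have eS := mul_mem (u0 c k (mem_sup_right hb)) y1
    obtain ⟨f, hf, e'⟩ : ∃ f ∈ C[cj t L], b * (a * x) = f * (t * (a * x) * t⁻¹) :=
      ⟨_, com' c k (c.wl.syl.le (mul_mem ha (inv_mem hd))), by
        rw [eq_mul_of_mul_inv_eq e.symm, ← mul_assoc b, ← k.idp.2.2.1 a ha b hb]; group⟩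
    have f1 : b * (a * x) * (b * (a * x)) = 1 := k.TC _ (mul_mem eS eS).1
      (by simpa [mul_assoc] using mul_mem (mul_mem bC ((cjC (cj_eq y1.2)).2 bC)) a2) (by
        rw [e']
        have := mul_mem (mul_mem hf ((cjC (cj_eq (N2 c k (ct c k y1)))).2 hf)) y3
        generalize t * (a * x) * t⁻¹ = y at this ⊢
        simpa [mul_assoc] using this)
    have f2 : t * (b * (a * x)) * t⁻¹ * (b * (a * x))⁻¹ = 1 := k.TC _
      (mul_mem (ct c k eS) (inv_mem eS)).1 (by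
        have := mul_mem ((cjC bk).2 hf) (inv_mem bC)
        nth_rewrite 1 [e']
        convert this using 1
        rw [← conj_mul, tt' c k]
        group) (by
        have := mul_mem ((cjC rfl).2 bC : t * b * t⁻¹ ∈ _) (inv_mem hf)
        nth_rewrite 2 [e']
        convert this using 1
        group)
    exact ⟨_, eS, f1, mul_inv_eq_iff_eq_mul.1 (mul_inv_eq_one.1 f2), by
      simpa [mul_assoc] using mul_mem (mem_sup_right bC) (mem_sup_left (c.wl.syl.le ha)), cc_mul bC⟩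
  have cw : ∀ {e g}, e ∈ N[L] → g ∈ N[L] → e⁻¹ * (g⁻¹ * e * g) ∈ W := fun he hg => by
    simpa [commutatorElement_def, mul_assoc] using
      wx.Wc (commutator_mem_commutator (inv_mem he) (inv_mem hg))
  have UT : U ≤ T ⊓ N[L] := le_sup_left.trans (u0 c k)
  by_cases hF : ∃ x ∈ T ⊓ N[L], x * x ∈ U ⊔ cj t U ∧ t * x * t⁻¹ * x⁻¹ ∈ U ⊔ cj t U ∧ x ∉ W
  · obtain ⟨x, hx, x2, x3, x4⟩ := hF
    obtain ⟨u, hu, q1, q2⟩ := wx.neF _ inf_le_right pT UT x hx (u1 c k x2) x4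
    obtain ⟨e, he, e2, et, e3, e4⟩ := (mk x hx (fun h => x4 (wx.WI (u1 c k h))) x3).2 u hu q1
    have n : e ∉ W := fun h => x4 (by simpa using mul_mem (inv_mem (wx.WI e3)) h)
    refine n (core c k (K := T ⊓ N[L] ⊓ W) wx hT f1 pf gen TX he e2 et (fun h => n (wx.WI h))
      inf_le_left (fun x hx h => ⟨hx, wx.WI h⟩) (fun j hj j2 h => ?_) fun g hg h =>
        ⟨mul_mem he h, ?_⟩).2
    · have := q2 j hj _ (ct c k hj) (j2 ▸ one_mem _) (by rw [conj_mul, j2]; simp)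
        fun h' => h ⟨mul_mem hj (ct c k hj), h'⟩
      rwa [Ne2, ← e4] at this
    · have := cw he.2 hg
      rwa [inv_eq_of_mul_eq_one_right e2] at this
  · obtain ⟨x, hx, x1, x2, x3⟩ := exd
    have hG : ∀ x ∈ T ⊓ N[L], x * x ∈ U ⊔ cj t U → t * x * t⁻¹ * x⁻¹ ∈ U ⊔ cj t U → x ∈ W :=
      fun x a b d => by_contra fun h => hF ⟨x, a, b, d, h⟩
    obtain ⟨x4, x5⟩ := mk x hx x1 x3
    obtain ⟨u, hu, q1, q2⟩ := wx.neG _ inf_le_right pT UT x hx (hG x hx x2 x3) x4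
    obtain ⟨e, he, e2, et, e3, e4⟩ := x5 u hu q1
    have n : e ∉ L ⊔ C[L] := fun h => x4 (by simpa using mul_mem (inv_mem e3) h)
    have eW : e ∈ W := by simpa using mul_mem (wx.WI e3) (hG x hx x2 x3)
    refine n (core c k (K := T ⊓ N[L] ⊓ (L ⊔ C[L])) wx hT f1 pf gen TX he e2 et n
      inf_le_left (fun x hx h => ⟨hx, h⟩) (fun j hj j2 h => ?_) fun g hg h =>
        ⟨mul_mem he h, ?_⟩).2
    · have j3 := dg hj (j2 ▸ one_mem _)
      have := q2 j hj _ (ct c k hj) (j2 ▸ one_mem _) (by rw [conj_mul, j2]; simp)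
        (hG _ (mul_mem hj (ct c k hj)) j3.1 j3.2) fun h' => h ⟨mul_mem hj (ct c k hj), h'⟩
      rwa [Ne2, ← e4] at this
    · refine wx.one (T ⊓ N[L] ⊓ W) inf_le_right pT.to_inf_left _ ⟨he, eW⟩ _
        ⟨h, by simpa using mul_mem eW (cw he.2 hg)⟩ n fun h' => n ?_
      simpa [mul_assoc] using (cjI (cj_eq hg)).2 h'

end P

namespace F


open Cfsg Cfsg.Agent.H63 Cfsg.Agent.H63.SL Subgroup Cfsg.Agent.H8 Cfsg.Agent.H27.End
open Cfsg.Agent.H83 Cfsg.Agent.H45.Spl Cfsg.Agent.H87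
open Cfsg.Agent.H63.WR (cc FixC Ne2 WX ClsI Hat WF AB NR)
open Cfsg.Agent.H34.UM (WL2)
open Cfsg.Agent.H83.WrF (side)
open scoped commutatorElement Pointwise


variable {G : Type u} [Group G]

theorem fin (hk : WKStmt.{u}) : FinStmt.{u} := by
  intro G _ _ L U T t w c X hn hs gen LX hT sc
  have k := hk L U T t w c
  have pf : ⁅L, L⁆ = L := isPerfect_iff.1 c.wl.qs.1
  have pf2 : ⁅H63.cj t L, H63.cj t L⁆ = H63.cj t L := isPerfect_iff.1 k.swap.wl.qs.1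
  have UL := c.wl.syl.le
  have UL2 := k.swap.wl.syl.le
  have L2X : H63.cj t L ≤ X := by
    rintro _ ⟨a, ha, rfl⟩
    exact hn.conj_mem a (LX ha) t
  have wX : w ∈ X := LX (UL c.wZ.1)
  have XX : ⁅X, X⁆ = X := by
    have hN : ((⁅X, X⁆ : Subgroup G).subgroupOf X).Normal := Normal.subgroupOf inferInstance X
    rcases hN.eq_bot_or_eq_top with h | h
    · exfalso
      have : (⟨w, wX⟩ : X) ∈ (⁅X, X⁆ : Subgroup G).subgroupOf X :=
        commutator_mono LX LX (pf.ge (UL c.wZ.1))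
      rw [h, mem_bot] at this
      exact c.w1 (congrArg Subtype.val this)
    · exact le_antisymm (comm_self_le X) (subgroupOf_eq_top.1 h)
  have two : ∀ x ∈ T, ∀ y ∈ T, x ∉ N[L] → y ∉ N[L] → x * y ∈ N[L] := by
    intro x hx y hy h1 h2
    have := (mul_mem_iff_of_index_two (H := (T ⊓ N[L]).subgroupOf T) k.idx
      (a := ⟨x, hx⟩) (b := ⟨y, hy⟩)).2 (iff_of_false (fun h => h1 h.2) (fun h => h2 h.2))
    exact this.2
  have le1 : T ⊓ X ≤ T ⊓ N[L] := by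
    have e := commutator_inf_eq_focalSubgroup hT.toSylowTop
    have h1 : T ⊓ X ≤ T.focalSubgroup := by
      intro x hx
      have : x ∈ _root_.commutator G ⊓ (hT.toSylowTop : Subgroup G) :=
        mem_inf.2 ⟨commutator_mono le_top le_top (XX.ge hx.2), hx.1⟩
      rwa [e] at this
    refine h1.trans ?_
    rw [focalSubgroup_def, closure_le]
    rintro g ⟨hg, x, hx, v, rfl⟩
    refine mem_inf.2 ⟨hg, ?_⟩
    have hy : v * x⁻¹ * v⁻¹ ∈ T := by
      have := mul_mem (inv_mem hx) hg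
      rwa [show x⁻¹ * ⁅x, v⁆ = v * x⁻¹ * v⁻¹ by rw [commutatorElement_def]; group] at this
    rw [show ⁅x, v⁆ = x * (v * x⁻¹ * v⁻¹) by rw [commutatorElement_def]; group]
    by_cases h : x ∈ N[L]
    · exact mul_mem h (sc.2 x⁻¹ (inv_mem (mem_inf.2 ⟨hx, h⟩)) v hy).2
    · refine two _ hx _ hy h fun h' => h ?_
      have := sc.2 _ (mem_inf.2 ⟨hy, h'⟩) v⁻¹ (by
        rw [show v⁻¹ * (v * x⁻¹ * v⁻¹) * v⁻¹⁻¹ = x⁻¹ by group]; exact inv_mem hx)
      rw [show v⁻¹ * (v * x⁻¹ * v⁻¹) * v⁻¹⁻¹ = x⁻¹ by group] at this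
      exact inv_mem_iff.1 this.2
  have dec : ∀ g : G, g ∈ X ∨ g * t ∈ X := by
    intro g
    have : g ∈ X ⊔ zpowers t := gen ▸ mem_top g
    obtain ⟨x, hx, _, ⟨n, rfl⟩, rfl⟩ := mem_sup_of_normal_left.1 this
    have t2 : t ^ (2 : ℤ) = 1 := by rw [zpow_two, c.t2]
    rcases Int.even_or_odd' n with ⟨m, rfl | rfl⟩
    · left; simpa [zpow_mul, t2] using hx
    · right
      simp only [zpow_add, zpow_mul, t2, one_zpow, one_mul, zpow_one, mul_assoc, c.t2, mul_one]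
      exact hx
  have eq1 : T ⊓ X = T ⊓ N[L] := by
    refine le_antisymm le1 fun x hx => mem_inf.2 ⟨hx.1, (dec x).resolve_right fun h => k.tn ?_⟩
    have := (le1 (mem_inf.2 ⟨mul_mem hx.1 c.tT, h⟩)).2
    exact (mul_mem_cancel_left (mem_inf.1 hx).2).1 this
  refine ⟨eq1, XX, fun e => ?_⟩
  have hS : H8.IsSylowIn 2 (U ⊔ H63.cj t U) X := by
    have := hT.inf_of_le_normalizer (N := X) (by rw [normalizer_eq_top])
    rwa [top_inf_eq, eq1, e] at this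
  have l1 : U ≤ X := UL.trans LX
  have l2 : H63.cj t U ≤ X := UL2.trans L2X
  have c1 : L ≤ C[H63.cj t L] := fun a ha => mem_C (by
    rintro _ ⟨b, hb, rfl⟩
    exact c.com a ha b hb)
  have c2 : H63.cj t L ≤ C[L] := le_centralizer_iff.1 c1
  have hp : IsInternalDirectProduct (U.subgroupOf X) ((H63.cj t U).subgroupOf X) hS.toSylow :=
    ⟨comap_mono le_sup_left, comap_mono le_sup_right,
      fun a ha b hb => Subtype.ext (k.idp.2.2.1 _ ha _ hb),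
      eq_bot_iff.2 fun x hx => Subtype.ext (idp_one k.idp hx.1 hx.2), (subgroupOf_sup l1 l2).symm⟩
  have hc : Nat.card (U.subgroupOf X) = Nat.card ((H63.cj t U).subgroupOf X) := by
    rw [Nat.card_congr (subgroupOfEquivOfLe l1).toEquiv,
      Nat.card_congr (subgroupOfEquivOfLe l2).toEquiv]
    exact (card_conj_smul U t).symm
  obtain ⟨B, b1, b2, b3⟩ := c.wl.bc
  obtain ⟨B', b1', b2', b3'⟩ := k.swap.wl.bc
  have s1 := side (S₂ := H63.cj t U) l1 c.wl.ind c.wl.zc (le_inf (le_inf ((b1.trans inf_le_left).trans LX)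
    (b1.trans inf_le_right)) ((b1.trans inf_le_left).trans (c1.trans (H83.cent_anti UL2)))) b2 b3
    UL (le_inf LX (c1.trans (H83.cent_anti UL2))) pf
  have s2 := side (S₂ := U) l2 k.swap.wl.ind k.swap.wl.zc (le_inf (le_inf
    ((b1'.trans inf_le_left).trans L2X) (b1'.trans inf_le_right))
    ((b1'.trans inf_le_left).trans (c2.trans (H83.cent_anti UL)))) b2' b3'
    UL2 (le_inf L2X (c2.trans (H83.cent_anti UL))) pf2
  have h := S2767.result _ _ _ (split_top _ hp hc s1 s2) (split_top _ (idp_symm hp) hc.symm s2 s1)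
    hp.2.2.1
  rw [hp.2.2.2.1, show normalClosure ((⊥ : Subgroup X) : Set X) = ⊥ from normalClosure_eq_self ⊥,
    bot_sup_eq] at h
  have nc : ∀ {A : Subgroup G} {a : G} (ha : a ∈ A) (hX : a ∈ X), a ≠ 1 →
      normalClosure ((A.subgroupOf X : Subgroup X) : Set X) = ⊤ := by
    intro A a ha hX h1
    refine (normalClosure_normal.eq_bot_or_eq_top).resolve_left fun h0 => h1 ?_
    have : (⟨a, hX⟩ : X) ∈ normalClosure ((A.subgroupOf X : Subgroup X) : Set X) :=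
      subset_normalClosure ha
    rw [h0, mem_bot] at this
    exact congrArg Subtype.val this
  rw [nc c.wZ.1 wX c.w1, nc k.swap.wZ.1 (l2 k.swap.wZ.1) k.swap.w1] at h
  have hpf : Group.IsPerfect X := isPerfect_iff.2 XX
  have hw : (⟨w, wX⟩ : X) ∈ pPrimeCore 2 X := h Group.IsPerfect.mem_commutator
  have ho := odd_orderOf_of_mem (Nat.coprime_two_right.1 (H3.pPrimeCore_coprime 2 X)) hw
  exact c.w1 (congrArg Subtype.val (eq_one_of_is2 (is2_of_sq (Subtype.ext c.w2)) ho))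

end F

theorem wrU : H34.UM.WrUStmt.{u} := by
  intro G _ _ X L U W t wl wx cl t2 com hat odd e n s gen le
  obtain ⟨T, w, h⟩ := K.w0 L U t wl t2 com hat odd
  obtain ⟨a, b, c⟩ := H2W.T.sylStmt K.wk L U T t w h
  have nr := NS.nr K.wk L U T t w h cl b e
  obtain ⟨k1, k2, k3⟩ := F.fin K.wk L U T t w h X n s gen le a
    (NS.ns K.wk L U T t w h a (c nr) e nr)
  exact k3 (P.p1 K.wk L U T t w h W X wx a e n k2 gen k1)

end Cfsg.Agent.H2W
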